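/-
helper1: Bender–Glauberman 10.8–10.11 (the subgroup `M_β`), conditional on p-length one
(B&G 10.6 = S1410).  Abstract part: normal `p`-complements for all primes give nilpotency;
the normal Hall `β`-subgroup of a normal subgroup `D` with normal `p`-complements for `p ∉ β`.
-/
import Cfsg.Agent.Helper22.BG10e
import Cfsg.Agent.Helper22.Fitting
import Cfsg.Agent.Helper33.NPC
import Cfsg.Agent.Helper51.Basic
import Cfsg.Agent.Helper1.Gen
import Cfsg.Agent.S1450
import Cfsg.Agent.S1453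
import Cfsg.Agent.S1455

set_option autoImplicit false

namespace Cfsg.Agent.Helper1

open Cfsg Subgroup

section Abstract

variable {H : Type*} [Group H] [Finite H]

/-- With a normal `p`-complement, every `p'`-element lies in `O_{p'}`. -/
theorem bg108_mem_pPrimeCore {p : ℕ} [Fact p.Prime] (h : HasNormalPComplement p H) {x : H}
    (hx : (orderOf x).Coprime p) : x ∈ pPrimeCore p H := by
  obtain ⟨K, hKn, hKc, hKm⟩ := Helper33.hasNormalPComplement_iff_p'.mp h
  exact (le_sSup (show K ∈ {N : Subgroup H | N.Normal ∧ (Nat.card N).Coprime p} from ⟨hKn, hKc⟩))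
    (hKm x hx)

/-- A finite group with a normal `p`-complement for every prime `p` is nilpotent. -/
theorem bg108_nilpotent_of_npc (h : ∀ p : ℕ, p.Prime → HasNormalPComplement p H) :
    Group.IsNilpotent H := by
  refine ((Group.isNilpotent_of_finite_tfae (G := H)).out 0 3).mpr ?_
  intro p hp P
  have hpp : p.Prime := hp.out
  set T : Subgroup H := ⨅ q : {q : ℕ // q.Prime ∧ q ≠ p}, pPrimeCore q.1 H with hT
  have hTn : T.Normal := Subgroup.normal_iInf_normal (fun q => pPrimeCore_normal q.1 H)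
  have hPT : (P : Subgroup H) ≤ T := by
    intro x hx
    rw [hT, Subgroup.mem_iInf]
    rintro ⟨q, hq, hqp⟩
    haveI := Fact.mk hq
    obtain ⟨k, hk⟩ := (IsPGroup.iff_orderOf.mp P.2) ⟨x, hx⟩
    have hk' : orderOf x = p ^ k := by
      rw [← hk]; exact (Subgroup.orderOf_mk x hx).symm
    apply bg108_mem_pPrimeCore (h q hq)
    rw [hk']
    exact Nat.Coprime.pow_left k ((Nat.coprime_primes hpp hq).mpr (Ne.symm hqp))
  have hTp : IsPGroup p T := by
    intro x
    have hord : ∀ d : ℕ, d.Prime → d ∣ orderOf (x : H) → d = p := by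
      intro d hd hdx
      by_contra hne
      have hxd : (x : H) ∈ pPrimeCore d H := by
        have hx2 : (x : H) ∈ ⨅ q : {q : ℕ // q.Prime ∧ q ≠ p}, pPrimeCore q.1 H := x.2
        exact Subgroup.mem_iInf.mp hx2 ⟨d, hd, hne⟩
      have h1 : orderOf (x : H) ∣ Nat.card (pPrimeCore d H) := by
        have := orderOf_dvd_natCard (⟨(x : H), hxd⟩ : pPrimeCore d H)
        rwa [Subgroup.orderOf_mk] at this
      have h2 := Helper22.card_pPrimeCore_coprime d H
      have h3 : d ∣ Nat.gcd (Nat.card (pPrimeCore d H)) d :=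
        Nat.dvd_gcd (hdx.trans h1) dvd_rfl
      rw [h2] at h3
      exact hd.one_lt.ne' (Nat.dvd_one.mp h3)
    have hpos : orderOf (x : H) ≠ 0 := (orderOf_pos (x : H)).ne'
    have h4 := Nat.eq_prime_pow_of_unique_prime_dvd hpos (fun {d} hd hdx => hord d hd hdx)
    refine ⟨(orderOf (x : H)).primeFactorsList.length, ?_⟩
    apply Subtype.ext
    rw [Subgroup.coe_pow, ← h4, pow_orderOf_eq_one]
    rfl
  have hEq : T = (P : Subgroup H) := P.3 hTp hPT
  rw [← hEq]
  exact hTn

omit [Finite H] in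
/-- If no prime dividing the order of `S` divides the index of the normal subgroup `D`,
then `S ≤ D`. -/
theorem bg108_le_of_coprime_index (S D : Subgroup H) [D.Normal]
    (h : ∀ q : ℕ, q.Prime → q ∣ Nat.card S → ¬ q ∣ D.index) : S ≤ D := by
  intro x hx
  have h1 : orderOf ((QuotientGroup.mk' D) x) ∣ orderOf x := orderOf_map_dvd _ x
  have h2 : orderOf x ∣ Nat.card S := by
    have := orderOf_dvd_natCard (⟨x, hx⟩ : S)
    rwa [Subgroup.orderOf_mk] at this
  have h3 : orderOf ((QuotientGroup.mk' D) x) ∣ D.index := by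
    rw [Subgroup.index_eq_card]; exact orderOf_dvd_natCard _
  have h4 : orderOf ((QuotientGroup.mk' D) x) = 1 := by
    by_contra hne
    obtain ⟨q, hq, hqd⟩ := Nat.exists_prime_and_dvd hne
    exact h q hq (hqd.trans (h1.trans h2)) (hqd.trans h3)
  rw [orderOf_eq_one_iff] at h4
  exact (QuotientGroup.eq_one_iff x).mp h4

end Abstract

section Core

variable {H : Type*} [Group H] [Finite H]

/-- The normal Hall `β`-subgroup of `D` (when `D` has normal `p`-complements for `p ∉ β`). -/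
def bgK (β : Set ℕ) (D : Subgroup H) : Subgroup H :=
  D ⊓ ⨅ p : {p : ℕ // p.Prime ∧ p ∉ β}, (pPrimeCore p.1 ↥D).map D.subtype

omit [Finite H] in
theorem bgK_le (β : Set ℕ) (D : Subgroup H) : bgK β D ≤ D := inf_le_left

omit [Finite H] in
theorem bgK_normal (β : Set ℕ) (D : Subgroup H) [D.Normal] : (bgK β D).Normal := by
  haveI h1 : ∀ p : {p : ℕ // p.Prime ∧ p ∉ β}, ((pPrimeCore p.1 ↥D).map D.subtype).Normal := by
    intro p
    haveI := Helper22.pPrimeCore_characteristic p.1 ↥D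
    exact ConjAct.normal_of_characteristic_of_normal
  haveI h2 : (⨅ p : {p : ℕ // p.Prime ∧ p ∉ β}, (pPrimeCore p.1 ↥D).map D.subtype).Normal :=
    Subgroup.normal_iInf_normal h1
  exact Subgroup.normal_inf_normal _ _

theorem bgK_primes (β : Set ℕ) (D : Subgroup H) {q : ℕ} (hq : q.Prime)
    (hd : q ∣ Nat.card (bgK β D)) : q ∈ β := by
  by_contra hqβ
  have h1 : bgK β D ≤ (pPrimeCore q ↥D).map D.subtype :=
    inf_le_right.trans (iInf_le _ (⟨q, hq, hqβ⟩ : {p : ℕ // p.Prime ∧ p ∉ β}))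
  have h2 : Nat.card ((pPrimeCore q ↥D).map D.subtype) = Nat.card (pPrimeCore q ↥D) :=
    Subgroup.card_map_of_injective D.subtype_injective
  have h3 := Helper22.card_pPrimeCore_coprime q ↥D
  have h4 : q ∣ Nat.card (pPrimeCore q ↥D) := by
    rw [← h2]; exact hd.trans (Subgroup.card_dvd_of_le h1)
  have h5 : q ∣ Nat.gcd (Nat.card (pPrimeCore q ↥D)) q := Nat.dvd_gcd h4 dvd_rfl
  rw [h3] at h5
  exact hq.one_lt.ne' (Nat.dvd_one.mp h5)

theorem bgK_mem {β : Set ℕ} {D : Subgroup H}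
    (hnpc : ∀ p : ℕ, p.Prime → p ∉ β → HasNormalPComplement p ↥D) {x : H} (hxD : x ∈ D)
    (hx : ∀ p : ℕ, p.Prime → p ∉ β → (orderOf x).Coprime p) : x ∈ bgK β D := by
  refine Subgroup.mem_inf.mpr ⟨hxD, Subgroup.mem_iInf.mpr ?_⟩
  rintro ⟨p, hp, hpβ⟩
  haveI := Fact.mk hp
  have h1 : (⟨x, hxD⟩ : ↥D) ∈ pPrimeCore p ↥D := by
    apply bg108_mem_pPrimeCore (hnpc p hp hpβ)
    rw [Subgroup.orderOf_mk]; exact hx p hp hpβ
  exact ⟨⟨x, hxD⟩, h1, rfl⟩

theorem bgK_pGroup_le {β : Set ℕ} {D : Subgroup H}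
    (hnpc : ∀ p : ℕ, p.Prime → p ∉ β → HasNormalPComplement p ↥D) {q : ℕ} (hq : q.Prime)
    (hqβ : q ∈ β) {T : Subgroup H} (hT : IsPGroup q T) (hTD : T ≤ D) : T ≤ bgK β D := by
  haveI := Fact.mk hq
  intro t ht
  apply bgK_mem hnpc (hTD ht)
  intro p hp hpβ
  obtain ⟨k, hk⟩ := (IsPGroup.iff_orderOf.mp hT) ⟨t, ht⟩
  rw [Subgroup.orderOf_mk] at hk
  rw [hk]
  exact Nat.Coprime.pow_left k ((Nat.coprime_primes hq hp).mpr (fun h => hpβ (h ▸ hqβ)))

theorem bgK_relIndex {β : Set ℕ} {D : Subgroup H}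
    (hnpc : ∀ p : ℕ, p.Prime → p ∉ β → HasNormalPComplement p ↥D) {X : Subgroup H}
    (hXD : X ≤ D) {q : ℕ} (hq : q.Prime) (hqβ : q ∈ β) : ¬ q ∣ (bgK β D).relIndex X := by
  haveI := Fact.mk hq
  obtain ⟨T⟩ : Nonempty (Sylow q ↥X) := inferInstance
  have h1 : (T : Subgroup ↥X) ≤ (bgK β D).subgroupOf X := by
    intro t ht
    rw [Subgroup.mem_subgroupOf]
    exact bgK_pGroup_le hnpc hq hqβ (T.2.map X.subtype)
      ((Subgroup.map_subtype_le _).trans hXD) ⟨t, ht, rfl⟩
  exact Helper22.bg10_not_dvd_index_of_sylow_le T h1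

theorem bgK_nilpotent_of_disjoint {β : Set ℕ} {D : Subgroup H} [D.Normal]
    (hnpc : ∀ p : ℕ, p.Prime → p ∉ β → HasNormalPComplement p ↥D) {L : Subgroup H}
    (hLD : L ≤ D) (hdisj : L ⊓ bgK β D = ⊥) : Group.IsNilpotent ↥L := by
  haveI hKn := bgK_normal β D
  set N : Subgroup ↥D := (bgK β D).subgroupOf D with hN
  haveI : N.Normal := hKn.subgroupOf D
  haveI hQ : Group.IsNilpotent (↥D ⧸ N) := by
    apply bg108_nilpotent_of_npc
    intro p hp
    haveI := Fact.mk hp
    by_cases hpβ : p ∈ β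
    · apply Helper33.hasNormalPComplement_of_coprime_card
      have h1 : Nat.card (↥D ⧸ N) = (bgK β D).relIndex D := by
        rw [← Subgroup.index_eq_card]; rfl
      rw [h1, Nat.coprime_comm, Nat.Prime.coprime_iff_not_dvd hp]
      exact bgK_relIndex hnpc le_rfl hp hpβ
    · exact Helper33.hasNormalPComplement_of_surjective (QuotientGroup.mk' N)
        (QuotientGroup.mk'_surjective N) (hnpc p hp hpβ)
  let f : ↥L →* ↥D ⧸ N := (QuotientGroup.mk' N).comp (Subgroup.inclusion hLD)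
  have hf : Function.Injective f := by
    rw [injective_iff_map_eq_one]
    intro x hx
    have h1 : (Subgroup.inclusion hLD x) ∈ N := (QuotientGroup.eq_one_iff _).mp hx
    have h2 : (x : H) ∈ L ⊓ bgK β D := ⟨x.2, Subgroup.mem_subgroupOf.mp h1⟩
    rw [hdisj, Subgroup.mem_bot] at h2
    exact Subtype.ext h2
  exact (Group.isNilpotent_congr (MonoidHom.ofInjective hf)).mpr inferInstance

theorem bgK_exists_compl {β : Set ℕ} {D : Subgroup H} [D.Normal]
    (hnpc : ∀ p : ℕ, p.Prime → p ∉ β → HasNormalPComplement p ↥D) {X : Subgroup H}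
    (hKX : bgK β D ≤ X) (hXD : X ≤ D) :
    ∃ L : Subgroup H, L ≤ X ∧ Group.IsNilpotent ↥L ∧
      (∀ q : ℕ, q.Prime → q ∣ Nat.card L → q ∉ β) ∧
      ∀ q : ℕ, q.Prime → q ∉ β → ¬ q ∣ L.relIndex X := by
  haveI hKn := bgK_normal β D
  set N : Subgroup ↥X := (bgK β D).subgroupOf X with hN
  haveI : N.Normal := hKn.subgroupOf X
  have hcardN : Nat.card N = Nat.card (bgK β D) :=
    Nat.card_congr (Subgroup.subgroupOfEquivOfLe hKX).toEquiv
  have hidx : N.index = (bgK β D).relIndex X := rfl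
  have hcop : Nat.Coprime (Nat.card N) N.index := by
    refine Nat.coprime_of_dvd (fun k hk hkN hkI => ?_)
    rw [hcardN] at hkN
    exact bgK_relIndex hnpc hXD hk (bgK_primes β D hk hkN) (hidx ▸ hkI)
  obtain ⟨L₀, hL₀⟩ := Subgroup.exists_right_complement'_of_coprime hcop
  refine ⟨L₀.map X.subtype, Subgroup.map_subtype_le _, ?_, ?_, ?_⟩
  · apply bgK_nilpotent_of_disjoint hnpc ((Subgroup.map_subtype_le _).trans hXD)
    rw [eq_bot_iff]
    rintro y ⟨⟨z, hz, rfl⟩, hy2⟩
    have h1 : z ∈ N ⊓ L₀ := ⟨Subgroup.mem_subgroupOf.mpr hy2, hz⟩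
    rw [hL₀.disjoint.eq_bot, Subgroup.mem_bot] at h1
    rw [Subgroup.mem_bot, h1]; rfl
  · intro q hq hqd hqβ
    have h1 : Nat.card (L₀.map X.subtype) = Nat.card L₀ :=
      Subgroup.card_map_of_injective X.subtype_injective
    rw [h1, ← hL₀.symm.index_eq_card] at hqd
    exact bgK_relIndex hnpc hXD hq hqβ hqd
  · intro q hq hqβ hqd
    rw [Helper22.bg10_relIndex_map_subtype X L₀, hL₀.index_eq_card, hcardN] at hqd
    exact hqβ (bgK_primes β D hq hqd)

/-- If every prime of `π` fails to divide the index of the normal subgroup `D`, then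
`O_π(H) ≤ D`. -/
theorem bg108_piCore_le (π : Set ℕ) (D : Subgroup H) [D.Normal]
    (h : ∀ q : ℕ, q.Prime → q ∈ π → ¬ q ∣ D.index) : piCore π H ≤ D :=
  bg108_le_of_coprime_index _ D
    (fun q hq hqd => h q hq (Helper23.mem_of_dvd_card_piCore π hq hqd))

end Core

section Narrow

variable {R : Type*} [Group R]

/-- The join of two elementwise-commuting elementary abelian subgroups is elementary abelian. -/
theorem bg108_sup_elemAb {p : ℕ} {A B : Subgroup R} (hA : IsElementaryAbelian p A)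
    (hB : IsElementaryAbelian p B) (hc : ∀ a ∈ A, ∀ b ∈ B, a * b = b * a) :
    IsElementaryAbelian p (A ⊔ B) := by
  have hcomm := Helper51.sup_isMulCommutative A B hA.1 hB.1 hc
  refine ⟨hcomm, ?_⟩
  intro y hy
  have e : A ⊔ B = closure ((A : Set R) ∪ B) := by
    rw [Subgroup.closure_union, closure_eq, closure_eq]
  have hy' : y ∈ closure ((A : Set R) ∪ B) := e ▸ hy
  refine Subgroup.closure_induction (p := fun y _ => y ^ p = 1) ?_ ?_ ?_ ?_ hy'
  · intro z hz
    rcases hz with hz | hz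
    · exact hA.2 z hz
    · exact hB.2 z hz
  · exact one_pow p
  · intro a b ha hb ha' hb'
    have hab : Commute a b := Helper51.comm_of_mem hcomm (e ▸ ha) (e ▸ hb)
    rw [hab.mul_pow, ha', hb', one_mul]
  · intro a _ ha'
    rw [inv_pow, ha', inv_one]

/-- `⟨y⟩` is elementary abelian when `y ^ p = 1`. -/
theorem bg108_zpowers_elemAb {p : ℕ} {y : R} (hy : y ^ p = 1) :
    IsElementaryAbelian p (zpowers y) := by
  refine ⟨Helper51.isMulCommutative_of_comm ?_, ?_⟩
  · intro a ha b hb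
    obtain ⟨i, rfl⟩ := mem_zpowers_iff.mp ha
    obtain ⟨j, rfl⟩ := mem_zpowers_iff.mp hb
    exact ((Commute.refl y).zpow_zpow i j).eq
  · intro a ha
    obtain ⟨i, rfl⟩ := mem_zpowers_iff.mp ha
    rw [← zpow_natCast, ← zpow_mul, mul_comm, zpow_mul, zpow_natCast, hy, one_zpow]

/-- **Bender–Glauberman 5.3? (narrowness criterion)**: an odd `p`-group with a maximal
elementary abelian subgroup of order `p ^ 2` is narrow. -/
theorem bg108_narrow_of_max [Finite R] (p : ℕ) [Fact p.Prime] (hp : p ≠ 2) (hR : IsPGroup p R)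
    (E : Subgroup R) (hE : IsElementaryAbelian p E) (hE2 : Nat.card E = p ^ 2)
    (hmax : ∀ B : Subgroup R, IsElementaryAbelian p B → E ≤ B → B = E) : IsNarrow p R := by
  by_cases hr : PRankLE p 2 R
  · exact Or.inl hr
  right
  have hpp : p.Prime := Fact.out
  obtain ⟨hET, hZ, -, hTchar, hTidx⟩ := Cfsg.Agent.S1453.result p hp hR hr E hE hE2 hmax
  set T : Subgroup R := Subgroup.centralizer ((Subgroup.closure
    {x : R | x ∈ Subgroup.upperCentralSeries R 2 ∧ x ^ p = 1} : Subgroup R) : Set R) with hT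
  set Z₁ : Subgroup R := Subgroup.closure {x : R | x ∈ Subgroup.center R ∧ x ^ p = 1} with hZ₁
  obtain ⟨x, hxE, hxT⟩ := SetLike.not_le_iff_exists.mp hET
  have hx1 : x ≠ 1 := fun h => hxT (h ▸ one_mem T)
  have hxp : x ^ p = 1 := hE.2 x hxE
  have hox : orderOf x = p := orderOf_eq_prime hxp hx1
  have hcx : Nat.card (zpowers x) = p := by rw [Nat.card_zpowers, hox]
  have hZc : Z₁ ≤ Subgroup.center R := by
    rw [hZ₁, Subgroup.closure_le]; intro y hy; exact hy.1
  have hZT : Z₁ ≤ T := fun y hy => by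
    rw [hT, Subgroup.mem_centralizer_iff]
    intro w _
    exact (Subgroup.mem_center_iff.mp (hZc hy) w)
  have hZcomm : ∀ a : R, ∀ b ∈ Z₁, a * b = b * a := fun a b hb =>
    (Subgroup.mem_center_iff.mp (hZc hb) a)
  have hZe : IsElementaryAbelian p Z₁ := by
    refine ⟨Helper51.isMulCommutative_of_comm (fun a _ b hb => hZcomm a b hb), ?_⟩
    intro y hy
    refine Subgroup.closure_induction (p := fun y _ => y ^ p = 1) ?_ ?_ ?_ ?_ hy
    · intro z hz; exact hz.2
    · exact one_pow p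
    · intro a b _ hb ha' hb'
      have hab : Commute a b := hZcomm a b hb
      rw [hab.mul_pow, ha', hb', one_mul]
    · intro a _ ha'
      rw [inv_pow, ha', inv_one]
  have hZE : Z₁ ≤ E := by
    have h1 := bg108_sup_elemAb hE hZe (fun a _ b hb => hZcomm a b hb)
    have h2 := hmax _ h1 le_sup_left
    rw [← h2]; exact le_sup_right
  -- `E = ⟨x⟩ Z₁`
  have hxZ : zpowers x ⊔ Z₁ = E := by
    have hle : zpowers x ⊔ Z₁ ≤ E := sup_le (zpowers_le.mpr hxE) hZE
    have hlt : zpowers x < zpowers x ⊔ Z₁ := by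
      refine lt_of_le_of_ne le_sup_left ?_
      intro h
      have h1 : Z₁ ≤ zpowers x := by rw [h]; exact le_sup_right
      have h2 : Z₁ = zpowers x :=
        Subgroup.eq_of_le_of_card_ge h1 (by rw [hcx, hZ])
      exact hxT (hZT (h2 ▸ mem_zpowers x))
    have hd : Nat.card ↥(zpowers x ⊔ Z₁) ∣ p ^ 2 := hE2 ▸ Subgroup.card_dvd_of_le hle
    obtain ⟨k, hk2, hk⟩ := (Nat.dvd_prime_pow hpp).mp hd
    have hgt : p < Nat.card ↥(zpowers x ⊔ Z₁) := by
      rw [← hcx]; exact card_lt_card_of_lt hlt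
    have hk' : k = 2 := by
      rw [hk] at hgt
      have : 1 < k := by
        by_contra hcon
        push Not at hcon
        have : p ^ k ≤ p ^ 1 := Nat.pow_le_pow_right hpp.pos hcon
        rw [pow_one] at this
        omega
      omega
    exact Subgroup.eq_of_le_of_card_ge hle (by rw [hE2, hk, hk'])
  -- elements of order `p` commuting with `x` lie in `E`
  have hmem : ∀ y : R, y ^ p = 1 → x * y = y * x → y ∈ E := by
    intro y hy hxy
    have hc : ∀ a ∈ E, ∀ b ∈ zpowers y, a * b = b * a := by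
      intro a ha b hb
      obtain ⟨j, rfl⟩ := mem_zpowers_iff.mp hb
      have hay : Commute a y := by
        have h1 : E ≤ centralizer ({y} : Set R) := by
          rw [← hxZ]
          refine sup_le (zpowers_le.mpr ?_) ?_
          · rw [Subgroup.mem_centralizer_iff]
            intro w hw
            rw [Set.mem_singleton_iff] at hw
            rw [hw]; exact hxy.symm
          · intro z hz
            rw [Subgroup.mem_centralizer_iff]
            intro w _
            exact hZcomm w z hz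
        exact ((Subgroup.mem_centralizer_iff.mp (h1 ha)) y (Set.mem_singleton y)).symm
      exact (hay.zpow_right j).eq
    have h1 := bg108_sup_elemAb hE (bg108_zpowers_elemAb hy) hc
    have h2 := hmax _ h1 le_sup_left
    rw [← h2]; exact (le_sup_right : zpowers y ≤ E ⊔ zpowers y) (mem_zpowers y)
  set R₁ : Subgroup R := T ⊓ centralizer ((zpowers x : Subgroup R) : Set R) with hR₁
  have hETlt : Nat.card ↥(E ⊓ T) ≤ p := by
    have hlt : E ⊓ T < E := by
      refine lt_of_le_of_ne inf_le_left (fun h => hxT ?_)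
      have h' : x ∈ E ⊓ T := by rw [h]; exact hxE
      exact h'.2
    have hd : Nat.card ↥(E ⊓ T) ∣ p ^ 2 := hE2 ▸ Subgroup.card_dvd_of_le inf_le_left
    obtain ⟨k, hk2, hk⟩ := (Nat.dvd_prime_pow hpp).mp hd
    have hlt' : Nat.card ↥(E ⊓ T) < p ^ 2 := by
      rw [← hE2]; exact card_lt_card_of_lt hlt
    rw [hk] at hlt' ⊢
    have hk1 : k ≤ 1 := by
      by_contra hcon
      push Not at hcon
      have hk' : k = 2 := by omega
      rw [hk'] at hlt'
      exact lt_irrefl _ hlt'
    calc p ^ k ≤ p ^ 1 := Nat.pow_le_pow_right hpp.pos hk1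
      _ = p := pow_one p
  have hR₁rk : PRankLE p 1 ↥R₁ := by
    intro A _ hAp
    have h1 : A.map R₁.subtype ≤ E ⊓ T := by
      rintro _ ⟨a, ha, rfl⟩
      have ha2 : (a : R) ∈ R₁ := a.2
      refine ⟨hmem _ ?_ ?_, ha2.1⟩
      · have := hAp a ha
        have h3 := congrArg Subtype.val this
        simpa using h3
      · exact ((Subgroup.mem_centralizer_iff.mp ha2.2) x (mem_zpowers x))
    have h2 : Nat.card (A.map R₁.subtype) = Nat.card A :=
      Subgroup.card_map_of_injective R₁.subtype_injective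
    rw [pow_one, ← h2]
    exact (Subgroup.card_le_of_le h1).trans hETlt
  have hR₁c : IsCyclic ↥R₁ := Helper49.isCyclic_of_pRankLE_one hp (hR.to_subgroup R₁) hR₁rk
  refine ⟨zpowers x, R₁, hcx, hR₁c, ?_, ?_, ?_⟩
  · -- disjoint
    have hle : zpowers x ⊓ R₁ ≤ zpowers x ⊓ T := inf_le_inf_left _ inf_le_left
    have hd : Nat.card ↥(zpowers x ⊓ T) ∣ p := hcx ▸ Subgroup.card_dvd_of_le inf_le_left
    rcases (Nat.dvd_prime hpp).mp hd with h1 | h1
    · rw [eq_bot_iff]
      exact hle.trans (le_of_eq (Subgroup.eq_bot_of_card_eq _ h1))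
    · exfalso
      have h2 : zpowers x ⊓ T = zpowers x :=
        Subgroup.eq_of_le_of_card_ge inf_le_left (by rw [hcx, h1])
      have h3 : x ∈ zpowers x ⊓ T := by rw [h2]; exact mem_zpowers x
      exact hxT h3.2
  · intro a ha b hb
    exact (Subgroup.mem_centralizer_iff.mp hb.2) a ha
  · apply le_antisymm
    · refine sup_le ?_ inf_le_right
      rw [zpowers_le, Subgroup.mem_centralizer_iff]
      intro w hw
      obtain ⟨j, rfl⟩ := mem_zpowers_iff.mp hw
      exact ((Commute.refl x).zpow_left j).eq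
    · intro y hy
      haveI hTn : T.Normal := by
        haveI := hTchar
        exact Subgroup.normal_of_characteristic T
      have hcq : Nat.card (R ⧸ T) = p := by rw [← Subgroup.index_eq_card]; exact hTidx
      have hx' : (QuotientGroup.mk' T x) ≠ 1 := by
        intro h; exact hxT ((QuotientGroup.eq_one_iff x).mp h)
      have htop := zpowers_eq_top_of_prime_card hcq hx'
      have hy' : QuotientGroup.mk' T y ∈ zpowers (QuotientGroup.mk' T x) := by
        rw [htop]; exact Subgroup.mem_top _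
      obtain ⟨k, hk⟩ := mem_zpowers_iff.mp hy'
      have h1 : (x ^ k)⁻¹ * y ∈ T := by
        have h2 : QuotientGroup.mk' T (x ^ k) = QuotientGroup.mk' T y := by
          rw [map_zpow]; exact hk
        exact QuotientGroup.eq.mp h2
      have h3 : (x ^ k)⁻¹ * y ∈ centralizer ((zpowers x : Subgroup R) : Set R) := by
        refine Subgroup.mul_mem _ (Subgroup.inv_mem _ ?_) hy
        rw [Subgroup.mem_centralizer_iff]
        intro w hw
        obtain ⟨j, rfl⟩ := mem_zpowers_iff.mp hw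
        exact ((Commute.refl x).zpow_zpow j k).eq
      have h4 : y = x ^ k * ((x ^ k)⁻¹ * y) := by group
      rw [h4]
      exact Subgroup.mul_mem_sup (zpow_mem (mem_zpowers x) k) ⟨h1, h3⟩

end Narrow

section Main

universe u

variable {G : Type u} [Group G] [Finite G]

/-- If `p` does not divide the index of `M`, `M` has `p`-rank at least three and `p` is not an
ideal prime of `G`, then every Sylow `p`-subgroup of `M` is narrow. -/
theorem bg108_sylow_narrow {M : Subgroup G} {p : ℕ} [Fact p.Prime] (hp2 : p ≠ 2)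
    (hidx : ¬ p ∣ M.index) (hr : ¬ PRankLE p 2 ↥M) (hni : ¬ IsIdealPrime p G)
    (S : Sylow p ↥M) : IsNarrow p ↥(S : Subgroup ↥M) := by
  have hpp : p.Prime := Fact.out
  have hrG : ¬ PRankLE p 2 G := by
    intro h
    apply hr
    intro A hAc hAp
    have h1 := h (A.map M.subtype)
      (Helper51.isMulCommutative_of_comm (by
        rintro _ ⟨a, ha, rfl⟩ _ ⟨b, hb, rfl⟩
        have := Helper51.comm_of_mem hAc ha hb
        rw [← map_mul, this, map_mul]))
      (by
        rintro _ ⟨a, ha, rfl⟩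
        rw [← map_pow, hAp a ha, map_one])
    rwa [Subgroup.card_map_of_injective M.subtype_injective] at h1
  have hex : ∃ (P : Sylow p G) (A : Subgroup G), A ≤ (P : Subgroup G) ∧
      IsElementaryAbelian p A ∧ Nat.card A = p ^ 2 ∧
      ∀ B : Subgroup G, B ≤ (P : Subgroup G) → IsElementaryAbelian p B → ¬ A < B := by
    by_contra hcon
    apply hni
    refine ⟨hpp, hrG, ?_⟩
    intro P A hAP hA hA2
    by_contra hB
    apply hcon
    refine ⟨P, A, hAP, hA, hA2, ?_⟩
    intro B hBP hB' hlt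
    exact hB ⟨B, hBP, hB', hlt⟩
  obtain ⟨P, A, hAP, hA, hA2, hAmax⟩ := hex
  set Q : Subgroup G := (S : Subgroup ↥M).map M.subtype with hQ
  have hcardQ : Nat.card Q = p ^ (Nat.card G).factorization p := by
    rw [hQ, Subgroup.card_map_of_injective M.subtype_injective, Sylow.card_eq_multiplicity]
    congr 1
    rw [← Subgroup.card_mul_index M, Nat.factorization_mul Nat.card_pos.ne'
      Subgroup.index_ne_zero_of_finite, Finsupp.add_apply,
      Nat.factorization_eq_zero_of_not_dvd hidx, add_zero]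
  obtain ⟨g, hg⟩ := MulAction.exists_smul_eq G P (Sylow.ofCard Q hcardQ)
  have hgQ : ∀ y : G, y ∈ Q ↔ g⁻¹ * y * g ∈ (P : Subgroup G) := by
    intro y
    have h0 := Sylow.coe_subgroup_smul (g := g) (P := P)
    rw [hg, Sylow.coe_ofCard] at h0
    rw [h0, Subgroup.mem_pointwise_smul_iff_inv_smul_mem]
    simp [MulAut.smul_def]
  let ι : ↥(S : Subgroup ↥M) →* G := M.subtype.comp (S : Subgroup ↥M).subtype
  have hι : Function.Injective ι :=
    M.subtype_injective.comp (Subgroup.subtype_injective _)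
  have hιQ : ∀ s, ι s ∈ Q := fun s => ⟨s.1, s.2, rfl⟩
  have hQι : ∀ y ∈ Q, ∃ s, ι s = y := by
    rintro _ ⟨m, hm, rfl⟩; exact ⟨⟨m, hm⟩, rfl⟩
  have hcancel : ∀ a : G, g⁻¹ * (g * a * g⁻¹) * g = a := fun a => by group
  let E : Subgroup ↥(S : Subgroup ↥M) := (A.map (MulAut.conj g).toMonoidHom).comap ι
  have hEmem : ∀ s, s ∈ E ↔ g⁻¹ * ι s * g ∈ A := by
    intro s
    constructor
    · rintro ⟨a, ha, hsa⟩
      have h1 : ι s = g * a * g⁻¹ := by rw [← hsa]; rfl
      rw [h1, hcancel]; exact ha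
    · intro h
      refine ⟨g⁻¹ * ι s * g, h, ?_⟩
      show g * (g⁻¹ * ι s * g) * g⁻¹ = ι s
      group
  have hEe : IsElementaryAbelian p E := by
    refine ⟨Helper51.isMulCommutative_of_comm ?_, ?_⟩
    · intro a ha b hb
      apply hι
      rw [map_mul, map_mul]
      have h1 := Helper51.comm_of_mem hA.1 ((hEmem a).mp ha) ((hEmem b).mp hb)
      calc ι a * ι b = g * ((g⁻¹ * ι a * g) * (g⁻¹ * ι b * g)) * g⁻¹ := by group
        _ = g * ((g⁻¹ * ι b * g) * (g⁻¹ * ι a * g)) * g⁻¹ := by rw [h1]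
        _ = ι b * ι a := by group
    · intro a ha
      apply hι
      rw [map_pow, map_one]
      have h1 := hA.2 _ ((hEmem a).mp ha)
      have h2 : ι a = g * (g⁻¹ * ι a * g) * g⁻¹ := by group
      rw [h2, conj_pow, h1]; group
  have hE2 : Nat.card E = p ^ 2 := by
    have h1 : (A.map (MulAut.conj g).toMonoidHom) ≤ ι.range := by
      rintro _ ⟨a, ha, rfl⟩
      obtain ⟨s, hs⟩ := hQι (g * a * g⁻¹) ((hgQ _).mpr (by rw [hcancel]; exact hAP ha))
      exact ⟨s, by rw [hs]; rfl⟩
    have h2 : E.map ι = A.map (MulAut.conj g).toMonoidHom := Subgroup.map_comap_eq_self h1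
    rw [← Subgroup.card_map_of_injective hι, h2,
      Subgroup.card_map_of_injective (MulAut.conj g).injective, hA2]
  have hEmax : ∀ B : Subgroup ↥(S : Subgroup ↥M), IsElementaryAbelian p B → E ≤ B → B = E := by
    intro B hB hEB
    refine le_antisymm ?_ hEB
    set B₁ : Subgroup G := (B.map ι).map (MulAut.conj g⁻¹).toMonoidHom with hB₁
    have hB₁mem : ∀ y, y ∈ B₁ ↔ ∃ b ∈ B, y = g⁻¹ * ι b * g := by
      intro y
      constructor
      · rintro ⟨_, ⟨b, hb, rfl⟩, rfl⟩
        exact ⟨b, hb, by simp⟩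
      · rintro ⟨b, hb, rfl⟩
        exact ⟨ι b, ⟨b, hb, rfl⟩, by simp⟩
    have hB₁P : B₁ ≤ (P : Subgroup G) := by
      intro y hy
      obtain ⟨b, hb, rfl⟩ := (hB₁mem y).mp hy
      exact (hgQ _).mp (hιQ b)
    have hB₁e : IsElementaryAbelian p B₁ := by
      refine ⟨Helper51.isMulCommutative_of_comm ?_, ?_⟩
      · intro y hy z hz
        obtain ⟨b, hb, rfl⟩ := (hB₁mem y).mp hy
        obtain ⟨c, hc, rfl⟩ := (hB₁mem z).mp hz
        have h1 : b * c = c * b := Helper51.comm_of_mem hB.1 hb hc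
        have h2 : ι b * ι c = ι c * ι b := by rw [← map_mul, h1, map_mul]
        calc g⁻¹ * ι b * g * (g⁻¹ * ι c * g) = g⁻¹ * (ι b * ι c) * g := by group
          _ = g⁻¹ * (ι c * ι b) * g := by rw [h2]
          _ = g⁻¹ * ι c * g * (g⁻¹ * ι b * g) := by group
      · intro y hy
        obtain ⟨b, hb, rfl⟩ := (hB₁mem y).mp hy
        have h1 : b ^ p = 1 := hB.2 b hb
        have h2 : (ι b) ^ p = 1 := by rw [← map_pow, h1, map_one]
        have h3 : g⁻¹ * ι b * g = g⁻¹ * ι b * g⁻¹⁻¹ := by rw [inv_inv]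
        rw [h3, conj_pow, h2]; group
    have hAB₁ : A ≤ B₁ := by
      intro a ha
      have h1 : g * a * g⁻¹ ∈ Q := (hgQ _).mpr (by rw [hcancel]; exact hAP ha)
      obtain ⟨s, hs⟩ := hQι _ h1
      have hsE : s ∈ E := (hEmem s).mpr (by rw [hs, hcancel]; exact ha)
      exact (hB₁mem a).mpr ⟨s, hEB hsE, by rw [hs, hcancel]⟩
    have hB₁A : B₁ ≤ A := by
      by_contra hcon
      exact hAmax B₁ hB₁P hB₁e (lt_of_le_not_ge hAB₁ hcon)
    intro b hb
    exact (hEmem b).mpr (hB₁A ((hB₁mem _).mpr ⟨b, hb, rfl⟩))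
  exact bg108_narrow_of_max p hp2 S.isPGroup' E hEe hE2 hEmax

/-- **Bender–Glauberman 10.8–10.11** (the subgroup `M_β`), from the Uniqueness Theorem and
`p`-length one of proper subgroups (B&G 10.6). -/
theorem bg108_main (hG : IsMinSimpleOddOrder G) (hU : Helper22.BGUniq G)
    (hpl : ∀ (p : ℕ) [Fact p.Prime] (H : Subgroup G), H ≠ ⊤ → PLengthLE p 1 ↥H)
    (M : Subgroup G) (hM : IsCoatom M) :
    IsPiHallOf (beta M) (piCoreOf (beta M) M) M ∧ IsPiHall (beta M) (piCoreOf (beta M) M) ∧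
      (∃ H : Subgroup G, IsPiHallOf {q | q.Prime ∧ q ∉ beta M} H ⁅M, M⁆ ∧
        Group.IsNilpotent H) ∧
      (∃ H : Subgroup G, IsPiHallOf {q | q.Prime ∧ q ∉ beta M} H (sigmaCore M) ∧
        Group.IsNilpotent H) ∧
      ∀ p : ℕ, p.Prime → p ∣ Nat.card M → p ∉ beta M →
        HasNormalPComplement p ↥⁅M, M⁆ ∧ HasNormalPComplement p ↥(sigmaCore M) ∧
        ∀ q : ℕ, q.Prime → q ∣ (pPrimeCore p ↥M).index → q ≤ p := by
  haveI hsolv : Group.IsSolvable ↥M := Helper23.uq_isSolvable hG hM.1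
  have hodd : Odd (Nat.card ↥M) := Helper23.uq_odd hG M
  have hβα : beta M ⊆ alpha M := fun p hp => hp.1
  have hασ := Helper22.bg10_alpha_sub_sigma hG hU hM
  have hβσ : beta M ⊆ sigma M := hβα.trans hασ
  have key : ∀ p : ℕ, p.Prime → p ∣ Nat.card ↥M → p ∉ beta M →
      HasNormalPComplement p ↥(commutator ↥M) ∧
        ∀ q : ℕ, q.Prime → q ∣ (pPrimeCore p ↥M).index → q ≤ p := by
    intro p hp hpM hpβ
    haveI := Fact.mk hp
    by_cases hr : PRankLE p 2 ↥M
    · obtain ⟨h1, -, h3, -⟩ := Cfsg.Agent.S1450.result hodd p hpM hr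
      exact ⟨h3, h1⟩
    · have hpα : p ∈ alpha M := ⟨hp, hr⟩
      have hni : ¬ IsIdealPrime p G := fun h => hpβ ⟨hpα, h⟩
      have hp2 : p ≠ 2 := by
        rintro rfl
        exact (Nat.not_even_iff_odd.mpr hodd) (even_iff_two_dvd.mpr hpM)
      obtain ⟨S⟩ : Nonempty (Sylow p ↥M) := inferInstance
      have hS := bg108_sylow_narrow hp2 (Helper22.bg10_sigma_not_dvd_index (hασ hpα)) hr hni S
      obtain ⟨h1, -, h3, -⟩ :=
        Cfsg.Agent.S1455.result hodd p hpM S hS (fun _ => hpl p M hM.1)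
      exact ⟨h3, h1⟩
  have hnpc : ∀ p : ℕ, p.Prime → p ∉ beta M → HasNormalPComplement p ↥(commutator ↥M) := by
    intro p hp hpβ
    haveI := Fact.mk hp
    by_cases hpM : p ∣ Nat.card ↥M
    · exact (key p hp hpM hpβ).1
    · apply Helper33.hasNormalPComplement_of_coprime_card
      rw [Nat.coprime_comm, Nat.Prime.coprime_iff_not_dvd hp]
      exact fun h => hpM (h.trans (Subgroup.card_subgroup_dvd_card _))
  set D : Subgroup ↥M := commutator ↥M with hD
  have hsylD : ∀ q ∈ sigma M, ∃ P₀ : Sylow q ↥M, (P₀ : Subgroup ↥M) ≤ D := by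
    rintro q ⟨hq, -, P₀, hN⟩
    haveI := Fact.mk hq
    exact ⟨P₀, Helper22.bg10_sylow_le_commutator' hG hU hM P₀ hN⟩
  have hDidx : ∀ q : ℕ, q.Prime → q ∈ sigma M → ¬ q ∣ D.index := by
    intro q hq hqσ
    haveI := Fact.mk hq
    obtain ⟨P₀, hP₀⟩ := hsylD q hqσ
    exact Helper22.bg10_not_dvd_index_of_sylow_le P₀ hP₀
  set K : Subgroup ↥M := bgK (beta M) D with hK
  haveI hKn : K.Normal := bgK_normal (beta M) D
  have hKβ : K ≤ piCore (beta M) ↥M :=
    le_sSup ⟨hKn, fun q hq hqd => bgK_primes (beta M) D hq hqd⟩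
  have hKσ : K ≤ piCore (sigma M) ↥M :=
    le_sSup ⟨hKn, fun q hq hqd => hβσ (bgK_primes (beta M) D hq hqd)⟩
  have hsyl : ∀ p ∈ beta M, ∃ P₀ : Sylow p ↥M, (P₀ : Subgroup ↥M) ≤ piCore (beta M) ↥M := by
    intro p hpβ
    obtain ⟨P₀, hP₀⟩ := hsylD p (hβσ hpβ)
    have hp : p.Prime := hpβ.1.1
    exact ⟨P₀, (bgK_pGroup_le hnpc hp hpβ P₀.2 hP₀).trans hKβ⟩
  obtain ⟨ha1, ha2⟩ := Helper22.bg10_piCoreOf_hall hβσ hsyl
  have hSD : piCore (sigma M) ↥M ≤ D := bg108_piCore_le (sigma M) D hDidx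
  obtain ⟨L, hLD, hLnil, hLp, hLi⟩ := bgK_exists_compl hnpc (bgK_le (beta M) D) (le_refl D)
  obtain ⟨L', hL'S, hL'nil, hL'p, hL'i⟩ := bgK_exists_compl hnpc hKσ hSD
  refine ⟨ha1, ha2, ⟨L.map M.subtype, ⟨?_, ?_, ?_⟩, ?_⟩, ⟨L'.map M.subtype, ⟨?_, ?_, ?_⟩, ?_⟩, ?_⟩
  · rw [← Subgroup.map_subtype_commutator]; exact Subgroup.map_mono hLD
  · intro q hq hqd
    rw [Subgroup.card_map_of_injective M.subtype_injective] at hqd
    exact ⟨hq, hLp q hq hqd⟩
  · rintro q hq ⟨-, hqβ⟩ hqd
    rw [← Subgroup.map_subtype_commutator,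
      Subgroup.relIndex_map_map_of_injective _ _ M.subtype_injective] at hqd
    exact hLi q hq hqβ hqd
  · exact (Group.isNilpotent_congr (L.equivMapOfInjective M.subtype M.subtype_injective)).mp hLnil
  · exact Subgroup.map_mono hL'S
  · intro q hq hqd
    rw [Subgroup.card_map_of_injective M.subtype_injective] at hqd
    exact ⟨hq, hL'p q hq hqd⟩
  · rintro q hq ⟨-, hqβ⟩ hqd
    have h1 : (L'.map M.subtype).relIndex (sigmaCore M) = L'.relIndex (piCore (sigma M) ↥M) :=
      Subgroup.relIndex_map_map_of_injective _ _ M.subtype_injective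
    rw [h1] at hqd
    exact hL'i q hq hqβ hqd
  · exact (Group.isNilpotent_congr
      (L'.equivMapOfInjective M.subtype M.subtype_injective)).mp hL'nil
  · intro p hp hpM hpβ
    haveI := Fact.mk hp
    obtain ⟨h1, h2⟩ := key p hp hpM hpβ
    refine ⟨?_, ?_, h2⟩
    · rw [← Subgroup.map_subtype_commutator]
      exact Helper33.hasNormalPComplement_of_injective
        (D.equivMapOfInjective M.subtype M.subtype_injective).symm.toMonoidHom
        (MulEquiv.injective _) h1
    · show HasNormalPComplement p ↥((piCore (sigma M) ↥M).map M.subtype)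
      exact Helper33.hasNormalPComplement_of_injective
        ((Subgroup.inclusion hSD).comp ((piCore (sigma M) ↥M).equivMapOfInjective M.subtype
          M.subtype_injective).symm.toMonoidHom)
        ((Subgroup.inclusion_injective hSD).comp (MulEquiv.injective _)) h1

end Main

end Cfsg.Agent.Helper1
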