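import Cfsg.Agent.Helper1.BG95c
import Cfsg.Agent.S1398
import Cfsg.Agent.S1399
import Cfsg.Agent.S1401

/-!
# Bender–Glauberman Theorem 9.5 (S1402), part d: assembly

`bg95_main`: `A ∈ SCN_3(P)` lies in a unique maximal subgroup, given the existence of data
(`BG95Datum`), the two Frobenius-type lemmas for data (`BG95Frob`, `BG95End`) and the case where
all maximal subgroups containing `C(A)` have Fitting subgroups of rank at most two.
-/

set_option autoImplicit false

universe u

namespace Cfsg.Agent.Helper1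

open Cfsg Subgroup
open scoped Pointwise

variable {G : Type u} [Group G] [Finite G]

theorem bg95_main (hG : IsMinSimpleOddOrder G) (p : ℕ) [Fact p.Prime] (P : Sylow p G)
    (A : Subgroup G) (hA : IsSCN (P : Subgroup G) A) (hA3 : ¬ PRankLE p 2 ↥A)
    (hD : BG95Datum G) (hFr : BG95Frob G) (hEnd : BG95End G)
    (hγ : (∀ M : Subgroup G, IsCoatom M → centralizer (A : Set G) ≤ M →
      ∀ s : ℕ, s.Prime → PRankLE s 2 ↥(fittingOf M)) → InUniqueMaximal A) :
    InUniqueMaximal A := by
  classical
  by_cases hgam : ∀ M : Subgroup G, IsCoatom M → centralizer (A : Set G) ≤ M →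
      ∀ s : ℕ, s.Prime → PRankLE s 2 ↥(fittingOf M)
  · exact hγ hgam
  · push_neg at hgam
    obtain ⟨M, hM, hCM, s, hs, hF⟩ := hgam
    by_contra hnot
    exfalso
    have hpp : p.Prime := Fact.out
    have hAP : A ≤ P := hA.1
    have hAp : IsPGroup p A := P.2.to_le hAP
    have hAcent : A ≤ centralizer (A : Set G) := by
      intro a ha
      have h1 : a ∈ (P : Subgroup G) ⊓ centralizer (A : Set G) := by rw [hA.2.2]; exact ha
      exact h1.2
    have hAab : ∀ a ∈ A, ∀ b ∈ A, a * b = b * a := fun a ha b hb =>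
      (Subgroup.mem_centralizer_iff.mp (hAcent hb) a ha)
    have hAc : IsMulCommutative A := ⟨⟨fun a b => Subtype.ext (hAab a a.2 b b.2)⟩⟩
    have hA1 : A ≠ ⊥ := Helper23.f81_ne_bot_of_not_pRankLE hpp hA3
    have hpA := Helper23.dvd_card_of_isPGroup_ne_bot hAp hA1
    have hpG : p ∣ Nat.card G := hpA.trans (Subgroup.card_subgroup_dvd_card A)
    have hAr1 : ¬ PRankLE p 1 ↥A := by
      intro h
      apply hA3
      intro E hE hEe
      exact (h E hE hEe).trans (Nat.pow_le_pow_right hpp.pos (by norm_num))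
    have hTH : TransitivityHypothesis A :=
      Helper23.transitivityHypothesis_criteria hG p hpG A hAp hAc (Or.inr ⟨P, hA, hAr1⟩)
    have hZ : ¬ RankLE 2 ↥(A ⊓ centralizer (A : Set G)) := by
      intro h
      exact hA3 (Helper23.pRankLE_of_le (le_inf le_rfl hAcent) (h p hpp))
    -- the elementary abelian subgroup of order `p ^ 3`
    obtain ⟨A₀, hA₀A, hA₀c, hA₀e, hA₀card⟩ := Helper23.exists_elemAb_of_not_pRankLE hA3
    have hA₀p : IsPGroup p A₀ := bg95_isPGroup_of_exp hA₀e
    have hdvd : p ^ 3 ∣ Nat.card ↥A₀ := by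
      obtain ⟨n, hn⟩ := hA₀p.exists_card_eq
      rw [hn] at hA₀card ⊢
      have h1 : 2 < n := (Nat.pow_lt_pow_iff_right hpp.one_lt).mp hA₀card
      exact pow_dvd_pow p h1
    obtain ⟨K, hK⟩ := Sylow.exists_subgroup_card_pow_prime p hdvd
    have hEA₀ : K.map A₀.subtype ≤ A₀ := Subgroup.map_subtype_le _
    have hEcard : Nat.card ↥(K.map A₀.subtype) = p ^ 3 := by
      rw [Subgroup.card_map_of_injective A₀.subtype_injective, hK]
    have hB2 : ∀ H : Subgroup G, IsCoatom H → PRankLE p 2 ↥(fittingOf H) := by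
      intro H hH
      by_contra hF'
      exact hnot (Cfsg.Agent.S1401.result hG H hH p hF' A hAp hAc hA3)
    have hB3 : ∀ M : Subgroup G, IsCoatom M → ∀ B : Subgroup G, B ≤ K.map A₀.subtype →
        p ^ 2 ≤ Nat.card ↥B → ∃ b ∈ B, b ≠ 1 ∧ ¬ centralizer ({b} : Set G) ≤ M := by
      intro M' hM' B hBE hBc
      by_contra hcon
      push_neg at hcon
      apply hnot
      have hBA : B ≤ A := hBE.trans (hEA₀.trans hA₀A)
      have hBexp : ∀ b ∈ B, b ^ p = 1 := fun b hb => hA₀e b (hEA₀ (hBE hb))
      have hBcomm : IsMulCommutative ↥B := ⟨⟨fun a b => Subtype.ext (hAab a (hBA a.2) b (hBA b.2))⟩⟩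
      have hplt : p < Nat.card ↥B := by
        have : p < p ^ 2 := by
          have := hpp.one_lt
          nlinarith
        omega
      have hBnc : ¬ IsCyclic ↥B := Helper23.not_isCyclic_of_card_gt hpp hBexp hplt
      have hB1 : B ≠ ⊥ := by
        rintro rfl
        rw [Subgroup.card_bot] at hplt
        have := hpp.one_lt
        omega
      obtain ⟨b₀, hb₀, hb₀1⟩ := bg95_exists_ne_one hB1
      have hBM : B ≤ M' := by
        refine le_trans ?_ (hcon b₀ hb₀ hb₀1)
        intro x hx
        rw [Subgroup.mem_centralizer_iff]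
        intro h hh
        rw [Set.mem_singleton_iff] at hh
        subst hh
        exact hAab h (hBA hb₀) x (hBA hx)
      have hBU : InUniqueMaximal B :=
        Cfsg.Agent.S1398.result hG M' hM' p B hBM ⟨hBcomm, hBexp⟩ hBnc (Or.inl hcon)
      have hAB : A ≤ centralizer (B : Set G) := fun a ha =>
        Subgroup.mem_centralizer_iff.mpr (fun b hb => hAab b (hBA hb) a ha)
      have hAr : ¬ RankLE 1 ↥A := fun h => hAr1 (h p hpp)
      exact Cfsg.Agent.S1399.result hG B A hBU hAB hAr
    have ctx : BG95Ctx p A (K.map A₀.subtype) :=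
      { hG := hG
        hp := hpp
        hAp := hAp
        hAab := hAab
        hEA := hEA₀.trans hA₀A
        hEp := fun e he => hA₀e e (hEA₀ he)
        hEcard := hEcard
        hTH := fun X hX hAX Y hYX hcop hAY => Helper23.le_coreIn_of_TH hTH hAp hX hAX hYX hcop hAY
        htr := by
          intro q hq hqp Q₁ hQ₁ Q₂ hQ₂
          have hqA := Helper23.not_dvd_card_of_isPGroup hAp hq hqp
          obtain ⟨k, hk, hkQ⟩ := Helper23.trans_of_rank_three hG hTH hZ hq hqA Q₁ hQ₁ Q₂ hQ₂
          exact ⟨k, Helper23.piCoreOf_le _ _ hk, hkQ⟩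
        hB2 := hB2
        hB3 := hB3 }
    obtain ⟨W, d⟩ := hD M hM s hs hF
    have hsp : s ≠ p := by
      rintro rfl
      exact hF (hB2 M hM)
    exact ctx.beta hD hFr hEnd d hCM hsp

end Cfsg.Agent.Helper1
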