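import Cfsg.Agent.Helper23.Uniq4
import Cfsg.Agent.Helper1.BGUniqF

/-!
# Bender–Glauberman Theorem 9.5 (S1402), part a

Context (`BG95Ctx`) of a minimal counterexample, the datum (`BG95Dat`) attached to a maximal subgroup
`M` whose Fitting subgroup has `s`-rank at least three, and the first lemmas on the intersection of
the datum subgroup `W` with other maximal subgroups.
-/

set_option autoImplicit false

universe u

namespace Cfsg.Agent.Helper1

open Cfsg Subgroup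
open scoped Pointwise

variable {G : Type u} [Group G] [Finite G]

/-- The datum attached to a maximal subgroup `M` with `r_s(F(M)) ≥ 3`: a noncyclic subgroup `W` of
`O_s(M)` of exponent `s`, normal in `M`, all of whose noncyclic subgroups and all of whose
element centralizers lie in no maximal subgroup other than `M`. -/
structure BG95Dat (M : Subgroup G) (s : ℕ) (W : Subgroup G) : Prop where
  hM : IsCoatom M
  hs : s.Prime
  core : ∀ H : Subgroup G, H ≠ ⊤ → pCoreOf s M ≤ H → H ≤ M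
  hWS : W ≤ pCoreOf s M
  hMW : M ≤ normalizer (W : Set G)
  hexp : ∀ x ∈ W, x ^ s = 1
  hcard : s ^ 2 * Nat.card ↥(⁅W, W⁆ : Subgroup G) ≤ Nat.card ↥W
  hT : ∀ T : Subgroup G, T ≤ W → s ^ 2 ≤ Nat.card ↥T →
    ∀ H : Subgroup G, H ≠ ⊤ → T ≤ H → H ≤ M
  hx : ∀ x ∈ W, x ≠ 1 → ∀ H : Subgroup G, H ≠ ⊤ → centralizer ({x} : Set G) ≤ H → H ≤ M

/-- Existence of data: the statement proved by `Helper23.bg95_datum`. -/
def BG95Datum (G : Type u) [Group G] : Prop :=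
  ∀ M : Subgroup G, IsCoatom M → ∀ s : ℕ, s.Prime → ¬ PRankLE s 2 ↥(fittingOf M) →
    ∃ W : Subgroup G, BG95Dat M s W

/-- The Frobenius lemma for data (class at most two), in the ambient group. -/
def BG95Frob (G : Type u) [Group G] : Prop :=
  ∀ p q s : ℕ, p.Prime → q.Prime → s.Prime → p ≠ q → s ≠ q →
    ∀ W : Subgroup G, (∀ v ∈ W, v ^ q = 1) →
      q ^ 2 * Nat.card ↥(⁅W, W⁆ : Subgroup G) ≤ Nat.card ↥W →
    ∀ c x : G, c ∈ normalizer (W : Set G) → x ∈ normalizer (W : Set G) → c ^ p = 1 → x ^ s = 1 →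
      c * x * c⁻¹ ∈ zpowers x → c * x ≠ x * c →
      W ⊓ centralizer ({c} : Set G) ≤ centralizer ({x} : Set G) →
      q ^ 2 ≤ Nat.card ↥(W ⊓ centralizer ({x} : Set G))

/-- The endgame lemma for data (class at most two), in the ambient group. -/
def BG95End (G : Type u) [Group G] : Prop :=
  ∀ p q s t : ℕ, p.Prime → q.Prime → s.Prime → t.Prime → p ≠ q → s ≠ q → t ≠ q →
    ∀ W : Subgroup G, (∀ v ∈ W, v ^ q = 1) →
      q ^ 2 * Nat.card ↥(⁅W, W⁆ : Subgroup G) ≤ Nat.card ↥W →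
    ∀ e b w y : G, e ∈ normalizer (W : Set G) → b ∈ normalizer (W : Set G) →
      w ∈ normalizer (W : Set G) → y ∈ normalizer (W : Set G) →
      e * b = b * e → e ^ p = 1 → b ^ p = 1 →
      (∀ i j : ℕ, ¬ (p ∣ i ∧ p ∣ j) →
        Nat.card ↥(W ⊓ centralizer ({e ^ i * b ^ j} : Set G)) ≤ q) →
      w ^ s = 1 → b * w = w * b → e * w * e⁻¹ ∈ zpowers w → e * w ≠ w * e →
      Nat.card ↥(W ⊓ centralizer ({w} : Set G)) ≤ q →
      y ^ t = 1 → e * y = y * e → b * y * b⁻¹ ∈ zpowers y → b * y ≠ y * b →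
      Nat.card ↥(W ⊓ centralizer ({y} : Set G)) ≤ q → False

/-- The context of a counterexample to Theorem 9.5. -/
structure BG95Ctx (p : ℕ) (A E : Subgroup G) : Prop where
  hG : IsMinSimpleOddOrder G
  hp : p.Prime
  hAp : IsPGroup p A
  hAab : ∀ a ∈ A, ∀ b ∈ A, a * b = b * a
  hEA : E ≤ A
  hEp : ∀ e ∈ E, e ^ p = 1
  hEcard : Nat.card ↥E = p ^ 3
  hTH : ∀ X : Subgroup G, X ≠ ⊤ → A ≤ X → ∀ Y : Subgroup G, Y ≤ X → (Nat.card ↥Y).Coprime p →
    A ≤ normalizer (Y : Set G) → Y ≤ Helper34.coreIn p X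
  htr : ∀ q : ℕ, q.Prime → q ≠ p → ∀ Q₁ ∈ maxInvSubgroups ⊤ A {q},
    ∀ Q₂ ∈ maxInvSubgroups ⊤ A {q}, ∃ k ∈ centralizer (A : Set G), Q₂ = MulAut.conj k • Q₁
  hB2 : ∀ H : Subgroup G, IsCoatom H → PRankLE p 2 ↥(fittingOf H)
  hB3 : ∀ M : Subgroup G, IsCoatom M → ∀ B : Subgroup G, B ≤ E → p ^ 2 ≤ Nat.card ↥B →
    ∃ b ∈ B, b ≠ 1 ∧ ¬ centralizer ({b} : Set G) ≤ M

/-! ### Generalities -/

omit [Finite G] in
theorem bg95_isPGroup_of_exp {s : ℕ} {T : Subgroup G} (hT : ∀ x ∈ T, x ^ s = 1) : IsPGroup s T :=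
  fun g => ⟨1, by rw [pow_one]; exact Subtype.ext (by simpa using hT g g.2)⟩

theorem bg95_card_le_or {s : ℕ} (hs : s.Prime) {T : Subgroup G} (hT : IsPGroup s T) :
    Nat.card ↥T ≤ s ∨ s ^ 2 ≤ Nat.card ↥T := by
  haveI := Fact.mk hs
  obtain ⟨n, hn⟩ := hT.exists_card_eq
  rw [hn]
  rcases Nat.lt_or_ge n 2 with h | h
  · left
    calc s ^ n ≤ s ^ 1 := Nat.pow_le_pow_right hs.pos (by omega)
      _ = s := pow_one s
  · right; exact Nat.pow_le_pow_right hs.pos h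

theorem bg95_eq_of_le_of_card_le {s : ℕ} (hs : s.Prime) {X T : Subgroup G} (hT : IsPGroup s T)
    (hXT : X ≤ T) (hX : X ≠ ⊥) (hc : Nat.card ↥T ≤ s) : X = T := by
  haveI := Fact.mk hs
  apply Subgroup.eq_of_le_of_card_ge hXT
  have hXp : IsPGroup s X := hT.to_le hXT
  obtain ⟨n, hn⟩ := hXp.exists_card_eq
  have hn0 : n ≠ 0 := by
    rintro rfl
    rw [pow_zero] at hn
    exact hX (Subgroup.card_eq_one.mp hn)
  calc Nat.card ↥T ≤ s := hc
    _ = s ^ 1 := (pow_one s).symm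
    _ ≤ s ^ n := Nat.pow_le_pow_right hs.pos (by omega)
    _ = Nat.card ↥X := hn.symm

theorem bg95_mem_inv_of_pgroup {s : ℕ} (hs : s.Prime) {A Y : Subgroup G} (hY : IsPGroup s Y)
    (hAY : A ≤ normalizer (Y : Set G)) : Y ∈ invSubgroups ⊤ A {s} := by
  haveI := Fact.mk hs
  refine ⟨le_top, fun r hr hrd => ?_, hAY⟩
  obtain ⟨n, hn⟩ := hY.exists_card_eq
  rw [hn] at hrd
  exact (Nat.prime_dvd_prime_iff_eq hr hs).mp (hr.dvd_of_dvd_pow hrd)

omit [Finite G] in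
/-- Two subgroups that are an `s`-group and a `t`-group, `s ≠ t`, meet trivially. -/
theorem bg95_eq_one_of_mem_of_mem [Finite G] {s t : ℕ} (hs : s.Prime) (ht : t.Prime) (hst : s ≠ t)
    {S T : Subgroup G} (hS : IsPGroup s S) (hT : IsPGroup t T) {z : G} (hzS : z ∈ S)
    (hzT : z ∈ T) : z = 1 := by
  haveI := Fact.mk hs
  haveI := Fact.mk ht
  have h1 : S ⊓ T = ⊥ :=
    Helper23.f81_eq_bot_of_isPGroup_of_isPGroup hst (hS.to_le inf_le_left) (hT.to_le inf_le_right)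
  have h2 : z ∈ S ⊓ T := ⟨hzS, hzT⟩
  rw [h1] at h2
  exact Subgroup.mem_bot.mp h2

namespace BG95Dat

variable {M W : Subgroup G} {s : ℕ}

theorem hWM (d : BG95Dat M s W) : W ≤ M := d.hWS.trans (Helper23.f81_pCoreOf_le s M)

theorem isPGroup (d : BG95Dat M s W) : IsPGroup s W := bg95_isPGroup_of_exp d.hexp

theorem card_sq (d : BG95Dat M s W) : s ^ 2 ≤ Nat.card ↥W := by
  refine le_trans ?_ d.hcard
  exact Nat.le_mul_of_pos_right _ Nat.card_pos

theorem lt_card (d : BG95Dat M s W) : s < Nat.card ↥W := by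
  have h1 := d.card_sq
  have h2 : s < s ^ 2 := by
    have := d.hs.one_lt
    nlinarith
  omega

/-- (F1) -/
theorem F1 (d : BG95Dat M s W) {M₁ : Subgroup G} (hM₁ : IsCoatom M₁) (hne : M₁ ≠ M) :
    Nat.card ↥(W ⊓ M₁) ≤ s := by
  rcases bg95_card_le_or d.hs (d.isPGroup.to_le (inf_le_left : W ⊓ M₁ ≤ W)) with h | h
  · exact h
  · exfalso
    have h1 : M₁ ≤ M := d.hT (W ⊓ M₁) inf_le_left h M₁ hM₁.1 inf_le_right
    exact hne (Helper23.uq_eq_of_coatom_le hM₁ d.hM.1 h1).symm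

end BG95Dat

namespace BG95Ctx

variable {p : ℕ} {A E : Subgroup G}

theorem hAcent (c : BG95Ctx p A E) : A ≤ centralizer (A : Set G) := fun a ha =>
  Subgroup.mem_centralizer_iff.mpr (fun b hb => c.hAab b hb a ha)

theorem hEab (c : BG95Ctx p A E) : ∀ a ∈ E, ∀ b ∈ E, a * b = b * a := fun a ha b hb =>
  c.hAab a (c.hEA ha) b (c.hEA hb)

theorem p_dvd (c : BG95Ctx p A E) : p ∣ Nat.card G := by
  have h1 : p ∣ Nat.card ↥E := by rw [c.hEcard]; exact dvd_pow_self p (by norm_num)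
  exact h1.trans (Subgroup.card_subgroup_dvd_card E)

theorem hEpg (c : BG95Ctx p A E) : IsPGroup p E := bg95_isPGroup_of_exp c.hEp

/-- the centralizer of a nonidentity element is proper -/
theorem cent_ne_top (c : BG95Ctx p A E) {x : G} (hx : x ≠ 1) :
    centralizer ({x} : Set G) ≠ ⊤ :=
  Helper23.centralizer_singleton_ne_top c.hG.2 hx

/-- centralizers of elements of `A` contain `C(A)` -/
theorem cent_le (c : BG95Ctx p A E) {a : G} (ha : a ∈ A) :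
    centralizer (A : Set G) ≤ centralizer ({a} : Set G) :=
  Subgroup.centralizer_le (by simpa using ha)

/-- (F2): every `A`-invariant `s`-subgroup lies in `M`. -/
theorem F2 (c : BG95Ctx p A E) {M W : Subgroup G} {s : ℕ} (d : BG95Dat M s W)
    (hCM : centralizer (A : Set G) ≤ M) (hsp : s ≠ p) {Y : Subgroup G} (hY : IsPGroup s Y)
    (hAY : A ≤ normalizer (Y : Set G)) : Y ≤ M := by
  have hAM : A ≤ M := c.hAcent.trans hCM
  have hS : pCoreOf s M ∈ invSubgroups ⊤ A {s} :=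
    bg95_mem_inv_of_pgroup d.hs (Helper23.f81_isPGroup_pCoreOf s M)
      (hAM.trans (Helper23.f81_le_normalizer_pCoreOf s M))
  obtain ⟨Q, hQ, hSQ⟩ := Helper23.exists_maxInv_ge hS
  have hQtop : Q ≠ ⊤ := by
    rintro rfl
    have h1 : p ∣ Nat.card ↥(⊤ : Subgroup G) := by
      rw [Subgroup.card_top]; exact c.p_dvd
    exact hsp (hQ.1.2.1 p c.hp h1).symm
  have hQM : Q ≤ M := d.core Q hQtop hSQ
  obtain ⟨Q₁, hQ₁, hYQ₁⟩ := Helper23.exists_maxInv_ge (bg95_mem_inv_of_pgroup d.hs hY hAY)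
  obtain ⟨k, hk, rfl⟩ := c.htr s d.hs hsp Q hQ Q₁ hQ₁
  intro y hy
  have h1 := hYQ₁ hy
  rw [Helper35.mem_conj_smul] at h1
  have h2 : y = k * (k⁻¹ * y * k) * k⁻¹ := by group
  rw [h2]
  exact M.mul_mem (M.mul_mem (hCM hk) (hQM h1)) (M.inv_mem (hCM hk))

/-- (F3): `W ∩ O_s(M₁) = 1` for every other maximal subgroup `M₁ ≥ A`. -/
theorem F3 (c : BG95Ctx p A E) {M W : Subgroup G} {s : ℕ} (d : BG95Dat M s W)
    (hCM : centralizer (A : Set G) ≤ M) (hsp : s ≠ p) {M₁ : Subgroup G} (hM₁ : IsCoatom M₁)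
    (hAM₁ : A ≤ M₁) (hne : M₁ ≠ M) : W ⊓ pCoreOf s M₁ = ⊥ := by
  by_contra hne0
  have hOp : IsPGroup s ↥(pCoreOf s M₁) := Helper23.f81_isPGroup_pCoreOf s M₁
  have hOM : pCoreOf s M₁ ≤ M :=
    c.F2 d hCM hsp hOp (hAM₁.trans (Helper23.f81_le_normalizer_pCoreOf s M₁))
  have hO1 : pCoreOf s M₁ ≠ ⊥ := by
    intro h
    rw [h, inf_bot_eq] at hne0
    exact hne0 rfl
  have hN : normalizer (pCoreOf s M₁ : Set G) = M₁ :=
    Helper23.uq_normalizer_eq c.hG hM₁ hO1 (Helper23.f81_pCoreOf_le s M₁)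
      (Helper23.f81_le_normalizer_pCoreOf s M₁)
  have h1 : W ⊓ pCoreOf s M₁ = W ⊓ M₁ :=
    bg95_eq_of_le_of_card_le d.hs (d.isPGroup.to_le inf_le_left)
      (inf_le_inf_left W (Helper23.f81_pCoreOf_le s M₁)) hne0 (d.F1 hM₁ hne)
  have h2 : W ≤ pCoreOf s M₁ := by
    apply bgu_le_of_inf_normalizer_le d.hs d.isPGroup hOp (hOM.trans d.hMW)
    rw [hN, ← h1]
    exact inf_le_right
  have h3 : W ⊓ M₁ = W := inf_eq_left.mpr (h2.trans (Helper23.f81_pCoreOf_le s M₁))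
  have h4 := d.F1 hM₁ hne
  rw [h3] at h4
  exact absurd d.lt_card (not_lt.mpr h4)

end BG95Ctx

end Cfsg.Agent.Helper1
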