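/-
helper1: piece C3 of CALL S1378 (B&G 13.5): commuting `τ₁(M)`-elements of a complement of `M_σ`
have the same centralizer in `M_σ` (from S1427 and S1428).
-/
import Cfsg.Agent.Helper1.BG139Defs
import Cfsg.Agent.Helper49.OddCyclic
import Cfsg.Agent.Helper21.PRank
import Cfsg.Agent.Helper20.BG13P4
import Cfsg.Agent.Helper23.Trans
import Cfsg.Agent.S1403
import Cfsg.Agent.S1427

set_option autoImplicit false

namespace Cfsg.Agent.Helper1

open Cfsg Subgroup

universe u

variable {G : Type u} [Group G] [Finite G]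

/-- Prime power case, from S1427. -/
theorem bg139_pa_step1 (hG : IsMinSimpleOddOrder G) {M E : Subgroup G} (hM : IsCoatom M)
    (hE : IsComplIn E (sigmaCore M) M) {q k : ℕ} (hq : q ∈ tau1 M) {x z : G} (hx : x ∈ E)
    (hk : 0 < k) (hxo : orderOf x = q ^ k) (hz : z ∈ sigmaCore M)
    (hzx : Commute z (x ^ q ^ (k - 1))) : Commute z x := by
  have hqp : q.Prime := hq.1
  haveI : Fact q.Prime := ⟨hqp⟩
  have hq2 : q ≠ 2 := by
    intro h
    have h1 : q ∣ Nat.card G := hq.2.2.1.trans (Subgroup.card_subgroup_dvd_card M)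
    rw [h] at h1
    exact (Nat.not_even_iff_odd.mpr hG.1) (even_iff_two_dvd.mpr h1)
  have hx1 : x ≠ 1 := by
    intro h
    rw [h, orderOf_one] at hxo
    exact (Nat.one_lt_pow hk.ne' hqp.one_lt).ne hxo
  have hzp : IsPGroup q ↥(zpowers (⟨x, hx⟩ : ↥E)) := by
    apply IsPGroup.of_card (n := k)
    rw [Nat.card_zpowers, ← hxo, ← Subgroup.orderOf_coe]
  obtain ⟨Q, hQ⟩ := hzp.exists_le_sylow
  have hxQ : (⟨x, hx⟩ : ↥E) ∈ (Q : Subgroup E) := hQ (mem_zpowers _)
  have hQ1 : (Q : Subgroup E) ≠ ⊥ := by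
    intro h
    rw [h, mem_bot] at hxQ
    exact hx1 (congrArg Subtype.val hxQ)
  have hQc : IsCyclic (Q : Subgroup E) := by
    apply Helper49.isCyclic_of_pRankLE_one hq2 Q.2
    exact Helper21.pRankLE_of_injective ((Subgroup.inclusion hE.1).comp (Q : Subgroup E).subtype)
      ((Subgroup.inclusion_injective hE.1).comp (Subgroup.subtype_injective _)) hq.2.2.2.2
  have h27 := Cfsg.Agent.S1427.result hG M hM E hE q Q hQ1 hQc
  have hxm : x ∈ (Q : Subgroup E).map E.subtype := ⟨⟨x, hx⟩, hxQ, rfl⟩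
  have hwm : x ^ q ^ (k - 1) ∈ (Q : Subgroup E).map E.subtype := Subgroup.pow_mem _ hxm _
  have hw1 : x ^ q ^ (k - 1) ≠ 1 := by
    intro h
    have h1 := orderOf_dvd_of_pow_eq_one h
    rw [hxo] at h1
    have h2 := Nat.le_of_dvd (pow_pos hqp.pos _) h1
    have h3 : q ^ (k - 1) < q ^ k := Nat.pow_lt_pow_right hqp.one_lt (by omega)
    omega
  have e1 := h27 (x ^ q ^ (k - 1)) hwm hw1
  have e2 := h27 x hxm hx1
  have hz1 : z ∈ sigmaCore M ⊓ centralizer ({x ^ q ^ (k - 1)} : Set G) := by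
    refine Subgroup.mem_inf.mpr ⟨hz, ?_⟩
    rw [mem_centralizer_iff]
    intro w hw
    rw [Set.mem_singleton_iff] at hw
    subst hw
    exact hzx.symm.eq
  rw [e1, ← e2] at hz1
  exact (mem_centralizer_iff.mp (Subgroup.mem_inf.mp hz1).2 x rfl).symm

/-- A generator of a subgroup of prime order: membership of `z` in the centralizer. -/
theorem bg139_commute_zpowers {z w : G} (h : Commute z w) :
    z ∈ centralizer ((zpowers w : Subgroup G) : Set G) := by
  rw [mem_centralizer_iff]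
  intro v hv
  obtain ⟨i, rfl⟩ := mem_zpowers_iff.mp hv
  exact (h.zpow_right i).symm.eq

/-- The transfer step from S1428: for commuting elements `v`, `w` of `E` of prime orders `q`, `r`
with `q ∈ τ₁(M)`, an element of `M_σ` commuting with `v` commutes with `w`. -/
theorem bg139_pa_transfer (h28 : BG1328 G) {M E : Subgroup G} (hM : IsCoatom M)
    (hE : IsComplIn E (sigmaCore M) M) {q r : ℕ} (hq : q ∈ tau1 M) (hr : r.Prime) {v w z : G}
    (hv : v ∈ E) (hw : w ∈ E) (hvw : Commute v w) (hvo : orderOf v = q) (hwo : orderOf w = r)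
    (hz : z ∈ sigmaCore M) (hzv : Commute z v) : Commute z w := by
  have hPc : Nat.card (zpowers v) = q := by rw [Nat.card_zpowers, hvo]
  have hRc : Nat.card (zpowers w) = r := by rw [Nat.card_zpowers, hwo]
  have hRE : zpowers w ≤ E ⊓ centralizer ((zpowers v : Subgroup G) : Set G) := by
    rw [zpowers_le]
    refine Subgroup.mem_inf.mpr ⟨hw, ?_⟩
    exact bg139_commute_zpowers hvw.symm
  have h := h28 M hM E hE q hq (zpowers v) (zpowers_le.mpr hv) hPc (zpowers w) hRE (hRc ▸ hr)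
  have hz' := h (Subgroup.mem_inf.mpr ⟨hz, bg139_commute_zpowers hzv⟩)
  exact (mem_centralizer_iff.mp (Subgroup.mem_inf.mp hz').2 w (mem_zpowers w)).symm

/-- Key lemma: an element of `M_σ` commuting with the element of order `q` of `⟨x⟩` commutes
with `x`, for `x ∈ E` all of whose prime divisors lie in `τ₁(M)`. -/
theorem bg139_pa_key (hG : IsMinSimpleOddOrder G) (h28 : BG1328 G) {M E : Subgroup G}
    (hM : IsCoatom M) (hE : IsComplIn E (sigmaCore M) M) :
    ∀ (n : ℕ) (x : G), orderOf x = n → x ∈ E →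
      (∀ q : ℕ, q.Prime → q ∣ orderOf x → q ∈ tau1 M) → ∀ z ∈ sigmaCore M, ∀ q : ℕ, q.Prime →
        q ∣ orderOf x → Commute z (x ^ (orderOf x / q)) → Commute z x := by
  intro n
  induction n using Nat.strong_induction_on with
  | _ n ih =>
    intro x hxn hx hτ z hz q hq hqd hzq
    have hm0 : 0 < orderOf x := orderOf_pos x
    obtain ⟨k, m', hm'q, hmeq⟩ := Nat.exists_eq_pow_mul_and_not_dvd hm0.ne' q hq.ne_one
    have hk : 0 < k := by
      rcases Nat.eq_zero_or_pos k with h | h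
      · rw [h, pow_zero, one_mul] at hmeq
        exact absurd (hmeq ▸ hqd) hm'q
      · exact h
    have hm'pos : 0 < m' := by
      rcases Nat.eq_zero_or_pos m' with h | h
      · rw [h, mul_zero] at hmeq; omega
      · exact h
    have hdivq : orderOf x / q = q ^ (k - 1) * m' := by
      rw [hmeq]
      have : q ^ k = q * q ^ (k - 1) := by
        rw [← pow_succ']; congr 1; omega
      rw [this, mul_assoc, Nat.mul_div_cancel_left _ hq.pos]
    by_cases hm'1 : m' = 1
    · have hxo : orderOf x = q ^ k := by rw [hmeq, hm'1, mul_one]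
      apply bg139_pa_step1 hG hM hE (hτ q hq hqd) hx hk hxo hz
      rw [hdivq, hm'1, mul_one] at hzq
      exact hzq
    · have hcop : Nat.Coprime m' (q ^ k) :=
        Nat.Coprime.pow_right k ((Nat.Prime.coprime_iff_not_dvd hq).mpr hm'q).symm
      have hao : orderOf (x ^ m') = q ^ k := by
        rw [orderOf_pow' x hm'pos.ne', hmeq, Nat.gcd_mul_left_left]
        exact Nat.mul_div_cancel _ hm'pos
      have hbo : orderOf (x ^ q ^ k) = m' := by
        rw [orderOf_pow' x (pow_pos hq.pos k).ne', hmeq, Nat.gcd_mul_right_left]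
        exact Nat.mul_div_cancel_left _ (pow_pos hq.pos k)
      have hza : Commute z (x ^ m') := by
        apply bg139_pa_step1 hG hM hE (hτ q hq hqd) (E.pow_mem hx _) hk hao hz
        rw [← pow_mul, mul_comm m', ← hdivq]
        exact hzq
      obtain ⟨r, hr, hrd⟩ := Nat.exists_prime_and_dvd hm'1
      have hrm : r ∣ orderOf x := by rw [hmeq]; exact hrd.mul_left _
      have hzr : Commute z (x ^ (orderOf x / r)) := by
        refine bg139_pa_transfer h28 hM hE (hτ q hq hqd) hr (E.pow_mem hx _) (E.pow_mem hx _)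
          ((Commute.refl x).pow_pow _ _) (orderOf_pow_orderOf_div hm0.ne' hqd)
          (orderOf_pow_orderOf_div hm0.ne' hrm) hz hzq
      have hzb : Commute z (x ^ q ^ k) := by
        have hlt : orderOf (x ^ q ^ k) < n := by
          rw [hbo, ← hxn, hmeq]
          have h2 : 2 ≤ q ^ k := (Nat.one_lt_pow hk.ne' hq.one_lt)
          nlinarith
        refine ih _ hlt (x ^ q ^ k) rfl (E.pow_mem hx _)
          (fun s hs hsd => hτ s hs (hsd.trans (orderOf_pow_dvd _))) z hz r hr (hbo ▸ hrd) ?_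
        rw [hbo, ← pow_mul]
        have : q ^ k * (m' / r) = orderOf x / r := by
          rw [hmeq, Nat.mul_div_assoc _ hrd]
        rw [this]
        exact hzr
      have hbez := Int.gcd_eq_gcd_ab (m' : ℤ) ((q ^ k : ℕ) : ℤ)
      have hg : Int.gcd (m' : ℤ) ((q ^ k : ℕ) : ℤ) = 1 := by
        rw [Int.gcd_natCast_natCast]; exact hcop
      rw [hg] at hbez
      have hx_eq : x = (x ^ m') ^ (Int.gcdA (m' : ℤ) ((q ^ k : ℕ) : ℤ)) *
          (x ^ q ^ k) ^ (Int.gcdB (m' : ℤ) ((q ^ k : ℕ) : ℤ)) := by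
        rw [← zpow_natCast x m', ← zpow_natCast x (q ^ k), ← zpow_mul, ← zpow_mul, ← zpow_add,
          ← hbez]
        simp
      rw [hx_eq]
      exact (hza.zpow_right _).mul_right (hzb.zpow_right _)

/-- PIECE `C3` of CALL S1378 (B&G 13.5: prime action of commuting `τ₁`-elements). -/
theorem bg139_prime_action (hG : IsMinSimpleOddOrder G) (h28 : BG1328 G) {M E : Subgroup G}
    (hM : IsCoatom M) (hE : IsComplIn E (sigmaCore M) M) {x y : G} (hx : x ∈ E) (hy : y ∈ E)
    (hxy : x * y = y * x) (hx1 : x ≠ 1) (hy1 : y ≠ 1)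
    (hxτ : ∀ q : ℕ, q.Prime → q ∣ orderOf x → q ∈ tau1 M)
    (hyτ : ∀ q : ℕ, q.Prime → q ∣ orderOf y → q ∈ tau1 M) :
    sigmaCore M ⊓ centralizer ({x} : Set G) = sigmaCore M ⊓ centralizer ({y} : Set G) := by
  have key : ∀ {x y : G}, x ∈ E → y ∈ E → x * y = y * x → x ≠ 1 → y ≠ 1 →
      (∀ q : ℕ, q.Prime → q ∣ orderOf x → q ∈ tau1 M) →
      (∀ q : ℕ, q.Prime → q ∣ orderOf y → q ∈ tau1 M) →
      sigmaCore M ⊓ centralizer ({x} : Set G) ≤ sigmaCore M ⊓ centralizer ({y} : Set G) := by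
    intro x y hx hy hxy hx1 hy1 hxτ hyτ z hz
    have hzσ : z ∈ sigmaCore M := (Subgroup.mem_inf.mp hz).1
    have hcomm : Commute z x := (mem_centralizer_iff.mp (Subgroup.mem_inf.mp hz).2 x rfl).symm
    have hox : orderOf x ≠ 1 := fun h => hx1 (orderOf_eq_one_iff.mp h)
    have hoy : orderOf y ≠ 1 := fun h => hy1 (orderOf_eq_one_iff.mp h)
    obtain ⟨q, hq, hqd⟩ := Nat.exists_prime_and_dvd hox
    obtain ⟨r, hr, hrd⟩ := Nat.exists_prime_and_dvd hoy
    have hzq : Commute z (x ^ (orderOf x / q)) := hcomm.pow_right _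
    have hxyc : Commute x y := hxy
    have hzr : Commute z (y ^ (orderOf y / r)) :=
      bg139_pa_transfer h28 hM hE (hxτ q hq hqd) hr (E.pow_mem hx _) (E.pow_mem hy _)
        (hxyc.pow_pow _ _) (orderOf_pow_orderOf_div (orderOf_pos x).ne' hqd)
        (orderOf_pow_orderOf_div (orderOf_pos y).ne' hrd) hzσ hzq
    have hzy := bg139_pa_key hG h28 hM hE (orderOf y) y rfl hy hyτ z hzσ r hr hrd hzr
    refine Subgroup.mem_inf.mpr ⟨hzσ, ?_⟩
    rw [mem_centralizer_iff]
    intro w hw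
    rw [Set.mem_singleton_iff] at hw
    subst hw
    exact hzy.symm.eq
  exact le_antisymm (key hx hy hxy hx1 hy1 hxτ hyτ) (key hy hx hxy.symm hy1 hx1 hyτ hxτ)

/-- PIECE `C3`, second half: prime action of a cyclic `τ₁(M)`-subgroup `K` of `M`. -/
theorem bg139_prime_action_sub (hG : IsMinSimpleOddOrder G) (h28 : BG1328 G) {M K : Subgroup G}
    (hM : IsCoatom M) (hKM : K ≤ M) (hKc : IsCyclic K)
    (hK : ∀ q : ℕ, q.Prime → q ∣ Nat.card K → q ∈ tau1 M) {x y : G} (hx : x ∈ K) (hy : y ∈ K)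
    (hx1 : x ≠ 1) (hy1 : y ≠ 1) :
    sigmaCore M ⊓ centralizer ({x} : Set G) = sigmaCore M ⊓ centralizer ({y} : Set G) := by
  have hU : Helper22.BGUniq G := fun K hK h1 h2 => Cfsg.Agent.S1403.result hG K hK h1 h2
  have hcop : (Nat.card K).Coprime (Nat.card (sigmaCore M)) := by
    rw [Nat.coprime_iff_gcd_eq_one]
    by_contra h
    obtain ⟨q, hq, hqd⟩ := Nat.exists_prime_and_dvd h
    exact (hK q hq (hqd.trans (Nat.gcd_dvd_left _ _))).2.1
      (Helper23.mem_of_dvd_card_piCoreOf (sigma M) M hq (hqd.trans (Nat.gcd_dvd_right _ _)))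
  obtain ⟨E, hE, hKE⟩ := Helper20.bg13_exists_compl_ge hG hU hM hKM hcop
  have hxy : x * y = y * x := by
    have h1 := (IsCyclic.isMulCommutative (α := ↥K)).is_comm.comm ⟨x, hx⟩ ⟨y, hy⟩
    exact congrArg Subtype.val h1
  exact bg139_prime_action hG h28 hM hE (hKE hx) (hKE hy) hxy hx1 hy1
    (fun q hq hqd => hK q hq (hqd.trans (Subgroup.orderOf_dvd_natCard K hx)))
    (fun q hq hqd => hK q hq (hqd.trans (Subgroup.orderOf_dvd_natCard K hy)))

end Cfsg.Agent.Helper1
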