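/-
helper1: piece D2 of CALL S1378 (B&G 13.9): the primes of `β(M)` centralizing a `τ₁(M)`-subgroup
`P` of prime order are in `τ₁(H) ∪ τ₃(H)` for every maximal subgroup `H ≥ N_G(P)`.
-/
import Cfsg.Agent.Helper1.BG139Defs
import Cfsg.Agent.Helper23.BG1210c
import Cfsg.Agent.Helper68.BG123
import Cfsg.Agent.Helper20.BG13P4
import Cfsg.Agent.Helper21.PRank
import Cfsg.Agent.S1403
import Cfsg.Agent.S1409
import Cfsg.Agent.S1418
import Cfsg.Agent.S1423

set_option autoImplicit false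

namespace Cfsg.Agent.Helper1

open Cfsg Subgroup
open scoped Pointwise

universe u

variable {G : Type u} [Group G] [Finite G]

/-- PIECE `D2` of CALL S1378. -/
theorem bg139_H_tau (hG : IsMinSimpleOddOrder G) {M H P X : Subgroup G} (hM : IsCoatom M)
    (hH : IsCoatom H) {p t : ℕ} (hp : p ∈ tau1 M) (hPM : P ≤ M) (hPc : Nat.card P = p)
    (ht : t ∈ beta M) (hXM : X ≤ M) (hXc : Nat.card X = t)
    (hXP : X ≤ centralizer (P : Set G)) (hNH : normalizer (P : Set G) ≤ H) :
    t ∈ tau1 H ∨ t ∈ tau3 H := by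
  have hU : Helper22.BGUniq G := fun K hK h1 h2 => Cfsg.Agent.S1403.result hG K hK h1 h2
  have hpp : p.Prime := hp.1
  haveI : Fact p.Prime := ⟨hpp⟩
  have htα : t ∈ alpha M := ht.1
  have htp : t.Prime := htα.1
  haveI : Fact t.Prime := ⟨htp⟩
  have htσM : t ∈ sigma M := Helper22.bg10_alpha_sub_sigma hG hU hM htα
  have h23 := (Cfsg.Agent.S1423.result hG M hM t htσM X hXM hXc default (Or.inl ht)).1
  have hCN : centralizer (P : Set G) ≤ normalizer (P : Set G) :=
    Subgroup.centralizer_le_normalizer _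
  have hXH : X ≤ H := hXP.trans (hCN.trans hNH)
  have hPH : P ≤ H := le_normalizer.trans hNH
  have hP1 : P ≠ ⊥ := by
    intro h
    rw [h, Subgroup.card_bot] at hPc
    exact hpp.one_lt.ne hPc
  -- `H ≠ M`
  have hHM : H ≠ M := by
    intro h
    rw [h] at hNH
    have h9 := (Cfsg.Agent.S1409.result hG M hM p hp.2.1 P hPc hNH).1
    exact h9.2 hp.2.2.2.2
  -- `t ∉ σ(H)`
  have htσH : t ∉ sigma H := by
    intro hσ
    obtain ⟨x, hx⟩ := Helper68.bg123_conj_of_alpha_sigma hG hU hM hH htα hσ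
    have hαH : t ∈ alpha H := by
      refine ⟨htp, ?_⟩
      have h1 := Helper21.not_pRankLE_conj x htα.2
      have h2 : M.map (MulAut.conj x).toMonoidHom = H := hx
      rwa [h2] at h1
    have h23H := (Cfsg.Agent.S1423.result hG H hH t hσ X hXH hXc default
      (Or.inl ⟨hαH, ht.2⟩)).1
    exact hHM (h23H.2 M hM h23.1).symm
  have htH : t ∣ Nat.card H := hXc ▸ Subgroup.card_dvd_of_le hXH
  have hr2 : PRankLE t 2 H := by
    by_contra h
    exact htσH (Helper22.bg10_alpha_sub_sigma hG hU hH ⟨htp, h⟩)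
  -- `t ∉ τ₂(H)`
  have hτ2 : t ∉ tau2 H := by
    intro hτ
    have hcopX : (Nat.card X).Coprime (Nat.card (sigmaCore H)) := by
      rw [hXc, Nat.Prime.coprime_iff_not_dvd htp]
      intro hd
      exact htσH (Helper23.mem_of_dvd_card_piCoreOf (sigma H) H htp hd)
    obtain ⟨E, hE, hXE⟩ := Helper20.bg13_exists_compl_ge hG hU hH hXH hcopX
    obtain ⟨B, hBE, hB, hBc⟩ := Helper23.bg1210_exists_elemAb_le hG hH hE hτ
    have h18t := Cfsg.Agent.S1418.result hG H hH E hE t hτ B ⟨hBE, hB, hBc⟩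
    have hXB : X ≤ B := h18t.1.2 X hXE hXc
    by_cases hpσH : p ∈ sigma H
    · -- `p ∈ σ(H)`: `X` centralizes `P ≤ H_σ`
      have hPσ : P ≤ sigmaCore H := Helper22.bg12_le_sigmaCore hG hU hH hpp hpσH hPH
        (IsPGroup.of_card (n := 1) (by rw [hPc, pow_one]))
      have hne : sigmaCore H ⊓ centralizer (X : Set G) ≠ ⊥ := by
        intro h0
        have hP0 : P ≤ sigmaCore H ⊓ centralizer (X : Set G) := by
          refine le_inf hPσ ?_
          intro y hy
          rw [mem_centralizer_iff]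
          intro x hx
          exact (mem_centralizer_iff.mp (hXP hx) y hy).symm
        rw [h0, le_bot_iff] at hP0
        exact hP1 hP0
      have h3 := h18t.2.2 X hXB hXc hne
      exact hHM (h3.2 M hM h23.1).symm
    · -- `p ∈ τ₂(H)`
      have h9 := (Cfsg.Agent.S1409.result hG H hH p hpσH P hPc hNH).1
      have hpτ2 : p ∈ tau2 H := ⟨hpp, hpσH, h9.1, h9.2⟩
      obtain ⟨A, hAE, hA, hAc⟩ := Helper23.bg1210_exists_elemAb_le hG hH hE hpτ2
      have h18p := Cfsg.Agent.S1418.result hG H hH E hE p hpτ2 A ⟨hAE, hA, hAc⟩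
      have hpt : p ≠ t := fun h => hp.2.1 (h ▸ htσM)
      have hAB0 : A ⊓ B = ⊥ := by
        rw [← Subgroup.card_eq_one]
        have h1 : Nat.card ↥(A ⊓ B) ∣ p ^ 2 := hAc ▸ Subgroup.card_dvd_of_le inf_le_left
        have h2 : Nat.card ↥(A ⊓ B) ∣ t ^ 2 := hBc ▸ Subgroup.card_dvd_of_le inf_le_right
        have hcop : (p ^ 2).Coprime (t ^ 2) :=
          Nat.Coprime.pow 2 2 ((Nat.coprime_primes hpp htp).mpr hpt)
        exact Nat.eq_one_of_dvd_coprimes hcop h1 h2
      have hAB : ∀ a ∈ A, ∀ b ∈ B, a * b = b * a := by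
        intro a ha b hb
        have hcA : a * b * a⁻¹ * b⁻¹ ∈ A := by
          have h1 : b * a⁻¹ * b⁻¹ ∈ A :=
            (mem_normalizer_iff.mp (h18p.1.1 (hBE hb)) a⁻¹).mp (Subgroup.inv_mem _ ha)
          have e : a * b * a⁻¹ * b⁻¹ = a * (b * a⁻¹ * b⁻¹) := by group
          rw [e]
          exact Subgroup.mul_mem _ ha h1
        have hcB : a * b * a⁻¹ * b⁻¹ ∈ B := by
          have h1 : a * b * a⁻¹ ∈ B := (mem_normalizer_iff.mp (h18t.1.1 (hAE ha)) b).mp hb
          exact Subgroup.mul_mem _ h1 (Subgroup.inv_mem _ hb)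
        have hc1 : a * b * a⁻¹ * b⁻¹ = 1 := by
          have : a * b * a⁻¹ * b⁻¹ ∈ A ⊓ B := Subgroup.mem_inf.mpr ⟨hcA, hcB⟩
          rw [hAB0, Subgroup.mem_bot] at this
          exact this
        have e : a * b = (a * b * a⁻¹ * b⁻¹) * (b * a) := by group
        rw [e, hc1, one_mul]
      have hAM : A ≤ M := by
        intro a ha
        apply h23.1
        rw [mem_centralizer_iff]
        intro x hx
        exact (hAB a ha x (hXB hx)).symm
      refine Helper21.not_pRankLE_of_elemAb hAM hA.1 hA.2 ?_ hp.2.2.2.2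
      rw [hAc, pow_one, not_le]
      have := hpp.one_lt
      nlinarith
  have hr1 : PRankLE t 1 H := by
    by_contra h
    exact hτ2 ⟨htp, htσH, hr2, h⟩
  by_cases hd : t ∣ Nat.card ↥⁅H, H⁆
  · right
    exact ⟨htp, htσH, hd, hr1⟩
  · left
    exact ⟨htp, htσH, htH, hd, hr1⟩

end Cfsg.Agent.Helper1
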