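import Cfsg.Agent.Helper1.PrimeGraph
import Cfsg.Agent.Helper53.QuatIso
import Cfsg.Agent.Helper25.Frob
import Cfsg.Agent.Helper73.FittingSolvable

/-!
# Solvable CN-groups

Tools for the structure theorem of solvable CN-groups (groups in which the centraliser of every
non-identity element is nilpotent): nilpotent groups acting without fixed points are cyclic or
(cyclic of odd order) × (generalized quaternion); a solvable CN-group without a nontrivial normal
Sylow subgroup is a three-step group (`cn_three_step`).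
-/

set_option autoImplicit false
open scoped Pointwise

namespace Cfsg.Agent.Helper1

universe u

/-- A finite nilpotent group all of whose Sylow subgroups are cyclic is cyclic. -/
theorem isCyclic_of_nilpotent_of_sylow_cyclic {Y : Type*} [Group Y] [Finite Y]
    (hnil : Group.IsNilpotent Y)
    (hsyl : ∀ (p : ℕ) [Fact p.Prime] (P : Sylow p Y), IsCyclic P) : IsCyclic Y := by
  have hcomm : ∀ x y : Y, x * y = y * x := by
    have h04 : Group.IsNilpotent Y ↔ Nonempty
        ((∀ p : (Nat.card Y).primeFactors, ∀ P : Sylow p Y, (↑P : Subgroup Y)) ≃* Y) :=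
      (Group.isNilpotent_of_finite_tfae (G := Y)).out 0 4
    obtain ⟨e⟩ := h04.mp hnil
    intro x y
    have h1 : e.symm x * e.symm y = e.symm y * e.symm x := by
      funext p
      funext P
      haveI : Fact (p : ℕ).Prime := ⟨Nat.prime_of_mem_primeFactors p.2⟩
      haveI := hsyl p P
      haveI : IsMulCommutative (P : Subgroup Y) := IsCyclic.isMulCommutative
      exact mul_comm' (e.symm x p P) (e.symm y p P)
    have h2 := congrArg e h1
    simpa using h2
  have hdvd : Nat.card Y ∣ Monoid.exponent Y := by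
    have hexp0 : Monoid.exponent Y ≠ 0 := Monoid.exponent_ne_zero_of_finite
    rw [← Nat.factorization_prime_le_iff_dvd Nat.card_pos.ne' hexp0]
    intro p hp
    haveI : Fact p.Prime := ⟨hp⟩
    rw [← hp.pow_dvd_iff_le_factorization hexp0]
    let P : Sylow p Y := default
    haveI := hsyl p P
    obtain ⟨g, hg⟩ := IsCyclic.exists_generator (α := P)
    have h1 : orderOf g = Nat.card P := orderOf_eq_card_of_forall_mem_zpowers hg
    rw [← P.card_eq_multiplicity, ← h1, ← Subgroup.orderOf_coe]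
    exact Monoid.order_dvd_exponent (g : Y)
  letI : CommGroup Y := { (inferInstance : Group Y) with mul_comm := hcomm }
  exact IsCyclic.of_exponent_eq_card (Nat.dvd_antisymm Group.exponent_dvd_nat_card hdvd)

/-- A nilpotent group `E` acting without fixed points on a nontrivial subgroup `N` is cyclic, or
the product of a cyclic group of odd order and a generalized quaternion group commuting with
it. -/
theorem fpf_nilpotent_structure {G : Type*} [Group G] [Finite G] (N E : Subgroup G) (hN : N ≠ ⊥)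
    (hEN : E ≤ Subgroup.normalizer (N : Set G))
    (hfpf : ∀ e ∈ E, e ≠ 1 → N ⊓ Subgroup.centralizer {e} = ⊥)
    (hnil : Group.IsNilpotent E) :
    IsCyclic E ∨ ∃ C Q : Subgroup G, C ⊔ Q = E ∧ (∀ a ∈ C, ∀ b ∈ Q, a * b = b * a) ∧ IsCyclic C ∧
      Odd (Nat.card C) ∧ ∃ n : ℕ, Nonempty (↥Q ≃* QuaternionGroup (2 ^ n)) := by
  have h03 : Group.IsNilpotent E ↔
      ∀ (p : ℕ) (_hp : Fact p.Prime) (P : Sylow p E), (↑P : Subgroup E).Normal :=
    (Group.isNilpotent_of_finite_tfae (G := E)).out 0 3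
  have hU : ∀ r : ℕ, r.Prime → ∀ S T : Subgroup E, Nat.card S = r → Nat.card T = r → S = T := by
    intro r hr S T hS hT
    haveI : Fact r.Prime := ⟨hr⟩
    let R : Sylow r E := default
    have hRn : (R : Subgroup E).Normal := h03.mp hnil r inferInstance R
    have hle : ∀ S : Subgroup E, Nat.card S = r → S ≤ (R : Subgroup E) := by
      intro S hS
      have hSp : IsPGroup r S := IsPGroup.of_card (n := 1) (by rw [hS, pow_one])
      obtain ⟨Q, hQ⟩ := hSp.exists_le_sylow
      haveI := Sylow.unique_of_normal R hRn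
      have : Q = R := Subsingleton.elim _ _
      rw [← this]; exact hQ
    apply Subgroup.map_injective E.subtype_injective
    apply fpf_eq_of_card_prime N ((R : Subgroup E).map E.subtype) hN
      ((Subgroup.map_subtype_le _).trans hEN)
      (fun h hh hh1 => hfpf h (Subgroup.map_subtype_le _ hh) hh1) r (R.isPGroup'.map _) _ _
      (Subgroup.map_mono (hle S hS)) (Subgroup.map_mono (hle T hT))
    · rw [Subgroup.card_map_of_injective E.subtype_injective, hS]
    · rw [Subgroup.card_map_of_injective E.subtype_injective, hT]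
  have hsylodd : ∀ (p : ℕ) [Fact p.Prime], p ≠ 2 → ∀ P : Sylow p E, IsCyclic P := by
    intro p _ hp2 P
    have hp : p.Prime := Fact.out
    obtain ⟨n, hn⟩ := IsPGroup.iff_card.mp P.isPGroup'
    exact Cfsg.Agent.Helper29.isCyclic_of_unique_subgroup_odd hp2 n hn
      (Cfsg.Agent.Helper29.unique_order_p_subgroup (hU p hp) (P : Subgroup E))
  haveI : Fact (Nat.Prime 2) := ⟨Nat.prime_two⟩
  let P₂ : Sylow 2 E := default
  have hP₂n : (P₂ : Subgroup E).Normal := h03.mp hnil 2 inferInstance P₂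
  rcases Cfsg.Agent.Helper53.isCyclic_or_quaternion_of_unique_subgroup P₂.isPGroup'
      (Cfsg.Agent.Helper29.unique_order_p_subgroup (hU 2 Nat.prime_two) (P₂ : Subgroup E))
    with hc | ⟨n, -, ⟨e⟩⟩
  · left
    apply isCyclic_of_nilpotent_of_sylow_cyclic hnil
    intro p _ P
    by_cases hp2 : p = 2
    · subst hp2
      haveI := Sylow.unique_of_normal P₂ hP₂n
      have : P = P₂ := Subsingleton.elim _ _
      rw [this]; exact hc
    · exact hsylodd p hp2 P
  · right
    haveI := hP₂n
    haveI := hnil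
    have hcop : (Nat.card (P₂ : Subgroup E)).Coprime (P₂ : Subgroup E).index := by
      obtain ⟨k, hk⟩ := IsPGroup.iff_card.mp P₂.isPGroup'
      rw [hk]
      exact Nat.Coprime.pow_left k
        ((Nat.Prime.coprime_iff_not_dvd Nat.prime_two).mpr P₂.not_dvd_index)
    obtain ⟨C₀, hC₀⟩ := Subgroup.exists_right_complement'_of_coprime hcop
    have hC₀card : Nat.card C₀ = (P₂ : Subgroup E).index := card_eq_index_of_isComplement' hC₀
    have hC₀odd : Odd (Nat.card C₀) := by
      rw [hC₀card, ← Nat.not_even_iff_odd, even_iff_two_dvd]; exact P₂.not_dvd_index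
    refine ⟨C₀.map E.subtype, (P₂ : Subgroup E).map E.subtype, ?_, ?_, ?_, ?_, n, ?_⟩
    · rw [← Subgroup.map_sup, sup_comm, hC₀.sup_eq_top, ← MonoidHom.range_eq_map,
        Subgroup.range_subtype]
    · rintro _ ⟨a, ha, rfl⟩ _ ⟨b, hb, rfl⟩
      have hab : (orderOf a).Coprime (orderOf b) := by
        have h1 : orderOf a ∣ Nat.card C₀ := C₀.orderOf_dvd_natCard ha
        have h2 : orderOf b ∣ Nat.card (P₂ : Subgroup E) :=
          (P₂ : Subgroup E).orderOf_dvd_natCard hb
        exact Nat.Coprime.coprime_dvd_left h1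
          (Nat.Coprime.coprime_dvd_right h2 (hC₀card ▸ hcop.symm))
      have h3 := Cfsg.Agent.Helper25.commute_of_coprime_orderOf_of_isNilpotent E a b hab
      exact congrArg Subtype.val h3.eq
    · haveI : IsCyclic C₀ := isCyclic_of_nilpotent_of_unique (Y := C₀) inferInstance hC₀odd
        (fun p hp => Cfsg.Agent.Helper29.unique_order_p_subgroup (hU p hp) C₀)
      exact isCyclic_of_surjective (C₀.equivMapOfInjective E.subtype E.subtype_injective)
        (MulEquiv.surjective _)
    · rw [Subgroup.card_map_of_injective E.subtype_injective]; exact hC₀odd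
    · exact ⟨(((P₂ : Subgroup E).equivMapOfInjective E.subtype E.subtype_injective).symm).trans e⟩

theorem pCore_normal' (p : ℕ) (G : Type*) [Group G] : (Cfsg.pCore p G).Normal :=
  Subgroup.sSup_normal _ (fun _ hH => hH.1)

theorem pCore_isPGroup' (p : ℕ) (G : Type*) [Group G] : IsPGroup p (Cfsg.pCore p G) :=
  Sylow.sSup_of_normal _ (fun _ hH => hH.2) (fun _ hH => hH.1)

theorem le_pCore' {p : ℕ} {G : Type*} [Group G] {N : Subgroup G} (hN : N.Normal)
    (hNp : IsPGroup p N) : N ≤ Cfsg.pCore p G :=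
  le_sSup ⟨hN, hNp⟩

theorem isPGroup_of_forall_prime_dvd {G : Type*} [Group G] [Finite G] (p : ℕ)
    (h : ∀ q : ℕ, q.Prime → q ∣ Nat.card G → q = p) : IsPGroup p G :=
  IsPGroup.of_card (Nat.eq_prime_pow_of_unique_prime_dvd Nat.card_pos.ne'
    (fun {d} hd hdd => h d hd hdd))

/-- If a prime `q` divides the order of a nilpotent normal subgroup then `O_q(G) ≠ 1`. -/
theorem pCore_ne_bot_of_dvd_card_nilpotent {G : Type*} [Group G] [Finite G] (N : Subgroup G)
    [hNn : N.Normal] (hnil : Group.IsNilpotent N) (q : ℕ) (hq : q.Prime)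
    (hqd : q ∣ Nat.card N) : Cfsg.pCore q G ≠ ⊥ := by
  haveI : Fact q.Prime := ⟨hq⟩
  let P : Sylow q N := default
  have h03 : Group.IsNilpotent N ↔
      ∀ (p : ℕ) (_hp : Fact p.Prime) (P : Sylow p N), (↑P : Subgroup N).Normal :=
    (Group.isNilpotent_of_finite_tfae (G := N)).out 0 3
  have hPn : (P : Subgroup N).Normal := h03.mp hnil q inferInstance P
  haveI hPc : (P : Subgroup N).Characteristic := Sylow.characteristic_of_normal P hPn
  have hmapn : ((P : Subgroup N).map N.subtype).Normal :=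
    ConjAct.normal_of_characteristic_of_normal
  have hmapp : IsPGroup q ((P : Subgroup N).map N.subtype) := P.isPGroup'.map _
  have hne : (P : Subgroup N).map N.subtype ≠ ⊥ := by
    intro h
    have h1 : (P : Subgroup N) = ⊥ :=
      (Subgroup.map_eq_bot_iff_of_injective _ N.subtype_injective).mp h
    exact P.ne_bot_of_dvd_card hqd h1
  intro hbot
  exact hne (eq_bot_iff.mpr (hbot ▸ le_pCore' hmapn hmapp))

theorem exists_pCore_ne_bot (G : Type*) [Group G] [Finite G] [Group.IsSolvable G]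
    [Nontrivial G] : ∃ p : ℕ, p.Prime ∧ Cfsg.pCore p G ≠ ⊥ := by
  obtain ⟨R, hRn, -, hR1, hmin⟩ := exists_minNormal (⊤ : Subgroup G) top_ne_bot
  haveI := hRn
  obtain ⟨-, p, hp, hexp⟩ := minNormal_elemAbelian R hR1 (fun M hM hMR => hmin M hM hMR)
  have hpg : IsPGroup p R := fun x => ⟨1, by
    rw [pow_one]; exact Subtype.ext (hexp x x.2)⟩
  refine ⟨p, hp, fun hbot => hR1 (eq_bot_iff.mpr (hbot ▸ le_pCore' hRn hpg))⟩

theorem exists_ne_one_of_ne_bot {G : Type*} [Group G] {H : Subgroup G} (hH : H ≠ ⊥) :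
    ∃ x ∈ H, x ≠ 1 := by
  by_contra hcon
  push Not at hcon
  exact hH (eq_bot_iff.mpr fun n hn => Subgroup.mem_bot.mpr (hcon n hn))

/-- A nontrivial central element of a nontrivial `p`-subgroup. -/
theorem exists_central_of_isPGroup {G : Type*} [Group G] [Finite G] {p : ℕ} [Fact p.Prime]
    {H : Subgroup G} (hHp : IsPGroup p H) (hH : H ≠ ⊥) :
    ∃ z ∈ H, z ≠ 1 ∧ ∀ h ∈ H, z * h = h * z := by
  haveI : Nontrivial H := (Subgroup.nontrivial_iff_ne_bot H).mpr hH
  haveI := hHp.center_nontrivial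
  obtain ⟨z, hz⟩ := exists_ne (1 : Subgroup.center H)
  refine ⟨(z : H), (z : H).2, fun h => hz (Subtype.ext (Subtype.ext h)), fun h hh => ?_⟩
  have h1 := Subgroup.mem_center_iff.mp z.2 ⟨h, hh⟩
  exact (congrArg Subtype.val h1).symm

theorem orderOf_eq_prime_pow_of_mem {G : Type*} [Group G] {p : ℕ} [Fact p.Prime]
    {H : Subgroup G} (hHp : IsPGroup p H) {x : G} (hx : x ∈ H) : ∃ k, orderOf x = p ^ k := by
  obtain ⟨k, hk⟩ := IsPGroup.iff_orderOf.mp hHp ⟨x, hx⟩
  exact ⟨k, by rw [← hk, ← Subgroup.orderOf_coe]⟩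

/-- In a CN-group with `O_p(G) ≠ 1 ≠ O_q(G)` for distinct primes, Sylow `p`-subgroups are
normal. -/
theorem cn_normal_sylow_of_two_cores {G : Type*} [Group G] [Finite G] (hCN : Cfsg.IsCNGroup G)
    (p q : ℕ) [Fact p.Prime] [Fact q.Prime] (hpq : p ≠ q) (hP : Cfsg.pCore p G ≠ ⊥)
    (hQ : Cfsg.pCore q G ≠ ⊥) (S : Sylow p G) : (S : Subgroup G).Normal := by
  have hp : p.Prime := Fact.out
  have hq : q.Prime := Fact.out
  haveI hPn : (Cfsg.pCore p G).Normal := pCore_normal' p G
  haveI hQn : (Cfsg.pCore q G).Normal := pCore_normal' q G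
  have hPp : IsPGroup p (Cfsg.pCore p G) := pCore_isPGroup' p G
  have hQp : IsPGroup q (Cfsg.pCore q G) := pCore_isPGroup' q G
  have hPS : Cfsg.pCore p G ≤ S := hPp.le_sylow_of_normal S
  -- a central element of `S` inside `O_p(G)`
  haveI : Group.IsNilpotent (S : Subgroup G) := S.isPGroup'.isNilpotent
  have hne : (Cfsg.pCore p G).subgroupOf (S : Subgroup G) ≠ ⊥ := by
    intro h
    rw [← Subgroup.card_eq_one, card_subgroupOf_of_le hPS, Subgroup.card_eq_one] at h
    exact hP h
  obtain ⟨y, hyP, hy1, hyc⟩ := Cfsg.Agent.Helper25.exists_mem_center_of_normal_of_isNilpotent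
    ((Cfsg.pCore p G).subgroupOf (S : Subgroup G)) hne
  have hyP' : (y : G) ∈ Cfsg.pCore p G := Subgroup.mem_subgroupOf.mp hyP
  have hy1' : (y : G) ≠ 1 := fun h => hy1 (Subtype.ext h)
  have hdisj : Disjoint (Cfsg.pCore p G) (Cfsg.pCore q G) :=
    IsPGroup.disjoint_of_ne p q hpq _ _ hPp hQp
  have hM : Group.IsNilpotent (Subgroup.centralizer ({(y : G)} : Set G)) := hCN (y : G) hy1'
  have hSM : (S : Subgroup G) ≤ Subgroup.centralizer ({(y : G)} : Set G) := by
    intro s hs
    rw [Cfsg.Agent.Helper25.mem_centralizer_singleton_iff']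
    have h1 := Subgroup.mem_center_iff.mp hyc ⟨s, hs⟩
    exact (congrArg Subtype.val h1).symm
  have hQM : Cfsg.pCore q G ≤ Subgroup.centralizer ({(y : G)} : Set G) := by
    intro t ht
    rw [Cfsg.Agent.Helper25.mem_centralizer_singleton_iff']
    exact (Subgroup.commute_of_normal_of_disjoint _ _ hPn hQn hdisj (y : G) t hyP' ht).eq
  -- `S` centralises `O_q(G)`
  have hSZ : (S : Subgroup G) ≤ Subgroup.centralizer (Cfsg.pCore q G : Set G) := by
    intro s hs
    rw [Subgroup.mem_centralizer_iff]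
    intro t ht
    obtain ⟨a, ha⟩ := orderOf_eq_prime_pow_of_mem S.isPGroup' hs
    obtain ⟨b, hb⟩ := orderOf_eq_prime_pow_of_mem hQp ht
    have hcop : (orderOf t).Coprime (orderOf s) := by
      rw [ha, hb]
      exact Nat.Coprime.pow _ _ ((Nat.coprime_primes hq hp).mpr (Ne.symm hpq))
    exact (Cfsg.Agent.Helper25.commute_of_coprime_of_mem_nilpotent _ hM (hQM ht) (hSM hs)
      hcop).eq
  haveI hZn : (Subgroup.centralizer (Cfsg.pCore q G : Set G)).Normal :=
    Subgroup.normal_centralizer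
  obtain ⟨z, hzQ, hz1⟩ := exists_ne_one_of_ne_bot hQ
  have hZnil : Group.IsNilpotent (Subgroup.centralizer (Cfsg.pCore q G : Set G)) :=
    Cfsg.Agent.Helper25.isNilpotent_of_le
      (Subgroup.centralizer_le (Set.singleton_subset_iff.mpr hzQ)) (hCN z hz1)
  have h03 : Group.IsNilpotent (Subgroup.centralizer (Cfsg.pCore q G : Set G)) ↔
      ∀ (r : ℕ) (_hr : Fact r.Prime)
        (R : Sylow r (Subgroup.centralizer (Cfsg.pCore q G : Set G))),
        (↑R : Subgroup (Subgroup.centralizer (Cfsg.pCore q G : Set G))).Normal :=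
    (Group.isNilpotent_of_finite_tfae
      (G := Subgroup.centralizer (Cfsg.pCore q G : Set G))).out 0 3
  have hS'n := h03.mp hZnil p inferInstance (S.subtype hSZ)
  haveI hS'c := Sylow.characteristic_of_normal (S.subtype hSZ) hS'n
  have hmapn : (((S.subtype hSZ : Sylow p _) : Subgroup _).map
      (Subgroup.centralizer (Cfsg.pCore q G : Set G)).subtype).Normal :=
    ConjAct.normal_of_characteristic_of_normal
  rw [Sylow.coe_subtype, Subgroup.map_subgroupOf_eq_of_le hSZ] at hmapn
  exact hmapn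

/-- In a CN-group with `C_G(O_p(G)) ≤ O_p(G)`, nonidentity `p'`-elements have no nontrivial
fixed points on `O_p(G)`. -/
theorem cn_fpf_of_pCore {G : Type*} [Group G] [Finite G] (hCN : Cfsg.IsCNGroup G) (p : ℕ)
    [Fact p.Prime]
    (hcent : Subgroup.centralizer (Cfsg.pCore p G : Set G) ≤ Cfsg.pCore p G)
    (x : G) (hx : (orderOf x).Coprime p) (hx1 : x ≠ 1) (y : G) (hy : y ∈ Cfsg.pCore p G)
    (hxy : x * y = y * x) : y = 1 := by
  by_contra hy1
  have hHp : IsPGroup p (Cfsg.pCore p G) := pCore_isPGroup' p G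
  have hH1 : Cfsg.pCore p G ≠ ⊥ := fun h => hy1 (Subgroup.mem_bot.mp (h ▸ hy))
  obtain ⟨z, hzH, hz1, hzc⟩ := exists_central_of_isPGroup hHp hH1
  have hcopH : ∀ h ∈ Cfsg.pCore p G, (orderOf x).Coprime (orderOf h) := by
    intro h hh
    obtain ⟨k, hk⟩ := orderOf_eq_prime_pow_of_mem hHp hh
    rw [hk]
    exact Nat.Coprime.pow_right k hx
  -- `x` commutes with `z`
  have hM₁ := hCN y hy1
  have hxM₁ : x ∈ Subgroup.centralizer ({y} : Set G) := by
    rw [Cfsg.Agent.Helper25.mem_centralizer_singleton_iff']; exact hxy.symm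
  have hzM₁ : z ∈ Subgroup.centralizer ({y} : Set G) := by
    rw [Cfsg.Agent.Helper25.mem_centralizer_singleton_iff']; exact (hzc y hy).symm
  have hxz : x * z = z * x :=
    (Cfsg.Agent.Helper25.commute_of_coprime_of_mem_nilpotent _ hM₁ hxM₁ hzM₁ (hcopH z hzH)).eq
  -- `x` centralises `O_p(G)`
  have hM₂ := hCN z hz1
  have hxM₂ : x ∈ Subgroup.centralizer ({z} : Set G) := by
    rw [Cfsg.Agent.Helper25.mem_centralizer_singleton_iff']; exact hxz.symm
  have hxC : x ∈ Subgroup.centralizer (Cfsg.pCore p G : Set G) := by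
    rw [Subgroup.mem_centralizer_iff]
    intro h hh
    have hhM₂ : h ∈ Subgroup.centralizer ({z} : Set G) := by
      rw [Cfsg.Agent.Helper25.mem_centralizer_singleton_iff']; exact hzc h hh
    exact (Cfsg.Agent.Helper25.commute_of_coprime_of_mem_nilpotent _ hM₂ hxM₂ hhM₂
      (hcopH h hh)).eq.symm
  have hxH := hcent hxC
  have h1 := hcopH x hxH
  rw [Nat.coprime_self] at h1
  exact hx1 (orderOf_eq_one_iff.mp h1)

/-- If a normal subgroup `Kb` has at most one subgroup of order `2`, its involutions are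
central in the whole group. -/
theorem conj_eq_of_unique_order_two {X : Type*} [Group X] (Kb : Subgroup X) [Kb.Normal]
    (hU : ∀ S T : Subgroup Kb, Nat.card S = 2 → Nat.card T = 2 → S = T)
    (z : Kb) (hz : orderOf z = 2) (g : X) : g * (z : X) * g⁻¹ = z := by
  let φ : Kb →* Kb := (MulAut.conjNormal g : MulAut Kb).toMonoidHom
  have hφ : ∀ n : Kb, ((φ n : Kb) : X) = g * n * g⁻¹ := fun n => MulAut.conjNormal_apply g n
  have hφinj : Function.Injective φ := (MulAut.conjNormal g : MulAut Kb).injective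
  have hz' : orderOf (φ z) = 2 := by rw [orderOf_injective φ hφinj z, hz]
  have h3 : Subgroup.zpowers z = Subgroup.zpowers (φ z) :=
    hU _ _ (by rw [Nat.card_zpowers, hz]) (by rw [Nat.card_zpowers, hz'])
  have h4 : φ z ∈ Subgroup.zpowers z := by rw [h3]; exact Subgroup.mem_zpowers _
  have hz2 : z ^ 2 = 1 := by rw [← hz]; exact pow_orderOf_eq_one z
  obtain ⟨k, hk⟩ := Subgroup.mem_zpowers_iff.mp h4
  have h5 : φ z = z := by
    rcases Int.emod_two_eq_zero_or_one k with h | h
    · exfalso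
      have e : z ^ k = 1 := by
        obtain ⟨m, rfl⟩ : ∃ m, k = 2 * m := ⟨k / 2, by omega⟩
        rw [zpow_mul, zpow_ofNat, hz2, one_zpow]
      rw [e] at hk
      rw [← hk, orderOf_one] at hz'
      exact absurd hz' (by norm_num)
    · have e : z ^ k = z := by
        obtain ⟨m, rfl⟩ : ∃ m, k = 2 * m + 1 := ⟨k / 2, by omega⟩
        rw [zpow_add, zpow_mul, zpow_ofNat, hz2, one_zpow, one_mul, zpow_one]
      rw [← hk, e]
  rw [← hφ, h5]

/-- Conjugations of a cyclic normal subgroup commute: `(x y)⁻¹ (y x)` centralises it. -/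
theorem comm_mem_centralizer_of_cyclic_normal {X : Type*} [Group X] (Kb : Subgroup X)
    [Kb.Normal] [IsCyclic Kb] (x y : X) :
    (x * y)⁻¹ * (y * x) ∈ Subgroup.centralizer (Kb : Set X) := by
  have hcent : ∀ n ∈ Kb, x * y * n * y⁻¹ * x⁻¹ = y * x * n * x⁻¹ * y⁻¹ := by
    intro n hn
    obtain ⟨m, hm⟩ := MonoidHom.map_cyclic ((MulAut.conjNormal x : MulAut Kb).toMonoidHom)
    obtain ⟨k, hk⟩ := MonoidHom.map_cyclic ((MulAut.conjNormal y : MulAut Kb).toMonoidHom)
    have hx : ∀ n : Kb, x * (n : X) * x⁻¹ = ((n ^ m : Kb) : X) := by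
      intro n; rw [← hm n]; exact (MulAut.conjNormal_apply x n).symm
    have hy : ∀ n : Kb, y * (n : X) * y⁻¹ = ((n ^ k : Kb) : X) := by
      intro n; rw [← hk n]; exact (MulAut.conjNormal_apply y n).symm
    have e1 : x * y * n * y⁻¹ * x⁻¹ = x * (y * n * y⁻¹) * x⁻¹ := by group
    have e2 : y * x * n * x⁻¹ * y⁻¹ = y * (x * n * x⁻¹) * y⁻¹ := by group
    rw [e1, e2, hy ⟨n, hn⟩, hx ⟨n, hn⟩, hx, hy]
    congr 1
    rw [← zpow_mul, ← zpow_mul, mul_comm]
  rw [Subgroup.mem_centralizer_iff]
  intro n hn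
  have h1 := hcent n hn
  calc n * ((x * y)⁻¹ * (y * x))
      = (x * y)⁻¹ * ((x * y * n * y⁻¹ * x⁻¹) * (y * x)) := by group
    _ = (x * y)⁻¹ * ((y * x * n * x⁻¹ * y⁻¹) * (y * x)) := by rw [h1]
    _ = (x * y)⁻¹ * (y * x) * n := by group

theorem zpowers_normal_of_forall_conj_mem {X : Type*} [Group X] (a : X)
    (h : ∀ g : X, g * a * g⁻¹ ∈ Subgroup.zpowers a) : (Subgroup.zpowers a).Normal := by
  constructor
  intro n hn g
  obtain ⟨k, rfl⟩ := Subgroup.mem_zpowers_iff.mp hn
  rw [← conj_zpow]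
  exact Subgroup.zpow_mem _ (h g) k

/-- A finite solvable CN-group without a nontrivial normal Sylow subgroup is a three-step
group. -/
theorem cn_three_step {G : Type u} [Group G] [Finite G] [Group.IsSolvable G]
    (hCN : Cfsg.IsCNGroup G) [Nontrivial G]
    (hnoSyl : ∀ (q : ℕ) [Fact q.Prime] (S : Sylow q G), (S : Subgroup G).Normal →
      (S : Subgroup G) = ⊥) :
    ∃ p : ℕ, p.Prime ∧ Cfsg.IsThreeStepGroup p G := by
  obtain ⟨p, hp, hH1⟩ := exists_pCore_ne_bot G
  haveI : Fact p.Prime := ⟨hp⟩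
  haveI hHn : (Cfsg.pCore p G).Normal := pCore_normal' p G
  have hHp : IsPGroup p (Cfsg.pCore p G) := pCore_isPGroup' p G
  obtain ⟨kH, hkH⟩ := IsPGroup.iff_card.mp hHp
  have hHπ : PiNum ({p} : Set ℕ) (Nat.card (Cfsg.pCore p G)) := by
    rw [hkH]; exact piNum_prime_pow hp (Set.mem_singleton p) kH
  -- the other cores are trivial
  have hcore : ∀ q : ℕ, q.Prime → q ≠ p → Cfsg.pCore q G = ⊥ := by
    intro q hq hqp
    by_contra hQ
    haveI : Fact q.Prime := ⟨hq⟩
    let S : Sylow p G := default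
    have hSn := cn_normal_sylow_of_two_cores hCN p q (Ne.symm hqp) hH1 hQ S
    have hS1 := hnoSyl p S hSn
    exact hH1 (eq_bot_iff.mpr (hS1 ▸ hHp.le_sylow_of_normal S))
  -- `C_G(O_p(G)) ≤ O_p(G)`
  have hcent : Subgroup.centralizer (Cfsg.pCore p G : Set G) ≤ Cfsg.pCore p G := by
    haveI hCn : (Subgroup.centralizer (Cfsg.pCore p G : Set G)).Normal :=
      Subgroup.normal_centralizer
    obtain ⟨z₀, hz₀H, hz₀1⟩ := exists_ne_one_of_ne_bot hH1
    have hnilC : Group.IsNilpotent (Subgroup.centralizer (Cfsg.pCore p G : Set G)) :=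
      Cfsg.Agent.Helper25.isNilpotent_of_le
        (Subgroup.centralizer_le (Set.singleton_subset_iff.mpr hz₀H)) (hCN z₀ hz₀1)
    apply le_pCore' hCn
    apply isPGroup_of_forall_prime_dvd
    intro q hq hqd
    by_contra hqp
    exact pCore_ne_bot_of_dvd_card_nilpotent _ hnilC q hq hqd (hcore q hq hqp)
  have hfpf : ∀ x : G, (orderOf x).Coprime p → x ≠ 1 → ∀ y ∈ Cfsg.pCore p G,
      x * y = y * x → y = 1 :=
    fun x hx hx1 y hy hxy => cn_fpf_of_pCore hCN p hcent x hx hx1 y hy hxy
  -- the quotient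
  have hCNq : Cfsg.IsCNGroup (G ⧸ Cfsg.pCore p G) :=
    Cfsg.Agent.Helper25.isCNGroup_quotient_of_isSolvable hCN (Cfsg.pCore p G) inferInstance
  have hcoreq : Cfsg.pCore p (G ⧸ Cfsg.pCore p G) = ⊥ := by
    apply eq_bot_of_normal_pi_quot (π := ({p} : Set ℕ)) (Cfsg.pCore p G) hHπ
    · intro N' hN' hπ
      exact le_pCore' hN' (isPGroup_of_forall_prime_dvd p (fun q hq hqd => hπ q hq hqd))
    · exact pCore_normal' p _
    · obtain ⟨k, hk⟩ := IsPGroup.iff_card.mp (pCore_isPGroup' p (G ⧸ Cfsg.pCore p G))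
      rw [hk]; exact piNum_prime_pow hp (Set.mem_singleton p) k
  set F := Cfsg.fittingSubgroup (G ⧸ Cfsg.pCore p G) with hFdef
  haveI hFn : F.Normal := Cfsg.Agent.Helper71.fittingSubgroup_normal _
  have hFnil : Group.IsNilpotent F := Cfsg.Agent.Helper71.fittingSubgroup_isNilpotent _
  have hpF : ¬ p ∣ Nat.card F := by
    intro hd
    exact pCore_ne_bot_of_dvd_card_nilpotent F hFnil p hp hd hcoreq
  -- the quotient is not nilpotent
  have hnnq : ¬ Group.IsNilpotent (G ⧸ Cfsg.pCore p G) := by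
    intro hnil
    haveI := hnil
    have hpd : ¬ p ∣ Nat.card (G ⧸ Cfsg.pCore p G) := by
      intro hd
      have htop : Group.IsNilpotent (⊤ : Subgroup (G ⧸ Cfsg.pCore p G)) :=
        Group.nilpotent_of_mulEquiv Subgroup.topEquiv.symm
      exact pCore_ne_bot_of_dvd_card_nilpotent ⊤ htop p hp (by rwa [Subgroup.card_top]) hcoreq
    have hidx : ¬ p ∣ (Cfsg.pCore p G).index := by rwa [Subgroup.index_eq_card]
    have hS := hnoSyl p (hHp.toSylow hidx) (by rw [IsPGroup.toSylow_coe]; exact hHn)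
    rw [IsPGroup.toSylow_coe] at hS
    exact hH1 hS
  have hFtop : F ≠ ⊤ := by
    intro h
    apply hnnq
    haveI h' : Group.IsNilpotent (⊤ : Subgroup (G ⧸ Cfsg.pCore p G)) := by
      rw [← h]; exact hFnil
    exact Group.nilpotent_of_mulEquiv Subgroup.topEquiv
  have hFcent : Subgroup.centralizer (F : Set (G ⧸ Cfsg.pCore p G)) ≤ F :=
    Cfsg.Agent.Helper73.centralizer_fittingSubgroup_le
  have hFbot : F ≠ ⊥ := by
    intro h
    apply hFtop
    rw [eq_top_iff]
    intro x _
    apply hFcent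
    rw [Subgroup.mem_centralizer_iff]
    intro y hy
    have hy' : y ∈ F := hy
    rw [h] at hy'
    rw [Subgroup.mem_bot.mp hy', one_mul, mul_one]
  set K : Subgroup G := F.comap (QuotientGroup.mk' (Cfsg.pCore p G)) with hKdef
  have hKn : K.Normal := hFn.comap _
  have hKmap : K.map (QuotientGroup.mk' (Cfsg.pCore p G)) = F :=
    Subgroup.map_comap_eq_self_of_surjective (QuotientGroup.mk'_surjective _) F
  have hHK : Cfsg.pCore p G ≤ K := by
    intro x hx
    show (QuotientGroup.mk' (Cfsg.pCore p G) x) ∈ F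
    have e : QuotientGroup.mk' (Cfsg.pCore p G) x = 1 := (QuotientGroup.eq_one_iff x).mpr hx
    rw [e]; exact F.one_mem
  have hKcard : Nat.card K = Nat.card F * Nat.card (Cfsg.pCore p G) := card_comap_mk' _ F
  have hKtop : K ≠ ⊤ := by
    intro h
    apply hFtop
    rw [← hKmap, h, ← MonoidHom.range_eq_map,
      MonoidHom.range_eq_top.mpr (QuotientGroup.mk'_surjective _)]
  have hFπ : PiNum ({p} : Set ℕ)ᶜ (Nat.card F) := by
    intro q hq hqd hqp
    have e : q = p := hqp
    exact hpF (e ▸ hqd)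
  have hNcard : Nat.card ((Cfsg.pCore p G).subgroupOf K) = Nat.card (Cfsg.pCore p G) :=
    card_subgroupOf_of_le hHK
  have hNbot : (Cfsg.pCore p G).subgroupOf K ≠ ⊥ := by
    intro h
    rw [← Subgroup.card_eq_one, hNcard, Subgroup.card_eq_one] at h
    exact hH1 h
  -- no element of `K` has order `p * b`
  have hAK : NoMix ({p} : Set ℕ) K := by
    intro a ha b hb hap hbp g hg
    have ha' : a = p := ha
    have hba : b ≠ p := hb
    have hgo : orderOf (g : G) = a * b := by rw [Subgroup.orderOf_coe, hg]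
    have hox : orderOf ((g : G) ^ a) = b := orderOf_pow_cofactor (g : G) (by rw [hgo, mul_comm])
    have hoy : orderOf ((g : G) ^ b) = a := orderOf_pow_cofactor (g : G) hgo
    have hyH : (g : G) ^ b ∈ Cfsg.pCore p G := by
      have h1 : orderOf (QuotientGroup.mk' (Cfsg.pCore p G) ((g : G) ^ b)) ∣ a :=
        hoy ▸ orderOf_map_dvd _ _
      have hmem : QuotientGroup.mk' (Cfsg.pCore p G) ((g : G) ^ b) ∈ F := K.pow_mem g.2 b
      have h2 : orderOf (QuotientGroup.mk' (Cfsg.pCore p G) ((g : G) ^ b)) ∣ Nat.card F :=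
        F.orderOf_dvd_natCard hmem
      have hcop : a.Coprime (Nat.card F) := by
        rw [ha']; exact (Nat.Prime.coprime_iff_not_dvd hp).mpr hpF
      have h3 := Nat.eq_one_of_dvd_coprimes hcop h1 h2
      exact (QuotientGroup.eq_one_iff _).mp (orderOf_eq_one_iff.mp h3)
    have hx1 : (g : G) ^ a ≠ 1 := by
      intro h
      rw [h, orderOf_one] at hox
      exact hbp.ne_one hox.symm
    have hy1 := hfpf ((g : G) ^ a) (by rw [hox]; exact (Nat.coprime_primes hbp hp).mpr hba)
      hx1 _ hyH ((Commute.refl (g : G)).pow_pow a b).eq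
    rw [hy1, orderOf_one] at hoy
    exact hap.ne_one hoy.symm
  let f : K →* F :=
    ((QuotientGroup.mk' (Cfsg.pCore p G)).comp K.subtype).codRestrict F (fun x => x.2)
  have hf : Function.Surjective f := by
    rintro ⟨y, hy⟩
    obtain ⟨g, rfl⟩ := QuotientGroup.mk'_surjective _ y
    exact ⟨⟨g, hy⟩, rfl⟩
  have hfker : f.ker = (Cfsg.pCore p G).subgroupOf K := by
    ext x
    rw [MonoidHom.mem_ker, Subgroup.mem_subgroupOf]
    constructor
    · intro h
      have h1 : QuotientGroup.mk' (Cfsg.pCore p G) (x : G) = 1 := congrArg Subtype.val h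
      exact (QuotientGroup.eq_one_iff _).mp h1
    · intro h
      apply Subtype.ext
      exact (QuotientGroup.eq_one_iff _).mpr h
  have hU : ∀ r : ℕ, r.Prime → ∀ S T : Subgroup F, Nat.card S = r → Nat.card T = r → S = T := by
    intro r hr S T hS hT
    exact unique_prime_subgroup_of_noMix hAK f hf (hfker ▸ hNbot)
      (by rw [hfker, hNcard]; exact hHπ) hFπ hFnil r hr S T hS hT
  -- `F` has odd order
  have hodd : Odd (Nat.card F) := by
    rw [← Nat.not_even_iff_odd]
    intro heven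
    haveI : Fact (Nat.Prime 2) := ⟨Nat.prime_two⟩
    obtain ⟨z, hz⟩ := exists_prime_orderOf_dvd_card' 2 (even_iff_two_dvd.mp heven)
    have hzc := conj_eq_of_unique_order_two F (hU 2 Nat.prime_two) z hz
    have hz1 : (z : G ⧸ Cfsg.pCore p G) ≠ 1 := by
      intro h
      have e : z = 1 := Subtype.ext h
      rw [e, orderOf_one] at hz
      exact absurd hz (by norm_num)
    have hcz : Subgroup.centralizer ({(z : G ⧸ Cfsg.pCore p G)} : Set (G ⧸ Cfsg.pCore p G))
        = ⊤ := by
      rw [eq_top_iff]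
      intro g _
      rw [Cfsg.Agent.Helper25.mem_centralizer_singleton_iff']
      have h1 := hzc g
      calc (z : G ⧸ Cfsg.pCore p G) * g = (g * z * g⁻¹) * g := by rw [h1]
        _ = g * z := by group
    have h2 := hCNq _ hz1
    rw [hcz] at h2
    apply hnnq
    haveI := h2
    exact Group.nilpotent_of_mulEquiv Subgroup.topEquiv
  haveI hcyc : IsCyclic F := isCyclic_of_nilpotent_of_unique hFnil hodd hU
  have hder : ∀ x y : G ⧸ Cfsg.pCore p G, (x * y)⁻¹ * (y * x) ∈ F :=
    fun x y => hFcent (comm_mem_centralizer_of_cyclic_normal F x y)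
  -- elements outside `F` act without fixed points on `F`
  have hfrobq : ∀ x : G ⧸ Cfsg.pCore p G, x ∉ F → ∀ a ∈ F, a ≠ 1 → x * a ≠ a * x := by
    intro x hx a ha ha1 hcomm
    apply hx
    have hMnil : Group.IsNilpotent
        (Subgroup.centralizer ({a} : Set (G ⧸ Cfsg.pCore p G))) := hCNq a ha1
    have hFM : F ≤ Subgroup.centralizer ({a} : Set (G ⧸ Cfsg.pCore p G)) := by
      intro b hb
      rw [Cfsg.Agent.Helper25.mem_centralizer_singleton_iff']
      haveI : IsMulCommutative F := IsCyclic.isMulCommutative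
      exact congrArg Subtype.val (mul_comm' (⟨a, ha⟩ : F) ⟨b, hb⟩)
    have hMn : (Subgroup.centralizer ({a} : Set (G ⧸ Cfsg.pCore p G))).Normal := by
      constructor
      intro m hm g
      have h1 : g * m * g⁻¹ * m⁻¹ ∈ F := by
        have h := hder m⁻¹ g⁻¹
        have e : (m⁻¹ * g⁻¹)⁻¹ * (g⁻¹ * m⁻¹) = g * m * g⁻¹ * m⁻¹ := by group
        rw [e] at h; exact h
      have e2 : g * m * g⁻¹ = (g * m * g⁻¹ * m⁻¹) * m := by group
      rw [e2]
      exact Subgroup.mul_mem _ (hFM h1) hm
    have hMF := Cfsg.Agent.Helper71.le_fittingSubgroup _ hMn hMnil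
    apply hMF
    rw [Cfsg.Agent.Helper25.mem_centralizer_singleton_iff']
    exact hcomm.symm
  -- the index of `F` is a power of `p`
  have hidxp : ∀ q : ℕ, q.Prime → q ∣ F.index → q = p := by
    intro q hq hqd
    by_contra hqp
    haveI : Fact q.Prime := ⟨hq⟩
    have hqF : ¬ q ∣ Nat.card F := by
      intro hqF
      rw [Subgroup.index_eq_card] at hqd
      obtain ⟨u, hu⟩ := exists_prime_orderOf_dvd_card' q hqd
      obtain ⟨y, rfl⟩ := QuotientGroup.mk'_surjective F u
      have hyF : y ∉ F := by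
        intro h
        have e : QuotientGroup.mk' F y = 1 := (QuotientGroup.eq_one_iff y).mpr h
        rw [e, orderOf_one] at hu
        exact hq.ne_one hu.symm
      have hyq : y ^ q ∈ F := by
        have h1 := pow_orderOf_eq_one (QuotientGroup.mk' F y)
        rw [hu, ← map_pow] at h1
        exact (QuotientGroup.eq_one_iff _).mp h1
      by_cases hyq1 : y ^ q = 1
      · have h1 := exists_fixed_of_dvd_card q F y
          (by rw [Subgroup.normalizer_eq_top]; exact Subgroup.mem_top y) hqF hyq1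
        apply h1
        rw [eq_bot_iff]
        rintro a ⟨ha1, ha2⟩
        rw [Subgroup.mem_bot]
        by_contra hane
        have ha2' : a ∈ Subgroup.centralizer ({y} : Set (G ⧸ Cfsg.pCore p G)) := ha2
        exact hfrobq y hyF a ha1 hane
          (Cfsg.Agent.Helper25.mem_centralizer_singleton_iff'.mp ha2')
      · exact hfrobq y hyF (y ^ q) hyq hyq1 (by rw [← pow_succ', ← pow_succ])
    have hqG : q ∣ Nat.card G := by
      have h1 : F.index ∣ Nat.card (G ⧸ Cfsg.pCore p G) := Subgroup.index_dvd_card F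
      have h2 : Nat.card (G ⧸ Cfsg.pCore p G) ∣ Nat.card G :=
        ⟨_, (card_quotient_mul_card _).symm⟩
      exact hqd.trans (h1.trans h2)
    obtain ⟨n, hn⟩ := exists_prime_orderOf_dvd_card' q hqG
    have hnbF : QuotientGroup.mk' (Cfsg.pCore p G) n ∉ F := by
      intro h
      have h1 : orderOf (QuotientGroup.mk' (Cfsg.pCore p G) n) ∣ q := hn ▸ orderOf_map_dvd _ n
      have h2 : orderOf (QuotientGroup.mk' (Cfsg.pCore p G) n) ∣ Nat.card F :=
        F.orderOf_dvd_natCard h
      have h3 : orderOf (QuotientGroup.mk' (Cfsg.pCore p G) n) = 1 :=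
        Nat.eq_one_of_dvd_coprimes ((Nat.Prime.coprime_iff_not_dvd hq).mpr hqF) h1 h2
      have h4 : n ∈ Cfsg.pCore p G :=
        (QuotientGroup.eq_one_iff n).mp (orderOf_eq_one_iff.mp h3)
      obtain ⟨k, hk⟩ := orderOf_eq_prime_pow_of_mem hHp h4
      rw [hn] at hk
      have h5 : q ∣ p ^ k := hk ▸ dvd_rfl
      exact hqp ((Nat.prime_dvd_prime_iff_eq hq hp).mp (hq.dvd_of_dvd_pow h5))
    have hnbq : (QuotientGroup.mk' (Cfsg.pCore p G) n) ^ q = 1 := by
      rw [← map_pow, ← hn, pow_orderOf_eq_one, map_one]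
    have hnbo : orderOf (QuotientGroup.mk' (Cfsg.pCore p G) n) = q := by
      have h1 : orderOf (QuotientGroup.mk' (Cfsg.pCore p G) n) ∣ q :=
        orderOf_dvd_of_pow_eq_one hnbq
      rcases (Nat.dvd_prime hq).mp h1 with h | h
      · exfalso; apply hnbF; rw [orderOf_eq_one_iff.mp h]; exact F.one_mem
      · exact h
    -- a subgroup of prime order `s` of `F`
    have hFcard : Nat.card F ≠ 1 := fun h => hFbot (Subgroup.card_eq_one.mp h)
    obtain ⟨s, hs, hsd⟩ := Nat.exists_prime_and_dvd hFcard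
    haveI : Fact s.Prime := ⟨hs⟩
    obtain ⟨a', ha'⟩ := exists_prime_orderOf_dvd_card' s hsd
    have habo : orderOf (a' : G ⧸ Cfsg.pCore p G) = s := by rw [Subgroup.orderOf_coe, ha']
    have hab1 : (a' : G ⧸ Cfsg.pCore p G) ≠ 1 := by
      intro h
      rw [h, orderOf_one] at habo
      exact hs.ne_one habo.symm
    have hsq : s ≠ q := fun h => hqF (h ▸ hsd)
    have hsp : s ≠ p := fun h => hpF (h ▸ hsd)
    haveI hZn : (Subgroup.zpowers (a' : G ⧸ Cfsg.pCore p G)).Normal := by
      apply zpowers_normal_of_forall_conj_mem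
      intro g
      let φ : F →* F := (MulAut.conjNormal g : MulAut F).toMonoidHom
      have hφ : ((φ a' : F) : G ⧸ Cfsg.pCore p G) = g * a' * g⁻¹ := MulAut.conjNormal_apply g a'
      have hφinj : Function.Injective φ := (MulAut.conjNormal g : MulAut F).injective
      have h1 : Subgroup.zpowers a' = Subgroup.zpowers (φ a') :=
        hU s hs _ _ (by rw [Nat.card_zpowers, ha'])
          (by rw [Nat.card_zpowers, orderOf_injective φ hφinj, ha'])
      have h2 : φ a' ∈ Subgroup.zpowers a' := by rw [h1]; exact Subgroup.mem_zpowers _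
      obtain ⟨k, hk⟩ := Subgroup.mem_zpowers_iff.mp h2
      rw [← hφ, ← hk, Subgroup.coe_zpow]
      exact Subgroup.zpow_mem_zpowers _ k
    have hdisjZ : Subgroup.zpowers (a' : G ⧸ Cfsg.pCore p G) ⊓
        Subgroup.zpowers (QuotientGroup.mk' (Cfsg.pCore p G) n) = ⊥ := by
      apply disjoint_iff.mp
      apply Subgroup.disjoint_of_coprime_natCard
      rw [Nat.card_zpowers, Nat.card_zpowers, habo, hnbo]
      exact (Nat.coprime_primes hs hq).mpr hsq
    have hWcard : Nat.card (Subgroup.zpowers (a' : G ⧸ Cfsg.pCore p G) ⊔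
        Subgroup.zpowers (QuotientGroup.mk' (Cfsg.pCore p G) n) : Subgroup _) = s * q := by
      rw [card_sup_eq_mul_relIndex, ← Subgroup.inf_relIndex_right, hdisjZ,
        Subgroup.relIndex_bot_left, Nat.card_zpowers, Nat.card_zpowers, habo, hnbo]
    set W : Subgroup (G ⧸ Cfsg.pCore p G) := Subgroup.zpowers (a' : G ⧸ Cfsg.pCore p G) ⊔
        Subgroup.zpowers (QuotientGroup.mk' (Cfsg.pCore p G) n) with hW
    set L : Subgroup G := W.comap (QuotientGroup.mk' (Cfsg.pCore p G)) with hL
    have hHL : Cfsg.pCore p G ≤ L := by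
      intro x hx
      show (QuotientGroup.mk' (Cfsg.pCore p G) x) ∈ W
      have e : QuotientGroup.mk' (Cfsg.pCore p G) x = 1 := (QuotientGroup.eq_one_iff x).mpr hx
      rw [e]; exact W.one_mem
    have hLcard : Nat.card L = Nat.card W * Nat.card (Cfsg.pCore p G) := card_comap_mk' _ W
    have hrel : (Cfsg.pCore p G).relIndex L = s * q := by
      have h1 := Cfsg.Agent.Helper71.card_mul_relIndex_of_le hHL
      rw [hLcard, hWcard, mul_comm (Nat.card (Cfsg.pCore p G)) _] at h1
      exact Nat.eq_of_mul_eq_mul_right Nat.card_pos h1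
    have hcopL : (Nat.card (Cfsg.pCore p G)).Coprime ((Cfsg.pCore p G).relIndex L) := by
      rw [hrel, hkH]
      apply Nat.Coprime.pow_left
      exact Nat.Coprime.mul_right ((Nat.coprime_primes hp hs).mpr (Ne.symm hsp))
        ((Nat.coprime_primes hp hq).mpr (Ne.symm hqp))
    obtain ⟨B, hBL, hdisjB, hsupB, hBcard⟩ :=
      exists_rel_complement (Cfsg.pCore p G) L hHL hcopL
    rw [hrel] at hBcard
    have hBmap : B.map (QuotientGroup.mk' (Cfsg.pCore p G)) = W := by
      have h1 : L.map (QuotientGroup.mk' (Cfsg.pCore p G)) = W :=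
        Subgroup.map_comap_eq_self_of_surjective (QuotientGroup.mk'_surjective _) W
      rw [← h1, ← hsupB, Subgroup.map_sup, QuotientGroup.map_mk'_self, bot_sup_eq]
    have hBnc : ¬ IsMulCommutative B := by
      intro hc
      have hnbW : QuotientGroup.mk' (Cfsg.pCore p G) n ∈ W :=
        Subgroup.mem_sup_right (Subgroup.mem_zpowers _)
      have habW : (a' : G ⧸ Cfsg.pCore p G) ∈ W := Subgroup.mem_sup_left (Subgroup.mem_zpowers _)
      rw [← hBmap] at hnbW habW
      obtain ⟨b₁, hb₁, e₁⟩ := hnbW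
      obtain ⟨b₂, hb₂, e₂⟩ := habW
      have h1 : b₁ * b₂ = b₂ * b₁ := congrArg Subtype.val (mul_comm' (⟨b₁, hb₁⟩ : B) ⟨b₂, hb₂⟩)
      apply hfrobq _ hnbF _ a'.2 hab1
      rw [← e₁, ← e₂, ← map_mul, ← map_mul, h1]
    -- the centre of `O_p(G)`
    set V : Subgroup G := Cfsg.pCore p G ⊓ Subgroup.centralizer (Cfsg.pCore p G : Set G) with hV
    haveI hVc : IsMulCommutative V := ⟨⟨fun a b => Subtype.ext (by
      have h1 : (b : G) ∈ Subgroup.centralizer (Cfsg.pCore p G : Set G) := b.2.2
      exact Subgroup.mem_centralizer_iff.mp h1 a a.2.1)⟩⟩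
    have hV1 : V ≠ ⊥ := by
      obtain ⟨z, hzH, hz1, hzc⟩ := exists_central_of_isPGroup hHp hH1
      intro h
      apply hz1
      have hzV : z ∈ V := ⟨hzH, by
        show z ∈ Subgroup.centralizer (Cfsg.pCore p G : Set G)
        rw [Subgroup.mem_centralizer_iff]
        intro h hh
        exact (hzc h hh).symm⟩
      rw [h] at hzV
      exact Subgroup.mem_bot.mp hzV
    have hBV : B ≤ Subgroup.normalizer (V : Set G) := by
      intro b _
      exact mem_normalizer_inf_centralizer_self (Cfsg.pCore p G) b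
        (by rw [Subgroup.normalizer_eq_top]; exact Subgroup.mem_top b)
    have hfpfB : ∀ b ∈ B, b ≠ 1 → V ⊓ Subgroup.centralizer {b} = ⊥ := by
      intro b hb hb1
      rw [eq_bot_iff]
      rintro y ⟨hy1, hy2⟩
      have hyH : y ∈ Cfsg.pCore p G := hy1.1
      have hy2' : y ∈ Subgroup.centralizer ({b} : Set G) := hy2
      have hbo : (orderOf b).Coprime p := by
        have h1 : orderOf b ∣ s * q := hBcard ▸ B.orderOf_dvd_natCard hb
        exact Nat.Coprime.coprime_dvd_left h1
          (Nat.Coprime.mul_left ((Nat.coprime_primes hs hp).mpr hsp)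
            ((Nat.coprime_primes hq hp).mpr hqp))
      exact Subgroup.mem_bot.mpr (hfpf b hbo hb1 y hyH
        (Cfsg.Agent.Helper25.mem_centralizer_singleton_iff'.mp hy2'))
    rcases lt_or_gt_of_ne hsq with h | h
    · exact fpf_pq_false B V hV1 hBV hfpfB s q hs hq h hBcard hBnc
    · exact fpf_pq_false B V hV1 hBV hfpfB q s hq hs h (by rw [hBcard, mul_comm]) hBnc
  -- a complement `A` of `O_p(G)` in `K`
  have hrelK : (Cfsg.pCore p G).relIndex K = Nat.card F := by
    have h1 := Cfsg.Agent.Helper71.card_mul_relIndex_of_le hHK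
    rw [hKcard, mul_comm (Nat.card (Cfsg.pCore p G)) _] at h1
    exact Nat.eq_of_mul_eq_mul_right Nat.card_pos h1
  have hcopK : (Nat.card (Cfsg.pCore p G)).Coprime ((Cfsg.pCore p G).relIndex K) := by
    rw [hrelK, hkH]
    exact Nat.Coprime.pow_left _ ((Nat.Prime.coprime_iff_not_dvd hp).mpr hpF)
  obtain ⟨A, hAK', hdisjA, hsupA, hAcard⟩ := exists_rel_complement (Cfsg.pCore p G) K hHK hcopK
  rw [hrelK] at hAcard
  have hAmap : A.map (QuotientGroup.mk' (Cfsg.pCore p G)) = F := by
    rw [← hKmap, ← hsupA, Subgroup.map_sup, QuotientGroup.map_mk'_self, bot_sup_eq]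
  have hAinj : ∀ a ∈ A, QuotientGroup.mk' (Cfsg.pCore p G) a = 1 → a = 1 := by
    intro a ha h
    exact Subgroup.disjoint_def.mp hdisjA ((QuotientGroup.eq_one_iff a).mp h) ha
  let fA : A →* F := ((QuotientGroup.mk' (Cfsg.pCore p G)).comp A.subtype).codRestrict F
    (fun x => by rw [← hAmap]; exact Subgroup.mem_map_of_mem _ x.2)
  have hfAbij : Function.Bijective fA := by
    constructor
    · rw [injective_iff_map_eq_one]
      intro x hx
      exact Subtype.ext (hAinj x x.2 (congrArg Subtype.val hx))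
    · rintro ⟨y, hy⟩
      have hy' : y ∈ A.map (QuotientGroup.mk' (Cfsg.pCore p G)) := by rw [hAmap]; exact hy
      obtain ⟨a, ha, rfl⟩ := hy'
      exact ⟨⟨a, ha⟩, rfl⟩
  have hAcyc : IsCyclic A :=
    isCyclic_of_surjective (MulEquiv.ofBijective fA hfAbij).symm (MulEquiv.surjective _)
  have hA1 : A ≠ ⊥ := by
    intro h
    rw [h, Subgroup.card_bot] at hAcard
    exact hFbot (Subgroup.card_eq_one.mp hAcard.symm)
  refine ⟨p, hp, ?_⟩
  unfold Cfsg.IsThreeStepGroup
  refine ⟨hH1, A, hA1, hAcyc, hAcard ▸ hodd, ?_, ?_, ?_, ?_, ?_, ?_⟩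
  · rw [hAcard]; exact ((Nat.Prime.coprime_iff_not_dvd hp).mpr hpF).symm
  · rw [hsupA]; exact hKn
  · rw [hsupA]; exact hKtop
  · rw [hsupA]
    have hidx : K.index = F.index :=
      Subgroup.index_comap_of_surjective F (QuotientGroup.mk'_surjective _)
    rw [hidx]
    exact ⟨_, Nat.eq_prime_pow_of_unique_prime_dvd Subgroup.index_ne_zero_of_finite
      (fun {d} hd hdd => hidxp d hd hdd)⟩
  · intro a ha ha1
    rw [eq_bot_iff]
    rintro y ⟨hy1, hy2⟩
    have hy2' : y ∈ Subgroup.centralizer ({a} : Set G) := hy2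
    have hao : (orderOf a).Coprime p := by
      have h1 : orderOf a ∣ Nat.card F := hAcard ▸ A.orderOf_dvd_natCard ha
      exact Nat.Coprime.coprime_dvd_left h1 ((Nat.Prime.coprime_iff_not_dvd hp).mpr hpF).symm
    exact Subgroup.mem_bot.mpr (hfpf a hao ha1 y hy1
      (Cfsg.Agent.Helper25.mem_centralizer_singleton_iff'.mp hy2'))
  · intro x hx a ha ha1 hmem
    rw [hsupA] at hx
    have hxF : QuotientGroup.mk' (Cfsg.pCore p G) x ∉ F := hx
    have haF : QuotientGroup.mk' (Cfsg.pCore p G) a ∈ F := hAK' ha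
    have ha1' : QuotientGroup.mk' (Cfsg.pCore p G) a ≠ 1 := fun h => ha1 (hAinj a ha h)
    apply hfrobq _ hxF _ haF ha1'
    have h1 : QuotientGroup.mk' (Cfsg.pCore p G) (x * a * x⁻¹ * a⁻¹) = 1 :=
      (QuotientGroup.eq_one_iff _).mpr hmem
    rw [map_mul, map_mul, map_mul, map_inv, map_inv] at h1
    calc QuotientGroup.mk' (Cfsg.pCore p G) x * QuotientGroup.mk' (Cfsg.pCore p G) a
        = (QuotientGroup.mk' (Cfsg.pCore p G) x * QuotientGroup.mk' (Cfsg.pCore p G) a *
            (QuotientGroup.mk' (Cfsg.pCore p G) x)⁻¹ *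
            (QuotientGroup.mk' (Cfsg.pCore p G) a)⁻¹) *
          (QuotientGroup.mk' (Cfsg.pCore p G) a * QuotientGroup.mk' (Cfsg.pCore p G) x) := by
          group
      _ = QuotientGroup.mk' (Cfsg.pCore p G) a * QuotientGroup.mk' (Cfsg.pCore p G) x := by
          rw [h1, one_mul]

end Cfsg.Agent.Helper1
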