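/-
helper1: B&G Theorem 13.9 (row S1378), final assembly from the pieces of CALL S1378.
`bg139_main` is the statement of S1378 with S1428 (B&G 13.4) as a hypothesis `BG1328 G`.
-/
import Cfsg.Agent.Helper1.BG139Defs
import Cfsg.Prelude.Def_OddOrder
import Cfsg.Agent.Helper22.BG12b
import Cfsg.Agent.Helper49.BG1216
import Cfsg.Agent.Helper23.Uniq
import Cfsg.Agent.S1403
import Cfsg.Agent.S1415
import Cfsg.Agent.S1423
import Cfsg.Agent.Helper1.BG139C3
import Cfsg.Agent.Helper1.BG139D2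
import Cfsg.Agent.Helper1.BG139D4
import Cfsg.Agent.Helper23.BG139D1
import Cfsg.Agent.Helper31.BG139B6
import Cfsg.Agent.Helper31.BG139B7
import Cfsg.Agent.Helper31.BG139C7
import Cfsg.Agent.Helper31.BG139HALL
import Cfsg.Agent.Helper34.BG139D3b
import Cfsg.Agent.Helper39.BG139B5
import Cfsg.Agent.Helper39.BG139C0
import Cfsg.Agent.Helper4.BG139B3
import Cfsg.Agent.Helper41.BG139R0
import Cfsg.Agent.Helper49.BG139C2
import Cfsg.Agent.Helper49.BG139C5
import Cfsg.Agent.Helper51.BG139B4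
import Cfsg.Agent.Helper53.BG139C1
import Cfsg.Agent.Helper58.BG139B2
import Cfsg.Agent.Helper61.BG139B1
import Cfsg.Agent.Helper61.BG139C8
import Cfsg.Agent.Helper62.BG139B8
import Cfsg.Agent.Helper83.BG139D3a
import Cfsg.Agent.Helper83.BG139D3c
import Cfsg.Agent.Helper98.BG139CARD

set_option autoImplicit false


namespace Cfsg.Agent.Helper1

open Cfsg Subgroup Cfsg.Agent.Helper1 Cfsg.Agent.Helper23 Cfsg.Agent.Helper31 Cfsg.Agent.Helper34 Cfsg.Agent.Helper39 Cfsg.Agent.Helper4 Cfsg.Agent.Helper41 Cfsg.Agent.Helper49 Cfsg.Agent.Helper51 Cfsg.Agent.Helper53 Cfsg.Agent.Helper58 Cfsg.Agent.Helper61 Cfsg.Agent.Helper62 Cfsg.Agent.Helper83 Cfsg.Agent.Helper98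

universe u

variable {G : Type u} [Group G] [Finite G]

/-- The commuting lemma: after conjugation by an element of `C_G(P)`, the subgroups `X` and `X'`
commute (via a maximal subgroup `H ≥ N_G(P)`). -/
theorem bg139_commute (hG : IsMinSimpleOddOrder G) (h28 : BG1328 G) {M Ms P X X' : Subgroup G}
    (hM : IsCoatom M) (hMs : IsCoatom Ms)
    (hnc : ∀ g : G, Ms ≠ M.map (MulAut.conj g).toMonoidHom) {p t t' : ℕ}
    (hpM : p ∈ tau1 M) (hpMs : p ∈ tau1 Ms) (hPc : Nat.card P = p) (hPM : P ≤ M)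
    (hPMs : P ≤ Ms) (ht : t ∈ beta M) (hX : X ≤ sigmaCore M ⊓ centralizer (P : Set G))
    (hXc : Nat.card X = t) (ht' : t' ∈ beta Ms)
    (hX' : X' ≤ sigmaCore Ms ⊓ centralizer (P : Set G)) (hX'c : Nat.card X' = t') :
    ∃ c ∈ centralizer (P : Set G), ∀ x ∈ X, ∀ y ∈ X', x * (c * y * c⁻¹) = c * y * c⁻¹ * x := by
  have hU : Helper22.BGUniq G := fun K hK h1 h2 => Cfsg.Agent.S1403.result hG K hK h1 h2
  haveI hsimple : IsSimpleGroup G := hG.2.1
  have hp : p.Prime := hpM.1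
  have htα : t ∈ alpha M := ht.1
  have htp : t.Prime := htα.1
  have ht'α : t' ∈ alpha Ms := ht'.1
  have ht'p : t'.Prime := ht'α.1
  have htσ : t ∈ sigma M := Helper22.bg10_alpha_sub_sigma hG hU hM htα
  have ht'σ : t' ∈ sigma Ms := Helper22.bg10_alpha_sub_sigma hG hU hMs ht'α
  have hnc' : ∀ g : G, M ≠ Ms.map (MulAut.conj g).toMonoidHom := by
    intro g h
    apply hnc g⁻¹
    rw [h, Subgroup.map_map]
    ext x
    simp only [Subgroup.mem_map, MonoidHom.coe_comp, MulEquiv.coe_toMonoidHom, Function.comp_apply,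
      MulAut.conj_apply]
    constructor
    · intro hx
      exact ⟨x, hx, by group⟩
    · rintro ⟨y, hy, rfl⟩
      have : g⁻¹ * (g * y * g⁻¹) * g⁻¹⁻¹ = y := by group
      rw [this]; exact hy
  have htσMs : t ∉ sigma Ms := Helper49.bg1216_alpha_disjoint hU hMs hM hnc' htα
  have ht'σM : t' ∉ sigma M := Helper49.bg1216_alpha_disjoint hU hM hMs hnc ht'α
  have hσM : sigmaCore M ≤ M := Subgroup.map_subtype_le _
  have hσMs : sigmaCore Ms ≤ Ms := Subgroup.map_subtype_le _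
  have hXσ : X ≤ sigmaCore M := hX.trans inf_le_left
  have hX'σ : X' ≤ sigmaCore Ms := hX'.trans inf_le_left
  have hXM : X ≤ M := hXσ.trans hσM
  have hX'Ms : X' ≤ Ms := hX'σ.trans hσMs
  have hXP : X ≤ centralizer (P : Set G) := hX.trans inf_le_right
  have hX'P : X' ≤ centralizer (P : Set G) := hX'.trans inf_le_right
  -- normalizers of `X`, `X'`
  have hone : ∀ {A : Subgroup G} {n : ℕ}, n.Prime → Nat.card A = n → A ≠ ⊥ := by
    intro A n hn hA h
    rw [h, Subgroup.card_bot] at hA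
    exact hn.one_lt.ne hA
  have hproper : ∀ {A K : Subgroup G}, IsCoatom K → A ≤ K → A ≠ ⊤ := by
    intro A K hK hA h
    exact hK.1 (top_le_iff.mp (h ▸ hA))
  have hNX : normalizer (X : Set G) ≤ M := by
    haveI : Fact t.Prime := ⟨htp⟩
    have h23 := (Cfsg.Agent.S1423.result hG M hM t htσ X hXM hXc default (Or.inl ht)).1
    have hne : normalizer (X : Set G) ≠ ⊤ :=
      Helper23.normalizer_ne_top_of_simple (hone htp hXc) (hproper hM hXM)
    obtain ⟨L, hL, hle⟩ := Helper23.uq_exists_coatom_ge hne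
    have := h23.2 L hL ((Subgroup.centralizer_le_normalizer _).trans hle)
    rw [← this]; exact hle
  have hNX' : normalizer (X' : Set G) ≤ Ms := by
    haveI : Fact t'.Prime := ⟨ht'p⟩
    have h23 := (Cfsg.Agent.S1423.result hG Ms hMs t' ht'σ X' hX'Ms hX'c default (Or.inl ht')).1
    have hne : normalizer (X' : Set G) ≠ ⊤ :=
      Helper23.normalizer_ne_top_of_simple (hone ht'p hX'c) (hproper hMs hX'Ms)
    obtain ⟨L, hL, hle⟩ := Helper23.uq_exists_coatom_ge hne
    have := h23.2 L hL ((Subgroup.centralizer_le_normalizer _).trans hle)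
    rw [← this]; exact hle
  -- the maximal subgroup `H ≥ N(P)`
  have hNP : normalizer (P : Set G) ≠ ⊤ :=
    Helper23.normalizer_ne_top_of_simple (hone hp hPc) (hproper hM hPM)
  obtain ⟨H, hH, hNH⟩ := Helper23.uq_exists_coatom_ge hNP
  have hCN : centralizer (P : Set G) ≤ normalizer (P : Set G) := Subgroup.centralizer_le_normalizer _
  have hτt := bg139_H_tau hG hM hH hpM hPM hPc ht hXM hXc hXP hNH
  have hτt' := bg139_H_tau hG hMs hH hpMs hPMs hPc ht' hX'Ms hX'c hX'P hNH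
  have hCsolv : Group.IsSolvable ↥(centralizer (P : Set G)) :=
    Helper23.uq_isSolvable hG (fun h => hNP (top_le_iff.mp (h ▸ hCN)))
  obtain ⟨c, hc, hπ⟩ := bg139_hall_pair hCsolv hXP hX'P htp ht'p hXc hX'c
  set Y : Subgroup G := X'.map (MulAut.conj c).toMonoidHom with hYdef
  have hYc : Nat.card Y = t' := by
    rw [hYdef, ← hX'c]
    exact (Nat.card_congr (X'.equivMapOfInjective _ (MulEquiv.injective _)).toEquiv).symm
  have hYP : Y ≤ centralizer (P : Set G) := by
    rintro _ ⟨y, hy, rfl⟩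
    simp only [MulEquiv.coe_toMonoidHom, MulAut.conj_apply]
    exact Subgroup.mul_mem _ (Subgroup.mul_mem _ hc (hX'P hy)) (Subgroup.inv_mem _ hc)
  have hYH : Y ≤ H := hYP.trans (hCN.trans hNH)
  have hXH : X ≤ H := hXP.trans (hCN.trans hNH)
  rcases bg139_pair hG hH hXH hYH hXc hYc hτt hτt' hπ with h | h | h
  · refine ⟨c, hc, fun x hx y hy => h x hx _ ?_⟩
    exact ⟨y, hy, by simp⟩
  · -- `X` normalizes `Y = c X' c⁻¹`: conjugate back
    set X0 : Subgroup G := X.map (MulAut.conj c⁻¹).toMonoidHom with hX0def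
    have hX0c : Nat.card X0 = t := by
      rw [hX0def, ← hXc]
      exact (Nat.card_congr (X.equivMapOfInjective _ (MulEquiv.injective _)).toEquiv).symm
    have hX0P : X0 ≤ centralizer (P : Set G) := by
      rintro _ ⟨x, hx, rfl⟩
      simp only [MulEquiv.coe_toMonoidHom, MulAut.conj_apply]
      exact Subgroup.mul_mem _ (Subgroup.mul_mem _ (Subgroup.inv_mem _ hc) (hXP hx))
        (Subgroup.inv_mem _ (Subgroup.inv_mem _ hc))
    have hX0N : X0 ≤ normalizer (X' : Set G) := by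
      rintro _ ⟨x, hx, rfl⟩
      have hxN := h hx
      rw [mem_normalizer_iff] at hxN ⊢
      intro y
      simp only [MulEquiv.coe_toMonoidHom, MulAut.conj_apply]
      have h1 := hxN (c * y * c⁻¹)
      have e1 : c * y * c⁻¹ ∈ Y ↔ y ∈ X' := by
        constructor
        · rintro ⟨z, hz, hzeq⟩
          simp only [MulEquiv.coe_toMonoidHom, MulAut.conj_apply] at hzeq
          have : z = y := by
            have := congrArg (fun w => c⁻¹ * w * c) hzeq
            simpa [mul_assoc] using this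
          rwa [← this]
        · intro hy
          exact ⟨y, hy, by simp⟩
      have e2 : x * (c * y * c⁻¹) * x⁻¹ ∈ Y ↔ c⁻¹ * x * c⁻¹⁻¹ * y * (c⁻¹ * x * c⁻¹⁻¹)⁻¹ ∈ X' := by
        constructor
        · rintro ⟨z, hz, hzeq⟩
          simp only [MulEquiv.coe_toMonoidHom, MulAut.conj_apply] at hzeq
          have : z = c⁻¹ * x * c⁻¹⁻¹ * y * (c⁻¹ * x * c⁻¹⁻¹)⁻¹ := by
            have h3 := congrArg (fun w => c⁻¹ * w * c) hzeq
            have h4 : c⁻¹ * (c * z * c⁻¹) * c = z := by group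
            rw [← h4]
            refine h3.trans ?_
            group
          rwa [← this]
        · intro hy
          refine ⟨_, hy, ?_⟩
          simp only [MulEquiv.coe_toMonoidHom, MulAut.conj_apply]
          group
      rw [← e1, ← e2]
      exact h1
    have hcomm := bg139_norm_cent hG h28 hMs hpMs hPc hX'σ hNX' hX'P
      (by rw [hX0c]; exact htp) (by rw [hX0c]; exact htσMs) hX0P hX0N
    refine ⟨c, hc, fun x hx y hy => ?_⟩
    have h1 := hcomm (c⁻¹ * x * c⁻¹⁻¹) ⟨x, hx, by simp⟩ y hy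
    have h2 : c * (c⁻¹ * x * c⁻¹⁻¹ * y) * c⁻¹ = c * (y * (c⁻¹ * x * c⁻¹⁻¹)) * c⁻¹ :=
      congrArg (fun w => c * w * c⁻¹) h1
    calc x * (c * y * c⁻¹) = c * (c⁻¹ * x * c⁻¹⁻¹ * y) * c⁻¹ := by group
      _ = c * (y * (c⁻¹ * x * c⁻¹⁻¹)) * c⁻¹ := h2
      _ = c * y * c⁻¹ * x := by group
  · -- `Y` normalizes `X`
    have hcomm := bg139_norm_cent hG h28 hM hpM hPc hXσ hNX hXP
      (by rw [hYc]; exact ht'p) (by rw [hYc]; exact ht'σM) hYP h
    refine ⟨c, hc, fun x hx y hy => ?_⟩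
    exact (hcomm (c * y * c⁻¹) ⟨y, hy, by simp⟩ x hx).symm

/-- **B&G Theorem 13.9**, core: the configuration `BG139Cfg` is contradictory (given S1428). -/
theorem bg139_false (hG : IsMinSimpleOddOrder G) (h28 : BG1328 G) {M Ms S : Subgroup G} {s : ℕ}
    (c : BG139Cfg M Ms S s) : False := by
  have hU : Helper22.BGUniq G := fun K hK h1 h2 => Cfsg.Agent.S1403.result hG K hK h1 h2
  obtain ⟨E, hE, hEN⟩ := bg139_exists_compl hG c
  obtain ⟨Es, hEs, hEsN⟩ := bg139_exists_compl hG c.symm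
  have h2 := bg139_tau2_empty hG c hE hEN
  have h2s := bg139_tau2_empty hG c.symm hEs hEsN
  have hSc := bg139_S_comm hG c
  have hI := bg139_inter_comm hG c
  have hIs := bg139_inter_comm hG c.symm
  have hcent : sigmaCore Ms ⊓ M ≤ centralizer (S : Set G) := bg139_cent_S hG c hI
  have hcents : sigmaCore M ⊓ Ms ≤ centralizer (S : Set G) := bg139_cent_S hG c.symm hIs
  have hβ := bg139_not_beta hG c
  have hβs := bg139_not_beta hG c.symm
  obtain ⟨E₁, hE₁⟩ := bg139_exists_hall hG c.hM hE (tau1 M)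
  obtain ⟨E₃, hE₃⟩ := bg139_exists_hall hG c.hM hE (tau3 M)
  have hE₁E : E₁ ≤ E := hE₁.1
  have hEM : E ≤ M := hE.1
  have hNM : normalizer (S : Set G) ≤ M := c.hN.trans inf_le_left
  have hNMs : normalizer (S : Set G) ≤ Ms := c.hN.trans inf_le_right
  have hcyc : IsCyclic E₁ := (Cfsg.Agent.S1415.result hG M c.hM E hE).2.1 E₁ hE₁
  have hE3c := bg139_E3_cent hG c hE hEN hE₃
  have hCE := bg139_cent_E hG c hSc hcents hE hEN
  obtain ⟨hcard, hcop⟩ := bg139_card_E hG c.hM hE h2 hE₁ hE₃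
  have hE₃E : E₃ ≤ E := hE₃.1
  have h15 := (Cfsg.Agent.S1415.result hG M c.hM E hE).2.2 E₃ hE₃
  have hEeq := bg139_E_eq hE₁E hE₃E hcard hcop
  have hτ₁ : ∀ q : ℕ, q.Prime → q ∣ Nat.card E₁ → q ∈ tau1 M := hE₁.2.1
  have hSM : S ≤ M := le_normalizer.trans hNM
  have hSσ : S ≤ sigmaCore M := Helper22.bg12_le_sigmaCore hG hU c.hM c.hs c.hsM hSM c.hSp
  -- every non-identity element of `E₁` is fixed-point-free on `S`
  have hfpf : ∀ x ∈ E₁, x ≠ 1 → S ⊓ centralizer ({x} : Set G) = ⊥ := by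
    intro x hx hx1
    rw [eq_bot_iff]
    intro z hz
    have hzS : z ∈ S := (Subgroup.mem_inf.mp hz).1
    have hzx : z ∈ centralizer ({x} : Set G) := (Subgroup.mem_inf.mp hz).2
    rw [← hCE]
    refine Subgroup.mem_inf.mpr ⟨hzS, ?_⟩
    have hzE₁ : ∀ y ∈ E₁, y * z = z * y := by
      intro y hy
      by_cases hy1 : y = 1
      · subst hy1; simp
      · have h := bg139_prime_action_sub hG h28 c.hM (hE₁E.trans hEM) hcyc hτ₁ hx hy hx1 hy1
        have hz' : z ∈ sigmaCore M ⊓ centralizer ({y} : Set G) := by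
          rw [← h]; exact Subgroup.mem_inf.mpr ⟨hSσ hzS, hzx⟩
        exact mem_centralizer_iff.mp (Subgroup.mem_inf.mp hz').2 y rfl
    have hzE₃ : ∀ y ∈ E₃, y * z = z * y := by
      intro y hy
      exact (mem_centralizer_iff.mp (hE3c hy) z hzS).symm
    have hle : E₃ ⊔ E₁ ≤ centralizer ({z} : Set G) := by
      rw [sup_le_iff]
      constructor
      · intro y hy
        rw [mem_centralizer_iff]
        intro w hw
        rw [Set.mem_singleton_iff] at hw
        subst hw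
        exact (hzE₃ y hy).symm
      · intro y hy
        rw [mem_centralizer_iff]
        intro w hw
        rw [Set.mem_singleton_iff] at hw
        subst hw
        exact (hzE₁ y hy).symm
    rw [mem_centralizer_iff]
    intro e he
    exact (mem_centralizer_iff.mp (hle (hEeq he)) z rfl).symm
  -- `E₁ ≠ ⊥`
  have hE₁1 : E₁ ≠ ⊥ := by
    intro h0
    apply c.hS1
    rw [eq_bot_iff, ← hCE]
    intro z hz
    refine Subgroup.mem_inf.mpr ⟨hz, ?_⟩
    rw [mem_centralizer_iff]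
    intro e he
    have he3 : e ∈ E₃ := by
      have := hEeq he
      rwa [h0, sup_bot_eq] at this
    exact (mem_centralizer_iff.mp (hE3c he3) z hz).symm
  -- a subgroup `P` of prime order `p` of `E₁`
  have hcard1 : Nat.card E₁ ≠ 1 := by
    intro h
    exact hE₁1 ((Subgroup.card_eq_one).mp h)
  obtain ⟨p, hp, hpd⟩ := Nat.exists_prime_and_dvd hcard1
  haveI : Fact p.Prime := ⟨hp⟩
  obtain ⟨g, hg⟩ := exists_prime_orderOf_dvd_card' (G := E₁) p hpd
  have hgE₁ : (g : G) ∈ E₁ := g.2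
  have hgo : orderOf (g : G) = p := by rw [Subgroup.orderOf_coe]; exact hg
  have hg1 : (g : G) ≠ 1 := by
    intro h
    rw [h, orderOf_one] at hgo
    exact hp.one_lt.ne hgo
  set P : Subgroup G := zpowers (g : G) with hPdef
  have hPc : Nat.card P = p := by rw [hPdef, Nat.card_zpowers]; exact hgo
  have hPE₁ : P ≤ E₁ := by rw [hPdef, zpowers_le]; exact hgE₁
  have hpM : p ∈ tau1 M := hτ₁ p hp hpd
  have hτ₁s := bg139_E1_tau1 hG c hcent h2s hβs (hE₁E.trans hEN) hfpf
  have hpMs : p ∈ tau1 Ms := hτ₁s p hp hpd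
  have hPN : P ≤ normalizer (S : Set G) := hPE₁.trans (hE₁E.trans hEN)
  have hgP : (g : G) ∈ P := mem_zpowers _
  have hcentP : centralizer (P : Set G) ≤ centralizer ({(g : G)} : Set G) :=
    Subgroup.centralizer_le (by
      intro w hw
      rw [Set.mem_singleton_iff] at hw
      subst hw
      exact hgP)
  have hfixP : S ⊓ centralizer (P : Set G) = ⊥ := by
    rw [eq_bot_iff, ← hfpf (g : G) hgE₁ hg1]
    exact inf_le_inf_left _ hcentP
  -- primes of `β(M)`, `β(Ms)` and the subgroups `X`, `X'`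
  obtain ⟨t, ht⟩ := bg139_exists_beta hG c
  obtain ⟨t', ht'⟩ := bg139_exists_beta hG c.symm
  obtain ⟨X, hX, hXc⟩ := bg139_exists_X hG c hSc hβ ht hp hPc hpM.2.1 hPN hfixP
  obtain ⟨X', hX', hX'c⟩ := bg139_exists_X hG c.symm hSc hβs ht' hp hPc hpMs.2.1 hPN hfixP
  have hPM : P ≤ M := hPN.trans hNM
  have hPMs : P ≤ Ms := hPN.trans hNMs
  obtain ⟨c0, hc0, hcomm⟩ := bg139_commute hG h28 c.hM c.hMs c.hnc hpM hpMs hPc hPM hPMs ht hX
    hXc ht' hX' hX'c
  set Y : Subgroup G := X'.map (MulAut.conj c0).toMonoidHom with hYdef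
  have hYc : Nat.card Y = t' := by
    rw [hYdef, ← hX'c]
    exact (Nat.card_congr (X'.equivMapOfInjective _ (MulEquiv.injective _)).toEquiv).symm
  have htα : t ∈ alpha M := ht.1
  have htp : t.Prime := htα.1
  have ht'α : t' ∈ alpha Ms := ht'.1
  have ht'p : t'.Prime := ht'α.1
  haveI : Fact t.Prime := ⟨htp⟩
  have htσ : t ∈ sigma M := Helper22.bg10_alpha_sub_sigma hG hU c.hM htα
  have hσM : sigmaCore M ≤ M := Subgroup.map_subtype_le _
  have hXM : X ≤ M := (hX.trans inf_le_left).trans hσM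
  have hCX : centralizer (X : Set G) ≤ M :=
    (Cfsg.Agent.S1423.result hG M c.hM t htσ X hXM hXc default (Or.inl ht)).1.1
  have hYX : Y ≤ centralizer (X : Set G) := by
    rintro _ ⟨y, hy, rfl⟩
    rw [mem_centralizer_iff]
    intro x hx
    simp only [MulEquiv.coe_toMonoidHom, MulAut.conj_apply]
    exact hcomm x hx y hy
  have hYM : Y ≤ M := hYX.trans hCX
  have hYP : Y ≤ centralizer (P : Set G) := by
    rintro _ ⟨y, hy, rfl⟩
    have hyP : y ∈ centralizer (P : Set G) := (Subgroup.mem_inf.mp (hX' hy)).2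
    simp only [MulEquiv.coe_toMonoidHom, MulAut.conj_apply]
    exact Subgroup.mul_mem _ (Subgroup.mul_mem _ hc0 hyP) (Subgroup.inv_mem _ hc0)
  have ht'σM : t' ∉ sigma M := Helper49.bg1216_alpha_disjoint hU c.hM c.hMs c.hnc ht'α
  have hYE : Y ≤ E := bg139_Y_le_E hG h28 c.hM hE hpM (hPE₁.trans hE₁E) hPc hYM
    (by rw [hYc]; exact ht'p) (by rw [hYc]; exact ht'σM) hYP
  have hYMs : Y ≤ Ms := hYE.trans (hEN.trans hNMs)
  have ht'σ : t' ∈ sigma Ms := Helper22.bg10_alpha_sub_sigma hG hU c.hMs ht'α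
  have hYpg : IsPGroup t' Y := IsPGroup.of_card (n := 1) (by rw [hYc, pow_one])
  have hYσ : Y ≤ sigmaCore Ms := Helper22.bg12_le_sigmaCore hG hU c.hMs ht'p ht'σ hYMs hYpg
  -- `Y` centralizes `E₁`
  have hE₁Ms : E₁ ≤ Ms := (hE₁E.trans hEN).trans hNMs
  have hYE₁ : ∀ y ∈ Y, ∀ x ∈ E₁, x * y = y * x := by
    intro y hy x hx
    by_cases hx1 : x = 1
    · subst hx1; simp
    · have h := bg139_prime_action_sub hG h28 c.hMs hE₁Ms hcyc hτ₁s hgE₁ hx hg1 hx1
      have hy' : y ∈ sigmaCore Ms ⊓ centralizer ({x} : Set G) := by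
        rw [← h]; exact Subgroup.mem_inf.mpr ⟨hYσ hy, hcentP (hYP hy)⟩
      exact mem_centralizer_iff.mp (Subgroup.mem_inf.mp hy').2 x rfl
  have hnd : ¬ Nat.card Y ∣ Nat.card E₁ := by
    rw [hYc]
    intro hd
    exact (hτ₁s t' ht'p hd).2.1 ht'σ
  have hYE₃ : Y ≤ E₃ := bg139_le_E3 hE₃E h15.2.2 hcard hYE (by rw [hYc]; exact ht'p) hnd
  have hY1 : Y = ⊥ := by
    rw [eq_bot_iff]
    intro y hy
    rw [mem_bot]
    have hE₃c : ∀ a ∈ E₃, ∀ b ∈ E₃, a * b = b * a := by
      intro a ha b hb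
      haveI := h15.1
      have h1 := (IsCyclic.isMulCommutative (α := ↥E₃)).is_comm.comm ⟨a, ha⟩ ⟨b, hb⟩
      exact congrArg Subtype.val h1
    have hE₁c : ∀ a ∈ E₁, ∀ b ∈ E₁, a * b = b * a := by
      intro a ha b hb
      have h1 := (IsCyclic.isMulCommutative (α := ↥E₁)).is_comm.comm ⟨a, ha⟩ ⟨b, hb⟩
      exact congrArg Subtype.val h1
    exact bg139_E3_fpf hE₁E hE₃E hEeq hcop hE₃c hE₁c h15.2.2 h15.2.1 y (hYE₃ hy)
      (fun x hx => hYE₁ y hy x hx)
  rw [hY1, Subgroup.card_bot] at hYc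
  exact ht'p.one_lt.ne hYc

/-- **B&G Theorem 13.9** (row S1378), given S1428. -/
theorem bg139_main (hG : IsMinSimpleOddOrder G) (h28 : BG1328 G) :
    (∀ p : ℕ, p.Prime → p ∣ Nat.card G → ∃ M : Subgroup G, IsCoatom M ∧ p ∈ Cfsg.sigma M) ∧
      ∀ M N : Subgroup G, IsCoatom M → IsCoatom N → (Cfsg.sigma M ∩ Cfsg.sigma N).Nonempty →
        ∃ g : G, N = M.map (MulAut.conj g).toMonoidHom := by
  refine ⟨bg139_part1 hG, ?_⟩
  rintro M N hM hN ⟨s, hsM, hsN⟩
  by_contra hcon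
  push_neg at hcon
  obtain ⟨Ms, S, c⟩ := bg139_reduce hG hM hN hsM hsN hcon
  exact bg139_false hG h28 c

end Cfsg.Agent.Helper1
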