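/-
helper1: CALL S1351A (helper22), piece BETA: `X ≤ M'` of order `u ∈ τ₃(M)` with
`N_G(X) ≤ H ≠ M` forces `β(M) ≠ ∅`.
-/
import Cfsg.Agent.S1414
import Cfsg.Agent.Helper49.OddCyclic
import Cfsg.Agent.Helper23.Rank2Fit
import Cfsg.Agent.Helper23.Uniq
import Cfsg.Agent.Helper35.SZ
import Cfsg.Agent.Helper22.BG11d

set_option autoImplicit false

namespace Cfsg.Agent.Helper1

open Cfsg Subgroup

universe u

variable {G : Type u} [Group G] [Finite G]

/-- PIECE BETA. -/
theorem bg13i_beta_nonempty (hG : IsMinSimpleOddOrder G) {M H X : Subgroup G} (hM : IsCoatom M)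
    (hH : IsCoatom H) (hHM : H ≠ M) {u : ℕ} (hu : u ∈ tau3 M) (hXc : Nat.card X = u)
    (hXM : X ≤ ⁅M, M⁆) (hNH : normalizer (X : Set G) ≤ H) : ∃ t : ℕ, t ∈ beta M := by
  classical
  by_contra hβ
  push Not at hβ
  have hup : u.Prime := hu.1
  haveI := Fact.mk hup
  obtain ⟨-, -, ⟨H₀, hH₀, hnil⟩, -, -⟩ := Cfsg.Agent.S1414.result hG M hM
  have hH₀eq : H₀ = ⁅M, M⁆ := by
    apply le_antisymm hH₀.1
    have h1 : H₀.relIndex ⁅M, M⁆ = 1 := by
      by_contra hne
      obtain ⟨q, hq, hqd⟩ := Nat.exists_prime_and_dvd hne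
      exact hH₀.2.2 q hq ⟨hq, hβ q⟩ hqd
    exact Subgroup.relIndex_eq_one.mp h1
  subst hH₀eq
  obtain ⟨D, hDdef⟩ : ∃ D : Subgroup G, D = ⁅M, M⁆ := ⟨_, rfl⟩
  rw [← hDdef] at hnil hXM
  have hDM : D ≤ M := by rw [hDdef]; exact Subgroup.commutator_le_self M
  have hMD : M ≤ normalizer (D : Set G) := by
    rw [hDdef]; exact Cfsg.Agent.Helper22.bg11_le_normalizer_commutator M
  -- `u` is odd
  have hu2 : u ≠ 2 := by
    rintro rfl
    have h1 : 2 ∣ Nat.card G := by
      have h2 : 2 ∣ Nat.card X := by rw [hXc]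
      exact h2.trans (Subgroup.card_subgroup_dvd_card X)
    exact (Nat.not_even_iff_odd.mpr hG.1) (even_iff_two_dvd.mpr h1)
  have hrkD : PRankLE u 1 ↥D := Cfsg.Agent.Helper23.pRankLE_of_le hDM hu.2.2.2
  -- the normal cyclic Sylow `u`-subgroup of `D`
  obtain ⟨S⟩ : Nonempty (Sylow u ↥D) := Sylow.nonempty
  have hSn : (S : Subgroup ↥D).Normal :=
    Sylow.normal_of_normalizerCondition normalizerCondition_of_isNilpotent S
  haveI hSuniq : Unique (Sylow u ↥D) := Sylow.unique_of_normal S hSn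
  have hSc : IsCyclic ↥(S : Subgroup ↥D) :=
    Cfsg.Agent.Helper49.isCyclic_sylow_of_pRankLE_one hu2 hrkD S
  -- at most `u` elements of `D` satisfy `a ^ u = 1`
  have hTle : ({a : ↥D | a ^ u = 1} : Set ↥D).ncard ≤ u := by
    haveI : Fintype ↥(S : Subgroup ↥D) := Fintype.ofFinite _
    have h1 := IsCyclic.card_pow_eq_one_le (α := ↥(S : Subgroup ↥D)) hup.pos
    have hsub : ({a : ↥D | a ^ u = 1} : Set ↥D) ⊆
        (fun a : ↥(S : Subgroup ↥D) => (a : ↥D)) ''
          ((Finset.univ.filter (fun a : ↥(S : Subgroup ↥D) => a ^ u = 1) :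
            Finset ↥(S : Subgroup ↥D)) : Set ↥(S : Subgroup ↥D)) := by
      intro a ha
      have ha' : a ^ u = 1 := ha
      have haS : a ∈ (S : Subgroup ↥D) := by
        have hp : IsPGroup u (Subgroup.zpowers a) := by
          rintro ⟨g, hg⟩
          obtain ⟨n, rfl⟩ := Subgroup.mem_zpowers_iff.mp hg
          refine ⟨1, Subtype.ext ?_⟩
          show (a ^ n) ^ u ^ 1 = 1
          rw [pow_one, ← zpow_natCast, ← zpow_mul, mul_comm, zpow_mul, zpow_natCast, ha', one_zpow]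
        obtain ⟨S', hS'⟩ := hp.exists_le_sylow
        have hSS : S' = S := Subsingleton.elim _ _
        rw [← hSS]; exact hS' (Subgroup.mem_zpowers a)
      refine ⟨⟨a, haS⟩, ?_, rfl⟩
      rw [Finset.mem_coe, Finset.mem_filter]
      exact ⟨Finset.mem_univ _, Subtype.ext ha'⟩
    calc ({a : ↥D | a ^ u = 1} : Set ↥D).ncard
        ≤ ((fun a : ↥(S : Subgroup ↥D) => (a : ↥D)) ''
          ((Finset.univ.filter (fun a : ↥(S : Subgroup ↥D) => a ^ u = 1) :
            Finset ↥(S : Subgroup ↥D)) : Set ↥(S : Subgroup ↥D))).ncard :=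
          Set.ncard_le_ncard hsub (Set.toFinite _)
      _ ≤ (((Finset.univ.filter (fun a : ↥(S : Subgroup ↥D) => a ^ u = 1) :
            Finset ↥(S : Subgroup ↥D)) : Set ↥(S : Subgroup ↥D))).ncard :=
          Set.ncard_image_le (Set.toFinite _)
      _ = (Finset.univ.filter (fun a : ↥(S : Subgroup ↥D) => a ^ u = 1)).card :=
          Set.ncard_coe_finset _
      _ ≤ u := h1
  -- every subgroup of order `u` of `D` is the set of solutions of `a ^ u = 1`
  have hT : ∀ Y : Subgroup G, Y ≤ D → Nat.card Y = u →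
      ((Y.subgroupOf D : Subgroup ↥D) : Set ↥D) = {a : ↥D | a ^ u = 1} := by
    intro Y hYD hYc
    have hcard : Nat.card (Y.subgroupOf D) = u := by
      rw [Cfsg.Agent.Helper35.card_subgroupOf_of_le hYD, hYc]
    apply Set.eq_of_subset_of_ncard_le
    · intro a ha
      have h2 : (⟨a, ha⟩ : Y.subgroupOf D) ^ Nat.card (Y.subgroupOf D) = 1 := pow_card_eq_one'
      rw [hcard] at h2
      exact congrArg Subtype.val h2
    · have h3 : ((Y.subgroupOf D : Subgroup ↥D) : Set ↥D).ncard = u := by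
        rw [← hcard]; exact (Nat.card_coe_set_eq _)
      rw [h3]; exact hTle
    · exact Set.toFinite _
  have huniq : ∀ Y : Subgroup G, Y ≤ D → Nat.card Y = u → Y ≤ X := by
    intro Y hYD hYc y hy
    have h1 : (⟨y, hYD hy⟩ : ↥D) ∈ ((Y.subgroupOf D : Subgroup ↥D) : Set ↥D) :=
      Subgroup.mem_subgroupOf.mpr hy
    rw [hT Y hYD hYc, ← hT X hXM hXc] at h1
    exact Subgroup.mem_subgroupOf.mp h1
  -- `M` normalizes `X`
  have hMX : M ≤ normalizer (X : Set G) := by
    intro m hm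
    have hconj : ∀ m ∈ M, ∀ x ∈ X, m * x * m⁻¹ ∈ X := by
      intro m hm x hx
      have hYD : X.map (MulAut.conj m).toMonoidHom ≤ D := by
        rintro _ ⟨z, hz, rfl⟩
        exact (mem_normalizer_iff.mp (hMD hm) z).mp (hXM hz)
      have hYc : Nat.card (X.map (MulAut.conj m).toMonoidHom) = u := by
        rw [Subgroup.card_map_of_injective (MulEquiv.injective _), hXc]
      exact huniq _ hYD hYc ⟨x, hx, rfl⟩
    rw [mem_normalizer_iff]
    intro x
    refine ⟨hconj m hm x, fun h => ?_⟩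
    have h1 := hconj m⁻¹ (M.inv_mem hm) _ h
    have h2 : m⁻¹ * (m * x * m⁻¹) * m⁻¹⁻¹ = x := by group
    rwa [h2] at h1
  exact hHM (Cfsg.Agent.Helper23.uq_eq_of_coatom_le hM hH.1 (hMX.trans hNH))

end Cfsg.Agent.Helper1
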