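/-
helper1: S1351 part (A) (B&G Theorem 13.10-type statement "[K, E₁] = 1" for a `τ₃`-nonregular
datum), the ENDGAME (steps 7+8 of helper25's proof, insight 4395): a subgroup `X_M` of prime
order `t ∈ β(M)` in `C_{M_σ}(R)` and a subgroup `X_H` of prime order `t' ∈ β(H)` in `C_{H_σ}(R)`
cannot both exist, `H` a maximal subgroup over `N_G(P)` and `R ≤ E` of order `r ∈ τ₁(M) ∩ τ₁(H)`
not centralizing `P`.
-/
import Cfsg.Agent.Helper62.BG51B0
import Cfsg.Agent.Helper24.BG13W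
import Cfsg.Agent.Helper1.BG139Main
import Cfsg.Agent.S1428
import Cfsg.Agent.Helper54.BG13CL
import Cfsg.Agent.Helper54.BG13Gen
import Cfsg.Agent.Helper54.BG14T
import Cfsg.Agent.Helper20.BG13P4
import Cfsg.Agent.Helper1.Hall
import Cfsg.Agent.Helper23.FittingHall

set_option autoImplicit false

namespace Cfsg.Agent.Helper1

open Cfsg Subgroup
open scoped Pointwise

universe u

variable {G : Type u} [Group G] [Finite G]

omit [Finite G] in
/-- Conjugating a subgroup by `l⁻¹`: membership. -/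
theorem bg13i_mem_conj_inv {X : Subgroup G} {l z : G} :
    z ∈ X.map (MulAut.conj l⁻¹).toMonoidHom ↔ l * z * l⁻¹ ∈ X := by
  rw [Cfsg.Agent.Helper54.bg14t_mem_map_conj, inv_inv]

omit [Finite G] in
/-- The conjugate of a subgroup has the same order. -/
theorem bg13i_card_conj (X : Subgroup G) (l : G) :
    Nat.card (X.map (MulAut.conj l).toMonoidHom) = Nat.card X :=
  Subgroup.card_map_of_injective (MulEquiv.injective _)

/-- Two complements of `M_σ` in `M` are conjugate under `M`: every element of the second is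
conjugate into the first by one element `l ∈ M`. -/
theorem bg13i_compl_conj (hG : IsMinSimpleOddOrder G) {M E E₂ : Subgroup G} (hM : IsCoatom M)
    (hE : IsComplIn E (sigmaCore M) M) (hE₂ : IsComplIn E₂ (sigmaCore M) M) :
    ∃ l ∈ M, ∀ x ∈ E₂, l⁻¹ * x * l ∈ E := by
  classical
  have hU : Cfsg.Agent.Helper22.BGUniq G :=
    fun K hK h1 h2 => Cfsg.Agent.S1403.result hG K hK h1 h2
  haveI : Group.IsSolvable ↥M := Cfsg.Agent.Helper23.uq_isSolvable hG hM.1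
  have hc1 := Cfsg.Agent.Helper23.card_of_isComplIn E _ M hE
  have hc2 := Cfsg.Agent.Helper23.card_of_isComplIn E₂ _ M hE₂
  have hpos : 0 < Nat.card (sigmaCore M) := Nat.card_pos
  have hEE : Nat.card E₂ = Nat.card E := by
    apply Nat.eq_of_mul_eq_mul_right hpos
    rw [← hc1, ← hc2]
  obtain ⟨⟨hSM, hS1, hS2⟩, -, -⟩ := Cfsg.Agent.Helper22.bg10_sigma_hall hG hU hM
  have hrel : (sigmaCore M).relIndex M = Nat.card E := by
    have h := Subgroup.relIndex_mul_relIndex ⊥ (sigmaCore M) M bot_le hSM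
    rw [Subgroup.relIndex_bot_left, Subgroup.relIndex_bot_left, hc1] at h
    apply Nat.eq_of_mul_eq_mul_left hpos
    rw [h, mul_comm]
  have hcop : (Nat.card E).Coprime (Nat.card (sigmaCore M)) := by
    apply Nat.Coprime.symm
    apply Nat.coprime_of_dvd
    intro p hp hpS hpI
    rw [← hrel] at hpI
    exact hS2 p hp (hS1 p hp hpS) hpI
  have hcE : Nat.card (E.subgroupOf M) = Nat.card E :=
    Nat.card_congr (Subgroup.subgroupOfEquivOfLe hE.1).toEquiv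
  have hcE₂ : Nat.card (E₂.subgroupOf M) = Nat.card E := by
    rw [Nat.card_congr (Subgroup.subgroupOfEquivOfLe hE₂.1).toEquiv, hEE]
  obtain ⟨g, hg⟩ := Cfsg.Agent.Helper1.hall_conj_aux (Nat.card ↥M) ↥M (Nat.card E)
    (Nat.card (sigmaCore M)) rfl hc1 hcop (E.subgroupOf M) (E₂.subgroupOf M) hcE hcE₂
  refine ⟨(g : G), g.2, fun x hx => ?_⟩
  have hxM : x ∈ M := hE₂.1 hx
  have h1 : (⟨x, hxM⟩ : ↥M) ∈ MulAut.conj g • E.subgroupOf M := by
    rw [hg]; exact Subgroup.mem_subgroupOf.mpr hx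
  rw [Subgroup.mem_pointwise_smul_iff_inv_smul_mem] at h1
  have h2 : ((MulAut.conj g)⁻¹ • (⟨x, hxM⟩ : ↥M) : ↥M) = g⁻¹ * ⟨x, hxM⟩ * g := by
    rw [← map_inv, MulAut.smul_def, MulAut.conj_apply, inv_inv]
  rw [h2] at h1
  have h3 := Subgroup.mem_subgroupOf.mp h1
  simpa using h3

/-- **Endgame of part (A)**. -/
theorem bg13i_endgame (hG : IsMinSimpleOddOrder G) {M E P R H XM XH : Subgroup G}
    {p r t t' : ℕ} (h : Cfsg.Agent.Helper62.T3NR M E P p) (hr : r ∈ tau1 M) (hRE : R ≤ E)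
    (hR : Nat.card R = r) (hRP : ¬ R ≤ centralizer (P : Set G))
    (hH : IsCoatom H) (hNH : normalizer (P : Set G) ≤ H) (hrH : r ∈ tau1 H)
    (ht : t ∈ beta M) (hXM : XM ≤ sigmaCore M ⊓ centralizer (R : Set G))
    (hXMc : Nat.card XM = t)
    (ht' : t' ∈ beta H) (hXH : XH ≤ sigmaCore H ⊓ centralizer (R : Set G))
    (hXHc : Nat.card XH = t') : False := by
  classical
  have hU : Cfsg.Agent.Helper22.BGUniq G :=
    fun K hK h1 h2 => Cfsg.Agent.S1403.result hG K hK h1 h2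
  have h28 : BG1328 G := fun M hM E hE p hp P hPE hP R hRE hR =>
    Cfsg.Agent.S1428.result hG M hM E hE p hp P hPE hP R hRE hR
  have hbase := Cfsg.Agent.Helper62.bg51_base hG h
  obtain ⟨hM, hE, hp, hPE, hP, hne⟩ := h
  have hEP : E ≤ normalizer (P : Set G) := hbase.1
  have hpp : p.Prime := hp.1
  have hrp : r.Prime := hr.1
  have htp : t.Prime := ht.1.1
  have ht'p : t'.Prime := ht'.1.1
  have hEM : E ≤ M := hE.1
  have hσM : sigmaCore M ≤ M := hE.2.1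
  have hPM : P ≤ M := hPE.trans hEM
  obtain ⟨hpσH, hPσH, hnc, hσMH, -, -, -⟩ :=
    Cfsg.Agent.Helper24.bg13w_over hG hM hE hpp hp.2.1 hp.2.2.2 hPE hP hne hEP hH hNH
  have hRM : R ≤ M := hRE.trans hEM
  have hRH : R ≤ H := hRE.trans (hEP.trans hNH)
  -- step 7: the commuting lemma
  obtain ⟨c, hc, hcomm⟩ := bg139_commute hG h28 hM hH hnc hr hrH hR hRM hRH ht hXM hXMc
    ht' hXH hXHc
  obtain ⟨Z, hZdef⟩ : ∃ Z : Subgroup G, Z = XH.map (MulAut.conj c).toMonoidHom := ⟨_, rfl⟩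
  have hZc : Nat.card Z = t' := by rw [hZdef, bg13i_card_conj, hXHc]
  have hZR : Z ≤ centralizer (R : Set G) := by
    rw [hZdef]
    rintro _ ⟨y, hy, rfl⟩
    simp only [MulEquiv.coe_toMonoidHom, MulAut.conj_apply]
    exact Subgroup.mul_mem _ (Subgroup.mul_mem _ hc ((hXH hy).2)) (Subgroup.inv_mem _ hc)
  have hXMM : XM ≤ M := (hXM.trans inf_le_left).trans hσM
  have hXMt : IsPGroup t XM := IsPGroup.of_card (n := 1) (by rw [hXMc, pow_one])
  have hXM1 : XM ≠ ⊥ := by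
    intro h0
    rw [h0, Subgroup.card_bot] at hXMc
    exact htp.one_lt.ne hXMc
  have hNXM : normalizer (XM : Set G) ≤ M :=
    Cfsg.Agent.Helper54.bg13_beta_norm_le hG hM ht hXMt hXM1 hXMM
  have hZM : Z ≤ M := by
    intro z hz
    apply hNXM
    apply Subgroup.centralizer_le_normalizer
    rw [Subgroup.mem_centralizer_iff]
    intro x hx
    rw [hZdef] at hz
    obtain ⟨y, hy, rfl⟩ := hz
    simp only [MulEquiv.coe_toMonoidHom, MulAut.conj_apply]
    exact hcomm x hx y hy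
  -- `Z R` is a `σ(M)'`-subgroup of `M`
  have ht'α : t' ∈ alpha H := ht'.1
  have ht'σM : t' ∉ sigma M := Cfsg.Agent.Helper49.bg1216_alpha_disjoint hU hM hH hnc ht'α
  have ht'σH : t' ∈ sigma H := Cfsg.Agent.Helper22.bg10_alpha_sub_sigma hG hU hH ht'α
  have hrσM : r ∉ sigma M := hr.2.1
  have hrσH : r ∉ sigma H := hrH.2.1
  have ht'r : t' ≠ r := fun e => hrσH (e ▸ ht'σH)
  have hcopZR : (Nat.card Z).Coprime (Nat.card R) := by
    rw [hZc, hR]
    exact (Nat.coprime_primes ht'p hrp).mpr ht'r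
  have hZRinf : Z ⊓ R = ⊥ := Cfsg.Agent.Helper68.bg123_inf_eq_bot hcopZR
  have hRNZ : R ≤ normalizer (Z : Set G) := by
    intro ρ hρ
    apply Subgroup.centralizer_le_normalizer
    rw [Subgroup.mem_centralizer_iff]
    intro z hz
    exact ((Subgroup.mem_centralizer_iff.mp (hZR hz)) ρ hρ).symm
  have hcardZR : Nat.card (Z ⊔ R : Subgroup G) = t' * r := by
    rw [Cfsg.Agent.Helper35.card_sup_of_le_normalizer hRNZ hZRinf, hZc, hR]
  have hZRM : Z ⊔ R ≤ M := sup_le hZM hRM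
  have hcopσ : (Nat.card (Z ⊔ R : Subgroup G)).Coprime (Nat.card (sigmaCore M)) := by
    rw [hcardZR]
    apply Nat.Coprime.mul_left
    · rw [Nat.Prime.coprime_iff_not_dvd ht'p]
      intro hd
      exact ht'σM (Cfsg.Agent.Helper23.mem_of_dvd_card_piCoreOf (sigma M) M ht'p hd)
    · rw [Nat.Prime.coprime_iff_not_dvd hrp]
      intro hd
      exact hrσM (Cfsg.Agent.Helper23.mem_of_dvd_card_piCoreOf (sigma M) M hrp hd)
  obtain ⟨E₂, hE₂, hZRE₂⟩ := Cfsg.Agent.Helper20.bg13_exists_compl_ge hG hU hM hZRM hcopσ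
  obtain ⟨l, hl, hlE⟩ := bg13i_compl_conj hG hM hE hE₂
  -- the conjugates `R' = l⁻¹ R l`, `Z' = l⁻¹ Z l`, `X' = l⁻¹ X_M l`
  obtain ⟨R', hR'def⟩ : ∃ R' : Subgroup G, R' = R.map (MulAut.conj l⁻¹).toMonoidHom := ⟨_, rfl⟩
  obtain ⟨Z', hZ'def⟩ : ∃ Z' : Subgroup G, Z' = Z.map (MulAut.conj l⁻¹).toMonoidHom := ⟨_, rfl⟩
  obtain ⟨X', hX'def⟩ : ∃ X' : Subgroup G, X' = XM.map (MulAut.conj l⁻¹).toMonoidHom := ⟨_, rfl⟩
  have hmemR' : ∀ z, z ∈ R' ↔ l * z * l⁻¹ ∈ R := fun z => by rw [hR'def, bg13i_mem_conj_inv]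
  have hmemZ' : ∀ z, z ∈ Z' ↔ l * z * l⁻¹ ∈ Z := fun z => by rw [hZ'def, bg13i_mem_conj_inv]
  have hmemX' : ∀ z, z ∈ X' ↔ l * z * l⁻¹ ∈ XM := fun z => by rw [hX'def, bg13i_mem_conj_inv]
  have hR'c : Nat.card R' = r := by rw [hR'def, bg13i_card_conj, hR]
  have hZ'c : Nat.card Z' = t' := by rw [hZ'def, bg13i_card_conj, hZc]
  have hX'c : Nat.card X' = t := by rw [hX'def, bg13i_card_conj, hXMc]
  have hback : ∀ z : G, l⁻¹ * (l * z * l⁻¹) * l = z := fun z => by group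
  have hR'E : R' ≤ E := by
    intro z hz
    have h1 := hlE _ (hZRE₂ ((le_sup_right : R ≤ Z ⊔ R) ((hmemR' z).mp hz)))
    rwa [hback] at h1
  have hZ'E : Z' ≤ E := by
    intro z hz
    have h1 := hlE _ (hZRE₂ ((le_sup_left : Z ≤ Z ⊔ R) ((hmemZ' z).mp hz)))
    rwa [hback] at h1
  have hZ'R' : Z' ≤ centralizer (R' : Set G) := by
    intro z hz
    rw [Subgroup.mem_centralizer_iff]
    intro ρ hρ
    have h1 := (Subgroup.mem_centralizer_iff.mp (hZR ((hmemZ' z).mp hz))) _ ((hmemR' ρ).mp hρ)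
    have h2 : l * ρ * l⁻¹ * (l * z * l⁻¹) = l * (ρ * z) * l⁻¹ := by group
    have h3 : l * z * l⁻¹ * (l * ρ * l⁻¹) = l * (z * ρ) * l⁻¹ := by group
    rw [h2, h3] at h1
    exact mul_left_cancel (mul_right_cancel h1)
  -- `R'` does not centralize `P`
  have hlN : l ∈ normalizer ((sigmaCore M : Subgroup G) : Set G) :=
    Cfsg.Agent.Helper23.le_normalizer_piCoreOf (sigma M) M hl
  obtain ⟨e, he, s, hs, hles⟩ := hE.2.2.2 l hl
  have hR'P : ¬ R' ≤ centralizer (P : Set G) := by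
    intro hcen
    apply hRP
    intro ρ hρ
    -- `l⁻¹ ρ l = e⁻¹ ρ e`
    have hx : l⁻¹ * ρ * l ∈ R' := by
      rw [hmemR']
      have : l * (l⁻¹ * ρ * l) * l⁻¹ = ρ := by group
      rw [this]; exact hρ
    have hxE : l⁻¹ * ρ * l ∈ E := hR'E hx
    have hyE : e⁻¹ * ρ * e ∈ E := E.mul_mem (E.mul_mem (E.inv_mem he) (hRE hρ)) he
    have hyM : e⁻¹ * ρ * e ∈ M := hEM hyE
    have hdiff : (e⁻¹ * ρ * e)⁻¹ * (l⁻¹ * ρ * l) ∈ sigmaCore M := by
      have h1 : (e⁻¹ * ρ * e)⁻¹ * (l⁻¹ * ρ * l) =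
          ((e⁻¹ * ρ * e)⁻¹ * s⁻¹ * (e⁻¹ * ρ * e)⁻¹⁻¹) * s := by
        rw [hles]; group
      rw [h1]
      refine Subgroup.mul_mem _ ?_ hs
      have hn : (e⁻¹ * ρ * e)⁻¹ ∈ normalizer ((sigmaCore M : Subgroup G) : Set G) :=
        Cfsg.Agent.Helper23.le_normalizer_piCoreOf (sigma M) M (M.inv_mem hyM)
      exact (mem_normalizer_iff.mp hn s⁻¹).mp (Subgroup.inv_mem _ hs)
    have hdiffE : (e⁻¹ * ρ * e)⁻¹ * (l⁻¹ * ρ * l) ∈ E := E.mul_mem (E.inv_mem hyE) hxE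
    have hone : (e⁻¹ * ρ * e)⁻¹ * (l⁻¹ * ρ * l) = 1 := by
      have h1 : (e⁻¹ * ρ * e)⁻¹ * (l⁻¹ * ρ * l) ∈ E ⊓ sigmaCore M := ⟨hdiffE, hdiff⟩
      rwa [hE.2.2.1, Subgroup.mem_bot] at h1
    have heq : l⁻¹ * ρ * l = e⁻¹ * ρ * e := by
      calc l⁻¹ * ρ * l = (e⁻¹ * ρ * e) * ((e⁻¹ * ρ * e)⁻¹ * (l⁻¹ * ρ * l)) := by group
        _ = e⁻¹ * ρ * e := by rw [hone, mul_one]
    have hcen' : e⁻¹ * ρ * e ∈ centralizer (P : Set G) := by
      rw [← heq]; exact hcen hx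
    rw [Subgroup.mem_centralizer_iff]
    intro a ha
    -- `e⁻¹ a e ∈ P`
    have hea : e⁻¹ * a * e ∈ P := by
      have hn : e⁻¹ ∈ normalizer (P : Set G) := hEP (E.inv_mem he)
      have := (mem_normalizer_iff.mp hn a).mp ha
      simpa using this
    have h1 := (Subgroup.mem_centralizer_iff.mp hcen') _ hea
    have h2 : e⁻¹ * a * e * (e⁻¹ * ρ * e) = e⁻¹ * (a * ρ) * e := by group
    have h3 : e⁻¹ * ρ * e * (e⁻¹ * a * e) = e⁻¹ * (ρ * a) * e := by group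
    rw [h2, h3] at h1
    exact mul_left_cancel (mul_right_cancel h1)
  -- `N_G(Z') ≤ H`
  have hZ'H : Z' ≤ H := hZ'E.trans (hEP.trans hNH)
  have hZ't : IsPGroup t' Z' := IsPGroup.of_card (n := 1) (by rw [hZ'c, pow_one])
  have hZ'1 : Z' ≠ ⊥ := by
    intro h0
    rw [h0, Subgroup.card_bot] at hZ'c
    exact ht'p.one_lt.ne hZ'c
  have hNZ' : normalizer (Z' : Set G) ≤ H :=
    Cfsg.Agent.Helper54.bg13_beta_norm_le hG hH ht' hZ't hZ'1 hZ'H
  -- S1428
  have h1428 := Cfsg.Agent.S1428.result hG M hM E hE r hr R' hR'E hR'c Z'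
    (le_inf hZ'E hZ'R') (by rw [hZ'c]; exact ht'p)
  -- `X' ≤ C_{M_σ}(R')`
  have hX'σ : X' ≤ sigmaCore M := by
    intro z hz
    have h1 : l * z * l⁻¹ ∈ sigmaCore M := (hXM ((hmemX' z).mp hz)).1
    have hn : l⁻¹ ∈ normalizer ((sigmaCore M : Subgroup G) : Set G) := Subgroup.inv_mem _ hlN
    have := (mem_normalizer_iff.mp hn _).mp h1
    rwa [inv_inv, hback] at this
  have hX'R' : X' ≤ centralizer (R' : Set G) := by
    intro z hz
    rw [Subgroup.mem_centralizer_iff]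
    intro ρ hρ
    have h1 := (Subgroup.mem_centralizer_iff.mp ((hXM ((hmemX' z).mp hz)).2)) _
      ((hmemR' ρ).mp hρ)
    have h2 : l * ρ * l⁻¹ * (l * z * l⁻¹) = l * (ρ * z) * l⁻¹ := by group
    have h3 : l * z * l⁻¹ * (l * ρ * l⁻¹) = l * (z * ρ) * l⁻¹ := by group
    rw [h2, h3] at h1
    exact mul_left_cancel (mul_right_cancel h1)
  have hX'Z' : X' ≤ centralizer (Z' : Set G) := fun z hz =>
    (h1428 ⟨hX'σ hz, hX'R' hz⟩).2
  have hX'H : X' ≤ H := hX'Z'.trans ((Subgroup.centralizer_le_normalizer _).trans hNZ')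
  have hX'P : X' ≤ centralizer (P : Set G) := by
    intro z hz
    have h1 : z ∈ sigmaCore M ⊓ H := ⟨hX'σ hz, hX'H hz⟩
    rw [hσMH] at h1
    exact h1.2
  have hX'M : X' ≤ M := hX'σ.trans hσM
  have hX't : IsPGroup t X' := IsPGroup.of_card (n := 1) (by rw [hX'c, pow_one])
  have hX'α : X' ≤ alphaCore M := Cfsg.Agent.Helper54.bg13_le_alphaCore hG hM ht.1 hX't hX'M
  -- Claim 12.18
  have hpα : p ∉ alpha M := fun h0 => h0.2 (fun A hA hAp =>
    (hp.2.2.2 A hA hAp).trans (Nat.pow_le_pow_right hpp.pos (by norm_num)))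
  have hpr : p ≠ r := by
    rintro rfl
    exact hr.2.2.2.1 hp.2.2.1
  have hPp : IsPGroup p P := IsPGroup.of_card (n := 1) (by rw [hP, pow_one])
  have hP1 : P ≠ ⊥ := by
    intro h0
    rw [h0, Subgroup.card_bot] at hP
    exact hpp.one_lt.ne hP
  have hR'N : R' ≤ normalizer (P : Set G) := hR'E.trans hEP
  have hPR' : P ⊓ centralizer (R' : Set G) = ⊥ := by
    by_contra hne0
    have hd : Nat.card ↥(P ⊓ centralizer (R' : Set G)) ∣ p := by
      rw [← hP]; exact Subgroup.card_dvd_of_le inf_le_left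
    rcases (Nat.dvd_prime hpp).mp hd with h1 | h1
    · exact hne0 (Subgroup.card_eq_one.mp h1)
    · have hle : P ≤ P ⊓ centralizer (R' : Set G) := by
        have hfin : Nat.card ↥(P ⊓ centralizer (R' : Set G)) = Nat.card P := by rw [h1, hP]
        exact (Subgroup.eq_of_le_of_card_ge inf_le_left hfin.ge).ge
      apply hR'P
      intro ρ hρ
      rw [Subgroup.mem_centralizer_iff]
      intro a ha
      exact ((Subgroup.mem_centralizer_iff.mp (hle ha).2) ρ hρ).symm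
  have hnu : ¬ (normalizer (P : Set G) ≤ M ∧
      ∀ L : Subgroup G, IsCoatom L → normalizer (P : Set G) ≤ L → L = M) := by
    rintro ⟨-, huniq⟩
    have hHM : H = M := huniq H hH hNH
    exact hp.2.1 (hHM ▸ hpσH)
  have hclaim := Cfsg.Agent.Helper54.bg13_claim hG M R' P r p hM hr (hR'E.trans hEM) hR'c hpp hpα
    hpr hPp hP1 hPM hR'N hPR' hnu
  have hX'bot : X' ≤ ⊥ := by
    rw [← hclaim]
    exact le_inf (le_inf hX'α hX'P) hX'R'
  have hX'1 : X' = ⊥ := le_bot_iff.mp hX'bot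
  rw [hX'1, Subgroup.card_bot] at hX'c
  exact htp.one_lt.ne hX'c

end Cfsg.Agent.Helper1
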