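/-
helper1: pieces ST and CC of CALL LZ (LEMMA Z of B&G section 14).
`bgz_step1`: S1427 for a prime `r` with `M` of `r`-rank one.
`bgz_cent`: if no element of prime order of `C_E(P)` has order in `τ₂(M)` (`P ≤ E` of order
`p ∈ τ₁(M)`), then `C_E(P)` centralizes `C_{M_σ}(P)`.
-/
import Cfsg.Agent.Helper1.BG139C3
import Cfsg.Agent.Helper23.BG1210c
import Cfsg.Agent.S1428

set_option autoImplicit false

namespace Cfsg.Agent.Helper1

open Cfsg Subgroup

universe u

variable {G : Type u} [Group G] [Finite G]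

/-- PIECE `ST` of CALL LZ: prime power case, from S1427, for a prime of rank one. -/
theorem bgz_step1 (hG : IsMinSimpleOddOrder G) {M E : Subgroup G} (hM : IsCoatom M)
    (hE : IsComplIn E (sigmaCore M) M) {r k : ℕ} (hr : r.Prime) (hr1 : PRankLE r 1 ↥M) {x z : G}
    (hx : x ∈ E) (hk : 0 < k) (hxo : orderOf x = r ^ k) (hz : z ∈ sigmaCore M)
    (hzx : Commute z (x ^ r ^ (k - 1))) : Commute z x := by
  have hqp : r.Prime := hr
  haveI : Fact r.Prime := ⟨hqp⟩
  have hq2 : r ≠ 2 := by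
    intro h
    have h0 : r ∣ r ^ k := dvd_pow_self r hk.ne'
    rw [← hxo] at h0
    have h1 : r ∣ Nat.card G := h0.trans (orderOf_dvd_natCard x)
    rw [h] at h1
    exact (Nat.not_even_iff_odd.mpr hG.1) (even_iff_two_dvd.mpr h1)
  have hx1 : x ≠ 1 := by
    intro h
    rw [h, orderOf_one] at hxo
    exact (Nat.one_lt_pow hk.ne' hqp.one_lt).ne hxo
  have hzp : IsPGroup r ↥(zpowers (⟨x, hx⟩ : ↥E)) := by
    apply IsPGroup.of_card (n := k)
    rw [Nat.card_zpowers, ← hxo, ← Subgroup.orderOf_coe]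
  obtain ⟨Q, hQ⟩ := hzp.exists_le_sylow
  have hxQ : (⟨x, hx⟩ : ↥E) ∈ (Q : Subgroup E) := hQ (mem_zpowers _)
  have hQ1 : (Q : Subgroup E) ≠ ⊥ := by
    intro h
    rw [h, mem_bot] at hxQ
    exact hx1 (congrArg Subtype.val hxQ)
  have hQc : IsCyclic (Q : Subgroup E) := by
    apply Helper49.isCyclic_of_pRankLE_one hq2 Q.2
    exact Helper21.pRankLE_of_injective ((Subgroup.inclusion hE.1).comp (Q : Subgroup E).subtype)
      ((Subgroup.inclusion_injective hE.1).comp (Subgroup.subtype_injective _)) hr1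
  have h27 := Cfsg.Agent.S1427.result hG M hM E hE r Q hQ1 hQc
  have hxm : x ∈ (Q : Subgroup E).map E.subtype := ⟨⟨x, hx⟩, hxQ, rfl⟩
  have hwm : x ^ r ^ (k - 1) ∈ (Q : Subgroup E).map E.subtype := Subgroup.pow_mem _ hxm _
  have hw1 : x ^ r ^ (k - 1) ≠ 1 := by
    intro h
    have h1 := orderOf_dvd_of_pow_eq_one h
    rw [hxo] at h1
    have h2 := Nat.le_of_dvd (pow_pos hqp.pos _) h1
    have h3 : r ^ (k - 1) < r ^ k := Nat.pow_lt_pow_right hqp.one_lt (by omega)
    omega
  have e1 := h27 (x ^ r ^ (k - 1)) hwm hw1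
  have e2 := h27 x hxm hx1
  have hz1 : z ∈ sigmaCore M ⊓ centralizer ({x ^ r ^ (k - 1)} : Set G) := by
    refine Subgroup.mem_inf.mpr ⟨hz, ?_⟩
    rw [mem_centralizer_iff]
    intro w hw
    rw [Set.mem_singleton_iff] at hw
    subst hw
    exact hzx.symm.eq
  rw [e1, ← e2] at hz1
  exact (mem_centralizer_iff.mp (Subgroup.mem_inf.mp hz1).2 x rfl).symm

omit [Finite G] in
/-- A subgroup of prime order is generated by an element of that order. -/
theorem bgz_exists_gen {P : Subgroup G} {p : ℕ} (hp : p.Prime) (hP : Nat.card P = p) :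
    ∃ v ∈ P, orderOf v = p ∧ P = zpowers v := by
  have hfin : Finite P := Nat.finite_of_card_ne_zero (by rw [hP]; exact hp.ne_zero)
  have hP1 : P ≠ ⊥ := by
    intro h
    rw [h, Subgroup.card_bot] at hP
    exact hp.one_lt.ne hP
  obtain ⟨v, hv, hv1⟩ : ∃ v ∈ P, v ≠ 1 := by
    obtain ⟨w, hw⟩ := (Subgroup.ne_bot_iff_exists_ne_one (H := P)).mp hP1
    exact ⟨(w : G), w.2, fun h => hw (Subtype.ext h)⟩
  have hvo : orderOf v = p := by
    have h1 : orderOf v ∣ p := by
      rw [← hP]; exact Subgroup.orderOf_dvd_natCard P hv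
    rcases (Nat.dvd_prime hp).mp h1 with h | h
    · exact absurd (orderOf_eq_one_iff.mp h) hv1
    · exact h
  refine ⟨v, hv, hvo, ?_⟩
  symm
  apply Subgroup.eq_of_le_of_card_ge (zpowers_le.mpr hv)
  rw [Nat.card_zpowers, hvo, hP]

/-- Key induction for `bgz_cent`. -/
theorem bgz_cent_key (hG : IsMinSimpleOddOrder G) {M E : Subgroup G} {p : ℕ} (hM : IsCoatom M)
    (hE : IsComplIn E (sigmaCore M) M) (hp : p ∈ tau1 M) {v z : G} (hvE : v ∈ E)
    (hvo : orderOf v = p) (hz : z ∈ sigmaCore M) (hzv : Commute z v)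
    (h2 : ∀ y ∈ E, Commute v y → (orderOf y).Prime → orderOf y ∉ tau2 M) :
    ∀ (n : ℕ) (y : G), orderOf y = n → y ∈ E → Commute v y → Commute z y := by
  have h28 : BG1328 G := fun M hM E hE p hp P hPE hP R hRE hR =>
    Cfsg.Agent.S1428.result hG M hM E hE p hp P hPE hP R hRE hR
  intro n
  induction n using Nat.strong_induction_on with
  | _ n ih =>
    intro y hyn hy hvy
    by_cases hn1 : orderOf y = 1
    · rw [orderOf_eq_one_iff.mp hn1]; exact Commute.one_right z
    obtain ⟨q, hq, hqd⟩ := Nat.exists_prime_and_dvd hn1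
    have hm0 : 0 < orderOf y := orderOf_pos y
    obtain ⟨k, m', hm'q, hmeq⟩ := Nat.exists_eq_pow_mul_and_not_dvd hm0.ne' q hq.ne_one
    have hk : 0 < k := by
      rcases Nat.eq_zero_or_pos k with h | h
      · rw [h, pow_zero, one_mul] at hmeq
        exact absurd (hmeq ▸ hqd) hm'q
      · exact h
    have hm'pos : 0 < m' := by
      rcases Nat.eq_zero_or_pos m' with h | h
      · rw [h, mul_zero] at hmeq; omega
      · exact h
    have hdivq : orderOf y / q = q ^ (k - 1) * m' := by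
      rw [hmeq]
      have : q ^ k = q * q ^ (k - 1) := by
        rw [← pow_succ']; congr 1; omega
      rw [this, mul_assoc, Nat.mul_div_cancel_left _ hq.pos]
    -- the element `w` of order `q`
    have hwE : y ^ (orderOf y / q) ∈ E := E.pow_mem hy _
    have hwo : orderOf (y ^ (orderOf y / q)) = q := orderOf_pow_orderOf_div hm0.ne' hqd
    have hvw : Commute v (y ^ (orderOf y / q)) := hvy.pow_right _
    have hq2 : q ∉ tau2 M := by
      have := h2 _ hwE hvw (by rw [hwo]; exact hq)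
      rwa [hwo] at this
    have hqE : q ∣ Nat.card E := by
      rw [← hwo]; exact Subgroup.orderOf_dvd_natCard E hwE
    have hq1 : PRankLE q 1 ↥M := by
      rcases Helper23.bg1210_tau13 hG hM hE hq hqE hq2 with h | h
      · exact h.2.2.2.2
      · exact h.2.2.2
    have hzw : Commute z (y ^ (orderOf y / q)) :=
      bg139_pa_transfer h28 hM hE hp hq hvE hwE hvw hvo hwo hz hzv
    have hcop : Nat.Coprime m' (q ^ k) :=
      Nat.Coprime.pow_right k ((Nat.Prime.coprime_iff_not_dvd hq).mpr hm'q).symm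
    have hao : orderOf (y ^ m') = q ^ k := by
      rw [orderOf_pow' y hm'pos.ne', hmeq, Nat.gcd_mul_left_left]
      exact Nat.mul_div_cancel _ hm'pos
    have hbo : orderOf (y ^ q ^ k) = m' := by
      rw [orderOf_pow' y (pow_pos hq.pos k).ne', hmeq, Nat.gcd_mul_right_left]
      exact Nat.mul_div_cancel_left _ (pow_pos hq.pos k)
    have hza : Commute z (y ^ m') := by
      apply bgz_step1 hG hM hE hq hq1 (E.pow_mem hy _) hk hao hz
      rw [← pow_mul, mul_comm m', ← hdivq]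
      exact hzw
    have hzb : Commute z (y ^ q ^ k) := by
      have hlt : orderOf (y ^ q ^ k) < n := by
        rw [hbo, ← hyn, hmeq]
        have h2 : 2 ≤ q ^ k := (Nat.one_lt_pow hk.ne' hq.one_lt)
        nlinarith
      exact ih _ hlt (y ^ q ^ k) rfl (E.pow_mem hy _) (hvy.pow_right _)
    have hbez := Int.gcd_eq_gcd_ab (m' : ℤ) ((q ^ k : ℕ) : ℤ)
    have hg : Int.gcd (m' : ℤ) ((q ^ k : ℕ) : ℤ) = 1 := by
      rw [Int.gcd_natCast_natCast]; exact hcop
    rw [hg] at hbez
    have hy_eq : y = (y ^ m') ^ (Int.gcdA (m' : ℤ) ((q ^ k : ℕ) : ℤ)) *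
        (y ^ q ^ k) ^ (Int.gcdB (m' : ℤ) ((q ^ k : ℕ) : ℤ)) := by
      rw [← zpow_natCast y m', ← zpow_natCast y (q ^ k), ← zpow_mul, ← zpow_mul, ← zpow_add,
        ← hbez]
      simp
    rw [hy_eq]
    exact (hza.zpow_right _).mul_right (hzb.zpow_right _)

/-- PIECE `CC` of CALL LZ. -/
theorem bgz_cent (hG : IsMinSimpleOddOrder G) {M E P : Subgroup G} {p : ℕ} (hM : IsCoatom M)
    (hE : IsComplIn E (sigmaCore M) M) (hp : p ∈ tau1 M) (hPE : P ≤ E) (hP : Nat.card P = p)
    (h2 : ∀ y ∈ E ⊓ centralizer (P : Set G), (orderOf y).Prime → orderOf y ∉ tau2 M) :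
    ∀ y ∈ E ⊓ centralizer (P : Set G), ∀ z ∈ sigmaCore M ⊓ centralizer (P : Set G),
      y * z = z * y := by
  obtain ⟨v, hvP, hvo, hPv⟩ := bgz_exists_gen hp.1 hP
  have hcent : ∀ y : G, Commute v y → y ∈ centralizer (P : Set G) := by
    intro y hvy
    rw [hPv]
    exact bg139_commute_zpowers hvy.symm
  intro y hy z hz
  have hzv : Commute z v :=
    (mem_centralizer_iff.mp (Subgroup.mem_inf.mp hz).2 v hvP).symm
  have hvy : Commute v y := mem_centralizer_iff.mp (Subgroup.mem_inf.mp hy).2 v hvP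
  have key := bgz_cent_key hG hM hE hp (hPE hvP) hvo (Subgroup.mem_inf.mp hz).1 hzv
    (fun y hyE hvy hyo => h2 y (Subgroup.mem_inf.mpr ⟨hyE, hcent y hvy⟩) hyo)
    (orderOf y) y rfl (Subgroup.mem_inf.mp hy).1 hvy
  exact key.symm.eq

end Cfsg.Agent.Helper1
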