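/-
helper1: piece E0 of CALL LZ (doubling).
-/
import Cfsg.Agent.Helper4.BGZNPC
import Cfsg.Agent.Helper22.BG12a
import Cfsg.Agent.S1403
import Cfsg.Agent.S1414
import Cfsg.Agent.S1426

set_option autoImplicit false

namespace Cfsg.Agent.Helper1

open Cfsg Subgroup

universe u

variable {G : Type u} [Group G] [Finite G]

/-- PIECE `E0` of CALL LZ (Z7d). -/
theorem bgz_E0_cent (hG : IsMinSimpleOddOrder G) {Ms Es S₁ : Subgroup G} {s : ℕ}
    (hMs : IsCoatom Ms) (hEs : IsComplIn Es (sigmaCore Ms) Ms) (hsσ : s ∈ sigma Ms)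
    (hsβ : s ∉ beta Ms) (hS₁ : S₁ ≤ sigmaCore Ms) (hS₁s : IsPGroup s S₁)
    (hEsS : Es ≤ normalizer (S₁ : Set G)) :
    ∀ e ∈ Es ⊓ ⁅Ms, Ms⁆, ∀ a ∈ S₁, e * a = a * e := by
  have hU : Helper22.BGUniq G := fun K hK h1 h2 => Cfsg.Agent.S1403.result hG K hK h1 h2
  have hs : s.Prime := hsσ.1
  have hsM : s ∣ Nat.card Ms := hsσ.2.1
  have hK := ((Cfsg.Agent.S1414.result hG Ms hMs).2.2.2.2 s hs hsM hsβ).1
  have h26 := (Cfsg.Agent.S1426.result hG Ms hMs Es hEs).2.1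
  have hσcomm : sigmaCore Ms ≤ ⁅Ms, Ms⁆ := by
    rw [← h26]; exact Subgroup.commutator_mono hEs.2.1 hEs.1
  intro e he a ha
  have heEs := (Subgroup.mem_inf.mp he).1
  have hcop : (orderOf e).Coprime s := by
    rw [Nat.coprime_comm, Nat.Prime.coprime_iff_not_dvd hs]
    intro hd
    exact Helper22.bg12_not_sigma_of_dvd hG hU hMs hEs hs
      (hd.trans (Subgroup.orderOf_dvd_natCard Es heEs)) hsσ
  exact Helper4.bgz_npc_centralizes hs hK (hS₁.trans hσcomm) hS₁s (Subgroup.mem_inf.mp he).2 hcop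
    (hEsS heEs) a ha

end Cfsg.Agent.Helper1
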