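/-
helper1: piece T2 of CALL LZ (S1420(d) for a subgroup of order `r ∈ τ₂(M)`).
-/
import Cfsg.Agent.Helper1.BGZCC
import Cfsg.Agent.Helper20.BG13P4
import Cfsg.Agent.S1420

set_option autoImplicit false

namespace Cfsg.Agent.Helper1

open Cfsg Subgroup

universe u

variable {G : Type u} [Group G] [Finite G]

/-- PIECE `T2` of CALL LZ. -/
theorem bgz_tau2_unique (hG : IsMinSimpleOddOrder G) {M R : Subgroup G} {r : ℕ} (hM : IsCoatom M)
    (hr : r ∈ tau2 M) (hRM : R ≤ M) (hR : Nat.card R = r)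
    (hC : sigmaCore M ⊓ centralizer (R : Set G) ≠ ⊥) :
    centralizer (R : Set G) ≤ M ∧
      ∀ L : Subgroup G, IsCoatom L → centralizer (R : Set G) ≤ L → L = M := by
  have hU : Helper22.BGUniq G := fun K hK h1 h2 => Cfsg.Agent.S1403.result hG K hK h1 h2
  have hrp : r.Prime := hr.1
  obtain ⟨E, hE, -⟩ := Helper20.bg13_exists_compl_ge hG hU hM (K := ⊥) bot_le
    (by rw [Subgroup.card_bot]; exact Nat.coprime_one_left _)
  obtain ⟨x, hxR, hxo, hRx⟩ := bgz_exists_gen hrp hR
  have hx1 : x ≠ 1 := by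
    intro h; rw [h, orderOf_one] at hxo; exact hrp.one_lt.ne hxo
  have hcent : centralizer ({x} : Set G) = centralizer (R : Set G) := by
    apply le_antisymm
    · intro z hz
      have hzx : Commute z x := (mem_centralizer_iff.mp hz x rfl).symm
      rw [hRx]
      exact bg139_commute_zpowers hzx
    · exact centralizer_le (Set.singleton_subset_iff.mpr hxR)
  have hxσ : x ∈ sigmaHat M := by
    refine ⟨hRM hxR, ?_⟩
    obtain ⟨y, hy⟩ := (Subgroup.ne_bot_iff_exists_ne_one
      (H := sigmaCore M ⊓ centralizer (R : Set G))).mp hC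
    refine ⟨(y : G), (Subgroup.mem_inf.mp y.2).1, fun h => hy (Subtype.ext h), ?_⟩
    exact (mem_centralizer_iff.mp (Subgroup.mem_inf.mp y.2).2 x hxR)
  have h20 := (Cfsg.Agent.S1420.result hG M hM E hE).2.2.2 x (hRM hxR) hx1
    (fun p hp hpd => by
      rw [hxo] at hpd
      rw [(Nat.prime_dvd_prime_iff_eq hp hrp).mp hpd]; exact hr) hxσ
  rw [hcent] at h20
  exact h20

end Cfsg.Agent.Helper1
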