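/-
helper1: piece N2 of CALL LZ (doubling).
-/
import Cfsg.Agent.Helper1.BGZT2
import Cfsg.Agent.S1428

set_option autoImplicit false

namespace Cfsg.Agent.Helper1

open Cfsg Subgroup

universe u

variable {G : Type u} [Group G] [Finite G]

/-- PIECE `N2` of CALL LZ (Z7a). -/
theorem bgz_no_tau2 (hG : IsMinSimpleOddOrder G) {M E P X Ms Es : Subgroup G} {p : ℕ}
    (hM : IsCoatom M) (hE : IsComplIn E (sigmaCore M) M) (hp : p ∈ tau1 M) (hPE : P ≤ E)
    (hP : Nat.card P = p) (hD : sigmaCore M ⊓ centralizer (P : Set G) ≠ ⊥)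
    (hXM : centralizer (X : Set G) ≤ M) (hX1 : X ≠ ⊥) (hMs : IsCoatom Ms)
    (hEs : IsComplIn Es (sigmaCore Ms) Ms) (hpMs : p ∈ tau1 Ms) (hPEs : P ≤ Es)
    (hXs : X ≤ sigmaCore Ms ⊓ centralizer (P : Set G)) (hcap : sigmaCore M ⊓ Ms = ⊥)
    (hME : M ⊓ Ms ≤ E) :
    ∀ y ∈ Es ⊓ centralizer (P : Set G), (orderOf y).Prime → orderOf y ∉ tau2 Ms := by
  intro y hy hyo hy2
  have hyEs : y ∈ Es := (Subgroup.mem_inf.mp hy).1
  have hRc : Nat.card (zpowers y) = orderOf y := Nat.card_zpowers y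
  have hREs : zpowers y ≤ Es ⊓ centralizer (P : Set G) := zpowers_le.mpr hy
  have h28s := Cfsg.Agent.S1428.result hG Ms hMs Es hEs p hpMs P hPEs hP (zpowers y) hREs
    (by rw [hRc]; exact hyo)
  have hXR : X ≤ sigmaCore Ms ⊓ centralizer ((zpowers y : Subgroup G) : Set G) := hXs.trans h28s
  -- `y` centralizes `X`
  have hyX : y ∈ centralizer (X : Set G) := by
    rw [mem_centralizer_iff]
    intro x hx
    exact (mem_centralizer_iff.mp (Subgroup.mem_inf.mp (hXR hx)).2 y (mem_zpowers y)).symm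
  have hyE : y ∈ E := hME (Subgroup.mem_inf.mpr ⟨hXM hyX, hEs.1 hyEs⟩)
  have hRE : zpowers y ≤ E ⊓ centralizer (P : Set G) :=
    zpowers_le.mpr (Subgroup.mem_inf.mpr ⟨hyE, (Subgroup.mem_inf.mp hy).2⟩)
  have h28 := Cfsg.Agent.S1428.result hG M hM E hE p hp P hPE hP (zpowers y) hRE
    (by rw [hRc]; exact hyo)
  have hC : sigmaCore Ms ⊓ centralizer ((zpowers y : Subgroup G) : Set G) ≠ ⊥ := by
    intro h
    rw [h] at hXR
    exact hX1 (le_bot_iff.mp hXR)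
  have hT2 := (bgz_tau2_unique hG hMs hy2 (zpowers_le.mpr (hEs.1 hyEs)) hRc hC).1
  have hle : sigmaCore M ⊓ centralizer (P : Set G) ≤ sigmaCore M ⊓ Ms :=
    le_inf inf_le_left ((h28.trans inf_le_right).trans hT2)
  rw [hcap] at hle
  exact hD (le_bot_iff.mp hle)

end Cfsg.Agent.Helper1
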