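/-
helper1: LEMMA Z of B&G section 14 (CALL LZ assembly): for `p ∈ τ₁(M)`, `P ≤ E` of order `p` with
`C_{M_σ}(P) ≠ 1`, no subgroup of order `s ∈ τ₂(M)` of `E` centralizes `P`.
Pieces: helper4 (NPC), helper31 (FR, CS, MS), helper20 (NA), helper34 (NB, SN), helper46 (E0, doubled by helper1),
helper1 (ST, CC, T2, N2).
-/
import Cfsg.Agent.Helper1.BGZCC
import Cfsg.Agent.Helper1.BGZT2
import Cfsg.Agent.Helper1.BGZN2
import Cfsg.Agent.Helper4.BGZNPC
import Cfsg.Agent.Helper31.BGZFR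
import Cfsg.Agent.Helper31.BGZCS
import Cfsg.Agent.Helper31.BGZMS
import Cfsg.Agent.Helper20.BGZNA
import Cfsg.Agent.Helper34.BGZNB
import Cfsg.Agent.Helper34.BGZSN
import Cfsg.Agent.Helper1.BGZE0
import Cfsg.Agent.Helper23.BG1210c
import Cfsg.Agent.Helper23.ExtLayer
import Cfsg.Agent.Helper23.Uniq
import Cfsg.Agent.Helper47.Syl
import Cfsg.Agent.S1418
import Cfsg.Agent.S1423
import Cfsg.Agent.S1426
import Cfsg.Agent.S1428

set_option autoImplicit false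

namespace Cfsg.Agent.Helper1

open Cfsg Subgroup

universe u

variable {G : Type u} [Group G] [Finite G]

/-- Z7: the case `p ∈ τ₁(M*)`. -/
theorem bgz_case_tau1 (hG : IsMinSimpleOddOrder G) {M E P X Ms : Subgroup G} {p s : ℕ}
    (hM : IsCoatom M) (hE : IsComplIn E (sigmaCore M) M) (hp : p ∈ tau1 M) (hPE : P ≤ E)
    (hP : Nat.card P = p) (hD : sigmaCore M ⊓ centralizer (P : Set G) ≠ ⊥) (hs : s.Prime)
    (hX : Nat.card X = s) (hXP : X ≤ centralizer (P : Set G))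
    (hXM : centralizer (X : Set G) ≤ M) (hMs : IsCoatom Ms) (hne : Ms ≠ M)
    (hsσ : s ∈ sigma Ms) (hsβ : s ∉ beta Ms) (hXs : X ≤ sigmaCore Ms)
    (hcap : sigmaCore M ⊓ Ms = ⊥) (hME : M ⊓ Ms ≤ E) (hpMs : p ∈ tau1 Ms) (hPMs : P ≤ Ms) :
    False := by
  have : Fact s.Prime := ⟨hs⟩
  have hXp : IsPGroup s X := IsPGroup.of_card (n := 1) (by rw [hX, pow_one])
  have hX1 : X ≠ ⊥ := by
    intro h
    rw [h, Subgroup.card_bot] at hX
    exact hs.one_lt.ne hX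
  have hXD : X ≤ sigmaCore Ms ⊓ centralizer (P : Set G) := le_inf hXs hXP
  obtain ⟨Es, S₁, c, hEs, hPEs, hS₁, hS₁s, hEsS, hc, hXc⟩ :=
    Helper31.bgz_compl_sylow hG hMs hs hpMs hPMs hP hXp hXD
  have h2 := bgz_no_tau2 hG hM hE hp hPE hP hD hXM hX1 hMs hEs hpMs hPEs hXD hcap hME
  have hcc := bgz_cent hG hMs hEs hpMs hPEs hP h2
  have he0 := bgz_E0_cent hG hMs hEs hsσ hsβ hS₁ hS₁s hEsS
  have hfr := Helper31.bgz_frattini (E := Es) (K := Es ⊓ ⁅Ms, Ms⁆) (P := P) hpMs.1 inf_le_left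
    (le_inf (Subgroup.commutator_le.mpr fun a ha b hb =>
        Es.mul_mem (Es.mul_mem (Es.mul_mem ha hb) (Es.inv_mem ha)) (Es.inv_mem hb))
      (Subgroup.commutator_mono hEs.1 hEs.1)) hPEs hP
    (fun h => hpMs.2.2.2.1 (h.trans (Subgroup.card_dvd_of_le inf_le_right)))
  have hX1c : Nat.card (X.map (MulAut.conj c).toMonoidHom) = s := by
    rw [Subgroup.card_map_of_injective (MulAut.conj c).injective, hX]
  have hX1D : X.map (MulAut.conj c).toMonoidHom ≤ sigmaCore Ms ⊓ centralizer (P : Set G) := by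
    rintro _ ⟨x, hx, rfl⟩
    have hxD := hXD hx
    show c * x * c⁻¹ ∈ _
    exact mul_mem (mul_mem hc hxD) (inv_mem hc)
  have hX1E : X.map (MulAut.conj c).toMonoidHom ≤
      sigmaCore Ms ⊓ centralizer (Es : Set G) := by
    intro x1 hx1
    refine ⟨hS₁ (hXc hx1), ?_⟩
    show x1 ∈ centralizer (Es : Set G)
    rw [Subgroup.mem_centralizer_iff]
    intro e he
    obtain ⟨k, hk, c', hc', rfl⟩ := hfr e he
    have h1 : k * x1 = x1 * k := he0 k hk x1 (hXc hx1)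
    have h2' : c' * x1 = x1 * c' := hcc c' hc' x1 (hX1D hx1)
    rw [mul_assoc, h2', ← mul_assoc, h1, mul_assoc]
  have h26 := (Cfsg.Agent.S1426.result hG Ms hMs Es hEs).1
  have hX1comm : X.map (MulAut.conj c).toMonoidHom ≤ ⁅sigmaCore Ms, sigmaCore Ms⁆ :=
    hX1E.trans h26
  have hsM : sigmaCore Ms ≤ Ms := hEs.2.1
  have h23 := (Cfsg.Agent.S1423.result hG Ms hMs s hsσ _ ((hX1D.trans inf_le_left).trans hsM) hX1c
    (Classical.arbitrary _) (Or.inr hX1comm)).1.2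
  have hcent : centralizer ((X.map (MulAut.conj c).toMonoidHom : Subgroup G) : Set G) ≤
      M.map (MulAut.conj c).toMonoidHom := by
    rw [Helper23.centralizer_map_conj]
    exact Subgroup.map_mono hXM
  have hMc := h23 _ (Helper47.isCoatom_map_conj hM c) hcent
  have hcMs : c ∈ Ms := hsM hc.1
  have hMle : M ≤ Ms := by
    intro m hm
    have h1 : c * m * c⁻¹ ∈ Ms := by
      rw [← hMc]; exact ⟨m, hm, rfl⟩
    have h2 : m = c⁻¹ * (c * m * c⁻¹) * c := by group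
    rw [h2]; exact mul_mem (mul_mem (inv_mem hcMs) h1) hcMs
  exact hne (Helper23.uq_eq_of_coatom_le hM hMs.1 hMle)

/-- LEMMA Z. -/
theorem bg14_lemmaZ (hG : IsMinSimpleOddOrder G) {M E P X : Subgroup G} {p s : ℕ}
    (hM : IsCoatom M) (hE : IsComplIn E (sigmaCore M) M) (hp : p ∈ tau1 M) (hPE : P ≤ E)
    (hP : Nat.card P = p) (hD : sigmaCore M ⊓ centralizer (P : Set G) ≠ ⊥) (hs : s ∈ tau2 M)
    (hXE : X ≤ E) (hX : Nat.card X = s) (hXP : X ≤ centralizer (P : Set G)) : False := by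
  have hU : Helper22.BGUniq G := fun K hK h1 h2 => Cfsg.Agent.S1403.result hG K hK h1 h2
  have hsp : s.Prime := hs.1
  have : Fact s.Prime := ⟨hsp⟩
  have hpp : p.Prime := hp.1
  obtain ⟨A, hAE, hA, hAc⟩ := Helper23.bg1210_exists_elemAb_le hG hM hE hs
  have h18 := Cfsg.Agent.S1418.result hG M hM E hE s hs A ⟨hAE, hA, hAc⟩
  have hEA : E ≤ normalizer (A : Set G) := h18.1.1
  have hXA : X ≤ A := h18.1.2 X hXE hX
  have h28 := Cfsg.Agent.S1428.result hG M hM E hE p hp P hPE hP X (le_inf hXE hXP)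
    (by rw [hX]; exact hsp)
  have hXne : sigmaCore M ⊓ centralizer (X : Set G) ≠ ⊥ := by
    intro h
    rw [h] at h28
    exact hD (le_bot_iff.mp h28)
  obtain ⟨hXM, -⟩ := h18.2.2 X hXA hX hXne
  have hZ2 := Helper20.bgz_not_cent hG hM hE hp hPE hP hD hs hAE hA hAc
  obtain ⟨Ms, hMs, hne, hNA, hsσ, hcap, hME⟩ := Helper31.bgz_exists_Mstar hG hM hE hs hAE hA hAc
  have hAMs : A ≤ Ms := le_normalizer.trans hNA
  have hEMs : E ≤ Ms := hEA.trans hNA
  have hPMs : P ≤ Ms := hPE.trans hEMs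
  have hXMs : X ≤ Ms := hXE.trans hEMs
  have hsβ := Helper34.bgz_not_beta hG hM hMs hne hsσ hXMs hX hXM
  have hAp : IsPGroup s A := IsPGroup.of_card hAc
  have hAσ : A ≤ sigmaCore Ms := Helper22.bg12_le_sigmaCore hG hU hMs hsp hsσ hAMs hAp
  have hXs : X ≤ sigmaCore Ms := hXA.trans hAσ
  have hps : p ≠ s := by
    rintro rfl
    exact hs.2.2.2 hp.2.2.2.2
  have hPA : P ≤ normalizer (A : Set G) := hPE.trans hEA
  have hpMs : p ∣ Nat.card Ms := by rw [← hP]; exact Subgroup.card_dvd_of_le hPMs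
  by_cases hpσ : p ∈ sigma Ms
  · exact hZ2 (Helper34.bgz_case_normal hG hMs hsσ hsβ hAMs hAp hPMs hP hps (Or.inl hpσ) hPA)
  by_cases hp1 : PRankLE p 1 ↥Ms
  · by_cases hpd : p ∣ Nat.card ↥⁅Ms, Ms⁆
    · exact hZ2 (Helper34.bgz_case_normal hG hMs hsσ hsβ hAMs hAp hPMs hP hps
        (Or.inr ⟨hpp, hpσ, hpd, hp1⟩) hPA)
    · exact bgz_case_tau1 hG hM hE hp hPE hP hD hsp hX hXP hXM hMs hne hsσ hsβ hXs hcap hME
        ⟨hpp, hpσ, hpMs, hpd, hp1⟩ hPMs
  · have hp2 : p ∈ tau2 Ms := ⟨hpp, hpσ, by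
      by_contra hr
      exact hpσ (Helper22.bg10_alpha_sub_sigma hG hU hMs ⟨hpp, hr⟩), hp1⟩
    have hX1 : X ≠ ⊥ := by
      intro h
      rw [h, Subgroup.card_bot] at hX
      exact hsp.one_lt.ne hX
    have hC : sigmaCore Ms ⊓ centralizer (P : Set G) ≠ ⊥ := by
      intro h
      have := le_inf hXs hXP
      rw [h] at this
      exact hX1 (le_bot_iff.mp this)
    have hCP := (bgz_tau2_unique hG hMs hp2 hPMs hP hC).1
    have : sigmaCore M ⊓ centralizer (P : Set G) ≤ sigmaCore M ⊓ Ms :=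
      le_inf inf_le_left (inf_le_right.trans hCP)
    rw [hcap] at this
    exact hD (le_bot_iff.mp this)

end Cfsg.Agent.Helper1
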