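/-
helper1: B&G "tau3-nonregular" configuration (STAR), counting kill.  Definitions shared by the
pieces of CALL S1351D: a family of pairwise non-conjugate maximal subgroups `M j` meeting pairwise in
one subgroup `W`, with `W = D_j E_j`, `D_j = (M j)_σ ∩ W`, `M j = (M j)_σ W`.
-/
import Cfsg.Agent.Helper54.BG14T4
import Cfsg.Agent.Helper31.BGCHN

set_option autoImplicit false

namespace Cfsg.Agent.Helper1

open Cfsg Subgroup

universe u v

variable {G : Type u} [Group G]

/-- A (STAR) family: maximal subgroups `M j` with pairwise disjoint `σ`-sets, pairwise intersection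
`W`, every prime of `|W|` in some `σ(M j)`, `M j = (M j)_σ W`, every non-identity element of
`D_j = (M j)_σ ∩ W` has its centralizer in `M j`, and `(M j)_σ` is not inside `W`. -/
structure StarFamily {ι : Type v} (M : ι → Subgroup G) (W : Subgroup G) : Prop where
  coatom : ∀ j, IsCoatom (M j)
  sigma_disj : ∀ j k, j ≠ k → ∀ p : ℕ, p ∈ sigma (M j) → p ∉ sigma (M k)
  inf_eq : ∀ j k, j ≠ k → M j ⊓ M k = W
  prime_mem : ∀ q : ℕ, q.Prime → q ∣ Nat.card W → ∃ j, q ∈ sigma (M j)
  sup_eq : ∀ j, ∀ m ∈ M j, ∃ n ∈ sigmaCore (M j), ∃ w ∈ W, m = n * w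
  good : ∀ j, ∀ d ∈ sigmaCore (M j) ⊓ W, d ≠ 1 → centralizer ({d} : Set G) ≤ M j
  proper : ∀ j, ¬ sigmaCore (M j) ≤ W

/-- The elements of `W` whose order involves primes of two different `σ(M j)`. -/
def starHat {ι : Type v} (M : ι → Subgroup G) (W : Subgroup G) : Set G :=
  {w | w ∈ W ∧ ∃ j k, j ≠ k ∧ (∃ p ∈ sigma (M j), p ∣ orderOf w) ∧
    (∃ q ∈ sigma (M k), q ∣ orderOf w)}

/-- The `G`-conjugates of `starHat`. -/
def starConj {ι : Type v} (M : ι → Subgroup G) (W : Subgroup G) : Set G :=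
  {g | ∃ y : G, ∃ w ∈ starHat M W, g = y * w * y⁻¹}

/-- `M̃_σ`: the tilde set of `M_σ ∖ {1}` (row S1377). -/
noncomputable def starTilde (M : Subgroup G) : Set G :=
  tildeOf M ((sigmaCore M : Set G) \ {1})

end Cfsg.Agent.Helper1
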