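/-
helper1: B&G Lemma 14.2(c)-type statements (rows S1354, S1353) from LEMMA Z (CALL LZ),
taken here as a hypothesis `hZ`.
-/
import Cfsg.Agent.Helper1.BGZCC
import Cfsg.Agent.Helper22.BG14Main
import Cfsg.Agent.Helper24.BG11b
import Cfsg.Agent.S1378

set_option autoImplicit false

namespace Cfsg.Agent.Helper1

open Cfsg Subgroup

universe u

variable {G : Type u} [Group G] [Finite G]

/-- Row S1354 from LEMMA Z. -/
theorem bg14_1354 (hG : IsMinSimpleOddOrder G)
    (hZ : ∀ (M E P X : Subgroup G) (p s : ℕ), IsCoatom M → IsComplIn E (sigmaCore M) M →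
      p ∈ tau1 M → P ≤ E → Nat.card P = p → sigmaCore M ⊓ centralizer (P : Set G) ≠ ⊥ →
      s ∈ tau2 M → X ≤ E → Nat.card X = s → X ≤ centralizer (P : Set G) → False)
    {M K : Subgroup G} (hM : IsCoatom M) (hKc : IsCyclic K) (hK : IsPiHallOf (kappa M) K M) :
    sigmaCore M ⊓ centralizer (K : Set G) ≠ ⊥ ∧
      (K ≠ ⊥ → ∀ k ∈ K, k ≠ 1 →
        M ⊓ centralizer ({k} : Set G) = K ⊔ (sigmaCore M ⊓ centralizer (K : Set G))) := by
  have hU : Helper22.BGUniq G := fun K hK h1 h2 => Cfsg.Agent.S1403.result hG K hK h1 h2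
  have hσp : Helper22.BGSigmaPart G := (Cfsg.Agent.S1378.result hG).2
  have h28 : BG1328 G := fun M hM E hE p hp P hPE hP R hRE hR =>
    Cfsg.Agent.S1428.result hG M hM E hE p hp P hPE hP R hRE hR
  have hKM : K ≤ M := hK.1
  have hσM : sigmaCore M ≤ M := Helper23.piCoreOf_le _ _
  have hσ1 : sigmaCore M ≠ ⊥ := Helper24.bg11b_sigmaCore_ne_bot hG hU hM
  have hKcomm : ∀ a ∈ K, ∀ b ∈ K, a * b = b * a := by
    intro a ha b hb
    have h1 := (IsCyclic.isMulCommutative (α := ↥K)).is_comm.comm ⟨a, ha⟩ ⟨b, hb⟩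
    exact congrArg Subtype.val h1
  -- primes of `K` are in `τ₁(M)`
  have hKτ : ∀ q : ℕ, q.Prime → q ∣ Nat.card K → q ∈ tau1 M := by
    intro q hq hqK
    have hqκ : q ∈ kappa M := hK.2.1 q hq hqK
    refine ⟨hq, hqκ.2.2.1, hqκ.2.1, ?_, Helper47.bg14_rank_of_kappa hqκ⟩
    intro hd
    have hcop := Helper22.bg14_kappa_coprime hG hσp hM hKc hK
    exact hq.one_lt.ne' (Nat.eq_one_of_dvd_coprimes hcop hqK hd)
  have hpa : ∀ x ∈ K, ∀ y ∈ K, x ≠ 1 → y ≠ 1 →
      sigmaCore M ⊓ centralizer ({x} : Set G) = sigmaCore M ⊓ centralizer ({y} : Set G) :=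
    fun x hx y hy hx1 hy1 => bg139_prime_action_sub hG h28 hM hKM hKc hKτ hx hy hx1 hy1
  have hKstar : ∀ k ∈ K, k ≠ 1 →
      sigmaCore M ⊓ centralizer ({k} : Set G) = sigmaCore M ⊓ centralizer (K : Set G) := by
    intro k hk hk1
    apply le_antisymm
    · intro z hz
      refine Subgroup.mem_inf.mpr ⟨(Subgroup.mem_inf.mp hz).1, ?_⟩
      rw [mem_centralizer_iff]
      intro y hy
      by_cases hy1 : y = 1
      · rw [hy1, one_mul, mul_one]
      · have h1 : z ∈ sigmaCore M ⊓ centralizer ({y} : Set G) := by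
          rw [← hpa k hk y hy hk1 hy1]; exact hz
        exact mem_centralizer_iff.mp (Subgroup.mem_inf.mp h1).2 y rfl
    · exact inf_le_inf_left _ (centralizer_le (Set.singleton_subset_iff.mpr hk))
  have hKne : K ≠ ⊥ → sigmaCore M ⊓ centralizer (K : Set G) ≠ ⊥ := by
    intro hK1
    have hcard : Nat.card K ≠ 1 := fun h => hK1 (Subgroup.card_eq_one.mp h)
    obtain ⟨q, hq, hqK⟩ := Nat.exists_prime_and_dvd hcard
    have hqκ : q ∈ kappa M := hK.2.1 q hq hqK
    obtain ⟨Q, hQK, hQq, hQ1, hQc, hQi⟩ := Helper47.bg14_sylow_of_hall hKc hK hqκ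
    obtain ⟨Q₁, hQ₁Q, hQ₁c, hQ₁ne⟩ := Helper47.bg14_kappa_cent hqκ (hQK.trans hKM) hQq hQi
    obtain ⟨v, hvQ, hvo, hQv⟩ := bgz_exists_gen hq hQ₁c
    have hv1 : v ≠ 1 := by
      intro h; rw [h, orderOf_one] at hvo; exact hq.one_lt.ne hvo
    rw [← hKstar v (hQK (hQ₁Q hvQ)) hv1]
    intro hbot
    apply hQ₁ne
    rw [eq_bot_iff, ← hbot]
    exact inf_le_inf_left _ (centralizer_le (Set.singleton_subset_iff.mpr hvQ))
  refine ⟨?_, ?_⟩
  · by_cases hK1 : K = ⊥
    · have h1 : sigmaCore M ≤ sigmaCore M ⊓ centralizer (K : Set G) := by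
        refine le_inf le_rfl ?_
        intro z _
        rw [mem_centralizer_iff]
        intro y hy
        rw [hK1] at hy
        rw [Subgroup.mem_bot.mp hy, one_mul, mul_one]
      intro hbot
      rw [hbot] at h1
      exact hσ1 (le_bot_iff.mp h1)
    · exact hKne hK1
  · intro hK1 k hk hk1
    apply le_antisymm
    · intro m hm
      have hmM : m ∈ M := (Subgroup.mem_inf.mp hm).1
      have hmk : k * m = m * k := mem_centralizer_iff.mp (Subgroup.mem_inf.mp hm).2 k rfl
      have hcop : (Nat.card K).Coprime (Nat.card (sigmaCore M)) := by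
        rw [Nat.coprime_iff_gcd_eq_one]
        by_contra h
        obtain ⟨q, hq, hqd⟩ := Nat.exists_prime_and_dvd h
        exact (hKτ q hq (hqd.trans (Nat.gcd_dvd_left _ _))).2.1
          (Helper23.mem_of_dvd_card_piCoreOf (sigma M) M hq (hqd.trans (Nat.gcd_dvd_right _ _)))
      obtain ⟨E, hE, hKE⟩ := Helper20.bg13_exists_compl_ge hG hU hM hKM hcop
      obtain ⟨e, he, y, hy, rfl⟩ := hE.2.2.2 m hmM
      have hkE : k ∈ E := hKE hk
      have hkM : k ∈ M := hKM hk
      -- the commutator `y k y⁻¹ k⁻¹` lies in `M_σ ⊓ E`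
      have hc1 : y * k * y⁻¹ * k⁻¹ ∈ sigmaCore M := by
        have h1 : k * y⁻¹ * k⁻¹ ∈ sigmaCore M :=
          (mem_normalizer_iff.mp (Helper23.le_normalizer_piCoreOf (sigma M) M hkM) _).mp
            (inv_mem hy)
        have h2 : y * k * y⁻¹ * k⁻¹ = y * (k * y⁻¹ * k⁻¹) := by group
        rw [h2]; exact mul_mem hy h1
      have hc2 : y * k * y⁻¹ * k⁻¹ ∈ E := by
        have h2 : y * k * y⁻¹ * k⁻¹ = e⁻¹ * (e * y * k) * y⁻¹ * k⁻¹ := by group
        rw [h2, ← hmk]
        have h3 : e⁻¹ * (k * (e * y)) * y⁻¹ * k⁻¹ = e⁻¹ * k * e * k⁻¹ := by group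
        rw [h3]
        exact mul_mem (mul_mem (mul_mem (inv_mem he) hkE) he) (inv_mem hkE)
      have hc : y * k * y⁻¹ * k⁻¹ = 1 := by
        have h1 : y * k * y⁻¹ * k⁻¹ ∈ E ⊓ sigmaCore M := Subgroup.mem_inf.mpr ⟨hc2, hc1⟩
        rw [hE.2.2.1] at h1
        exact Subgroup.mem_bot.mp h1
      have hyk : y * k = k * y := by
        have h1 : y * k = (y * k * y⁻¹ * k⁻¹) * (k * y) := by group
        rw [h1, hc, one_mul]
      have hek : e * k = k * e := by
        apply mul_right_cancel (b := y)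
        rw [mul_assoc, ← hyk, ← mul_assoc, ← hmk, mul_assoc]
      have hyK : y ∈ sigmaCore M ⊓ centralizer (K : Set G) := by
        rw [← hKstar k hk hk1]
        refine Subgroup.mem_inf.mpr ⟨hy, ?_⟩
        rw [mem_centralizer_iff]
        intro w hw
        rw [Set.mem_singleton_iff.mp hw]
        exact hyk.symm
      -- `C_E(k)` is a `κ(M)`-group
      have hKC : K ≤ E ⊓ centralizer ({k} : Set G) := by
        intro a ha
        refine Subgroup.mem_inf.mpr ⟨hKE ha, ?_⟩
        rw [mem_centralizer_iff]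
        intro w hw
        rw [Set.mem_singleton_iff.mp hw]
        exact hKcomm k hk a ha
      have hCκ : ∀ s : ℕ, s.Prime → s ∣ Nat.card ↥(E ⊓ centralizer ({k} : Set G)) →
          s ∈ kappa M := by
        intro s hs hsC
        haveI : Fact s.Prime := ⟨hs⟩
        obtain ⟨u', hu'⟩ := exists_prime_orderOf_dvd_card' (G := ↥(E ⊓ centralizer ({k} : Set G)))
          s hsC
        have huo : orderOf (u' : G) = s := by rw [Subgroup.orderOf_coe]; exact hu'
        have huE : (u' : G) ∈ E := (Subgroup.mem_inf.mp u'.2).1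
        have huk : k * (u' : G) = (u' : G) * k :=
          mem_centralizer_iff.mp (Subgroup.mem_inf.mp u'.2).2 k rfl
        -- an element `k'` of prime order `p` of `⟨k⟩`
        have hok : orderOf k ≠ 1 := fun h => hk1 (orderOf_eq_one_iff.mp h)
        obtain ⟨p, hp, hpd⟩ := Nat.exists_prime_and_dvd hok
        have hk'o : orderOf (k ^ (orderOf k / p)) = p :=
          orderOf_pow_orderOf_div (orderOf_pos k).ne' hpd
        have hk'K : k ^ (orderOf k / p) ∈ K := K.pow_mem hk _
        have hpK : p ∣ Nat.card K := hpd.trans (Subgroup.orderOf_dvd_natCard K hk)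
        have hpτ : p ∈ tau1 M := hKτ p hp hpK
        have hPc : Nat.card (zpowers (k ^ (orderOf k / p))) = p := by
          rw [Nat.card_zpowers, hk'o]
        have hPE : zpowers (k ^ (orderOf k / p)) ≤ E := zpowers_le.mpr (hKE hk'K)
        have hPK : zpowers (k ^ (orderOf k / p)) ≤ K := zpowers_le.mpr hk'K
        have hD : sigmaCore M ⊓ centralizer ((zpowers (k ^ (orderOf k / p)) : Subgroup G) : Set G)
            ≠ ⊥ := by
          intro hbot
          apply hKne hK1
          rw [eq_bot_iff, ← hbot]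
          exact inf_le_inf_left _ (centralizer_le hPK)
        have hcomm : Commute (k ^ (orderOf k / p)) (u' : G) := (show Commute k (u' : G) from huk).pow_left _
        have hXc : Nat.card (zpowers (u' : G)) = s := by rw [Nat.card_zpowers, huo]
        have hXE : zpowers (u' : G) ≤ E := zpowers_le.mpr huE
        have hXP : zpowers (u' : G) ≤
            centralizer ((zpowers (k ^ (orderOf k / p)) : Subgroup G) : Set G) := by
          rw [zpowers_le]
          exact bg139_commute_zpowers hcomm.symm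
        by_cases hs2 : s ∈ tau2 M
        · exact (hZ M E _ _ p s hM hE hpτ hPE hPc hD hs2 hXE hXc hXP).elim
        · have hsE : s ∣ Nat.card E := by
            rw [← huo]; exact Subgroup.orderOf_dvd_natCard E huE
          have h13 := Helper23.bg1210_tau13 hG hM hE hs hsE hs2
          by_contra hsκ
          have h28' := Cfsg.Agent.S1428.result hG M hM E hE p hpτ _ hPE hPc (zpowers (u' : G))
            (le_inf hXE hXP) (by rw [hXc]; exact hs)
          apply hD
          rw [eq_bot_iff]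
          intro z hz
          have hz' := h28' hz
          have hzu : (u' : G) * z = z * (u' : G) :=
            mem_centralizer_iff.mp (Subgroup.mem_inf.mp hz').2 _ (mem_zpowers _)
          exact Subgroup.mem_bot.mpr (Helper49.bg14u_regular_of_not_kappa hG h13 hsκ
            (hE.1 huE) huo (Subgroup.mem_inf.mp hz).1 hzu)
      have hCM : E ⊓ centralizer ({k} : Set G) ≤ M := inf_le_left.trans hE.1
      have hrel : K.relIndex (E ⊓ centralizer ({k} : Set G)) = 1 := by
        by_contra h1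
        obtain ⟨s, hs, hsd⟩ := Nat.exists_prime_and_dvd h1
        have hsC : s ∣ Nat.card ↥(E ⊓ centralizer ({k} : Set G)) :=
          hsd.trans (Subgroup.relIndex_dvd_card _ _)
        have hsκ := hCκ s hs hsC
        apply hK.2.2 s hs hsκ
        rw [← Subgroup.relIndex_mul_relIndex K _ M hKC hCM]
        exact hsd.mul_right _
      have heK : e ∈ K :=
        (Subgroup.relIndex_eq_one.mp hrel) (Subgroup.mem_inf.mpr ⟨he, by
          rw [mem_centralizer_iff]
          intro w hw
          rw [Set.mem_singleton_iff.mp hw]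
          exact hek.symm⟩)
      exact Subgroup.mul_mem_sup heK hyK
    · apply sup_le
      · intro a ha
        refine Subgroup.mem_inf.mpr ⟨hKM ha, ?_⟩
        rw [mem_centralizer_iff]
        intro w hw
        rw [Set.mem_singleton_iff.mp hw]
        exact hKcomm k hk a ha
      · intro z hz
        refine Subgroup.mem_inf.mpr ⟨hσM (Subgroup.mem_inf.mp hz).1, ?_⟩
        rw [mem_centralizer_iff]
        intro w hw
        rw [Set.mem_singleton_iff.mp hw]
        exact mem_centralizer_iff.mp (Subgroup.mem_inf.mp hz).2 k hk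

/-- Row S1353 from LEMMA Z. -/
theorem bg14_1353 (hG : IsMinSimpleOddOrder G)
    (hZ : ∀ (M E P X : Subgroup G) (p s : ℕ), IsCoatom M → IsComplIn E (sigmaCore M) M →
      p ∈ tau1 M → P ≤ E → Nat.card P = p → sigmaCore M ⊓ centralizer (P : Set G) ≠ ⊥ →
      s ∈ tau2 M → X ≤ E → Nat.card X = s → X ≤ centralizer (P : Set G) → False)
    {M K U : Subgroup G} (hM : IsCoatom M) (hKU : IsSigmaDecomposition M K U) :
    ∀ k ∈ K, k ≠ 1 → U ⊓ centralizer ({k} : Set G) = ⊥ := by
  intro k hk hk1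
  have hK1 : K ≠ ⊥ := by
    intro h
    rw [h] at hk
    exact hk1 (Subgroup.mem_bot.mp hk)
  have h54 := (bg14_1354 hG hZ hM hKU.cyclic hKU.hall).2 hK1 k hk hk1
  rw [eq_bot_iff, ← hKU.compl.2.2.1]
  intro u hu
  refine Subgroup.mem_inf.mpr ⟨(Subgroup.mem_inf.mp hu).1, ?_⟩
  have h1 : u ∈ M ⊓ centralizer ({k} : Set G) :=
    Subgroup.mem_inf.mpr ⟨hKU.compl.1 (Subgroup.mem_inf.mp hu).1, (Subgroup.mem_inf.mp hu).2⟩
  rw [h54] at h1
  exact (sup_le_sup_left inf_le_left K) h1

end Cfsg.Agent.Helper1
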