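/-
helper1: CALL S1366 (helper2, B&G Theorem 14.7), piece KAP (double): `bg147_mem_kappa`.
-/
import Cfsg.Agent.Helper2.BG147Defs
import Cfsg.Agent.Helper22.BG10d
import Cfsg.Agent.Helper20.BG13P4
import Cfsg.Agent.Helper35.SZ
import Cfsg.Agent.Helper23.BG14U1
import Cfsg.Agent.S1420
import Cfsg.Agent.S1403

set_option autoImplicit false

namespace Cfsg.Agent.Helper1

open Cfsg Subgroup
open scoped Pointwise

universe u

variable {G : Type u} [Group G] [Finite G]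

/-- A2. A subgroup `Y ≤ L` of prime order `t ∉ σ(L)` with `C_{L_σ}(Y) ≠ 1` whose centralizer
lies in a maximal subgroup other than `L` has `t ∈ κ(L)`. -/
theorem bg147_mem_kappa (hG : IsMinSimpleOddOrder G) {L Y : Subgroup G} {t : ℕ}
    (hL : IsCoatom L) (ht : t.Prime) (htσ : t ∉ sigma L) (hYL : Y ≤ L) (hY : Nat.card Y = t)
    (hne : sigmaCore L ⊓ centralizer (Y : Set G) ≠ ⊥)
    (hnu : ∃ H : Subgroup G, IsCoatom H ∧ centralizer (Y : Set G) ≤ H ∧ H ≠ L) :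
    t ∈ kappa L := by
  classical
  have hU : Cfsg.Agent.Helper22.BGUniq G :=
    fun K hK h1 h2 => Cfsg.Agent.S1403.result hG K hK h1 h2
  haveI := Fact.mk ht
  -- a generator of `Y`
  have hY1 : Y ≠ ⊥ := by
    intro h0
    rw [h0, Subgroup.card_bot] at hY
    exact ht.one_lt.ne hY
  obtain ⟨y₀, hy₀⟩ := Subgroup.ne_bot_iff_exists_ne_one.mp hY1
  obtain ⟨y, hyY, hy1⟩ : ∃ y : G, y ∈ Y ∧ y ≠ 1 := ⟨y₀, y₀.2, fun e => hy₀ (Subtype.ext e)⟩
  have hord : orderOf y = t := by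
    have h1 : orderOf y ∣ t := by
      rw [← hY]
      have h2 := orderOf_dvd_natCard (⟨y, hyY⟩ : Y)
      rwa [Subgroup.orderOf_mk] at h2
    rcases (Nat.dvd_prime ht).mp h1 with h | h
    · exact absurd (orderOf_eq_one_iff.mp h) hy1
    · exact h
  have hYz : zpowers y = Y := by
    apply Subgroup.eq_of_le_of_card_ge (zpowers_le.mpr hyY)
    rw [Nat.card_zpowers, hord, hY]
  have hcent : centralizer (Y : Set G) = centralizer ({y} : Set G) := by
    rw [← hYz]; exact Cfsg.Agent.Helper22.bg10_centralizer_zpowers y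
  -- a non-identity fixed point in the `σ`-core
  obtain ⟨z₀, hz₀⟩ := Subgroup.ne_bot_iff_exists_ne_one.mp hne
  obtain ⟨z, hzmem, hz1⟩ : ∃ z : G, z ∈ sigmaCore L ⊓ centralizer (Y : Set G) ∧ z ≠ 1 :=
    ⟨z₀, z₀.2, fun e => hz₀ (Subtype.ext e)⟩
  have hzy : y * z = z * y := Subgroup.mem_centralizer_iff.mp hzmem.2 y hyY
  have htL : t ∣ Nat.card L := by
    rw [← hY]; exact Subgroup.card_dvd_of_le hYL
  have hodd : t ≠ 2 := by
    intro h2
    have h3 : t ∣ Nat.card G := htL.trans (Subgroup.card_subgroup_dvd_card L)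
    rw [h2] at h3
    exact (Nat.not_even_iff_odd.mpr hG.1) (even_iff_two_dvd.mpr h3)
  have hr2 : PRankLE t 2 L := by
    apply Cfsg.Agent.Helper22.bg10_pRank_of_not_alpha L t ht
    intro hα
    exact htσ (Cfsg.Agent.Helper22.bg10_alpha_sub_sigma hG hU hL hα)
  have hr1 : PRankLE t 1 L := by
    by_contra hr1
    have htau : t ∈ tau2 L := ⟨ht, htσ, hr2, hr1⟩
    have hcop : (Nat.card (⊥ : Subgroup G)).Coprime (Nat.card (sigmaCore L)) := by
      rw [Subgroup.card_bot]; exact Nat.coprime_one_left _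
    obtain ⟨E, hE, -⟩ :=
      Cfsg.Agent.Helper20.bg13_exists_compl_ge hG hU hL (K := ⊥) bot_le hcop
    have h20 := (Cfsg.Agent.S1420.result hG L hL E hE).2.2.2 y (hYL hyY) hy1
      (by
        intro p hp hpd
        rw [hord] at hpd
        rw [(Nat.prime_dvd_prime_iff_eq hp ht).mp hpd]
        exact htau)
      ⟨hYL hyY, z, hzmem.1, hz1, hzy⟩
    obtain ⟨H, hH, hYH, hHL⟩ := hnu
    exact hHL (h20.2 H hH (hcent ▸ hYH))
  refine ⟨ht, htL, htσ, fun P =>
    ⟨Cfsg.Agent.Helper49.isCyclic_sylow_of_pRankLE_one hodd hr1 P, ?_⟩⟩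
  -- conjugate `Y` into `P`
  have hYp : IsPGroup t (Y.subgroupOf L) := by
    apply IsPGroup.of_card (n := 1)
    rw [pow_one, Cfsg.Agent.Helper35.card_subgroupOf_of_le hYL, hY]
  obtain ⟨Q, hQ⟩ := hYp.exists_le_sylow
  obtain ⟨g, hg⟩ := MulAction.exists_smul_eq L Q P
  have hyQ : (⟨y, hYL hyY⟩ : L) ∈ (Q : Subgroup L) := hQ (Subgroup.mem_subgroupOf.mpr hyY)
  have hxP : g * ⟨y, hYL hyY⟩ * g⁻¹ ∈ (P : Subgroup L) := by
    have h1 : (MulAut.conj g) • (⟨y, hYL hyY⟩ : L) ∈ (MulAut.conj g) • (Q : Subgroup L) :=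
      Subgroup.smul_mem_pointwise_smul _ _ _ hyQ
    rw [← Sylow.coe_subgroup_smul, hg] at h1
    simpa [MulAut.smul_def] using h1
  have hgN : (g : G) ∈ normalizer ((sigmaCore L : Subgroup G) : Set G) :=
    Cfsg.Agent.Helper23.le_normalizer_piCoreOf (sigma L) L g.2
  have hconj : ∀ a b : G, (g : G) * a * (g : G)⁻¹ * ((g : G) * b * (g : G)⁻¹) =
      (g : G) * (a * b) * (g : G)⁻¹ := by
    intro a b; group
  refine ⟨g * ⟨y, hYL hyY⟩ * g⁻¹, hxP, ?_, (g : G) * z * (g : G)⁻¹,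
    (mem_normalizer_iff.mp hgN z).mp hzmem.1, ?_, ?_⟩
  · intro h
    rw [conj_eq_one_iff] at h
    exact hy1 (Subtype.ext_iff.mp h)
  · intro h
    rw [conj_eq_one_iff] at h
    exact hz1 h
  · show (g : G) * y * (g : G)⁻¹ * ((g : G) * z * (g : G)⁻¹) =
      (g : G) * z * (g : G)⁻¹ * ((g : G) * y * (g : G)⁻¹)
    rw [hconj, hconj, hzy]

end Cfsg.Agent.Helper1
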