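/-
helper1: CALL S1366 (helper2, B&G Theorem 14.7), piece PC in "core" form: the partner relation
`BGPair M K L K₁` from the conclusions of pieces PA and PB (taken as hypotheses).
-/
import Cfsg.Agent.Helper2.BG147Defs
import Cfsg.Agent.Helper68.BG14R30
import Cfsg.Agent.Helper24.BG13V
import Cfsg.Agent.Helper23.BG14U1
import Cfsg.Agent.Helper35.SZ
import Cfsg.Agent.S1352
import Cfsg.Agent.S3977

set_option autoImplicit false

namespace Cfsg.Agent.Helper1

open Cfsg Subgroup Cfsg.Agent.Helper2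

universe u

variable {G : Type u} [Group G] [Finite G]

omit [Finite G] in
/-- Subgroups of the same order of a finite cyclic subgroup are equal. -/
theorem bg147_eq_of_card_eq {K A B : Subgroup G} [Finite K] (hKc : IsCyclic K) (hA : A ≤ K)
    (hB : B ≤ K) (h : Nat.card A = Nat.card B) : A = B := by
  have h1 : A.subgroupOf K = B.subgroupOf K := by
    apply Cfsg.Agent.S3977.eq_of_card_eq_of_isCyclic
    rw [Cfsg.Agent.Helper35.card_subgroupOf_of_le hA, Cfsg.Agent.Helper35.card_subgroupOf_of_le hB,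
      h]
  apply le_antisymm
  · intro a ha
    have h2 : (⟨a, hA ha⟩ : K) ∈ A.subgroupOf K := Subgroup.mem_subgroupOf.mpr ha
    rw [h1] at h2
    exact Subgroup.mem_subgroupOf.mp h2
  · intro b hb
    have h2 : (⟨b, hB hb⟩ : K) ∈ B.subgroupOf K := Subgroup.mem_subgroupOf.mpr hb
    rw [← h1] at h2
    exact Subgroup.mem_subgroupOf.mp h2

/-- PC (core): the partner relation from the conclusions of PA and PB. -/
theorem bg147_pc_of (hG : IsMinSimpleOddOrder G) (hcyc : Cyc51 G) {M K X L K₁ : Subgroup G}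
    (hM : IsCoatom M) (hK : IsPiHallOf (kappa M) K M) (hK1 : K ≠ ⊥) (hXK : X ≤ K)
    (hXp : (Nat.card X).Prime) (hL : IsCoatom L)
    (hK₁ : IsPiHallOf (kappa L) K₁ L)
    (hle : sigmaCore M ⊓ centralizer (K : Set G) ≤ K₁)
    (hPA : X ≤ sigmaCore L ∧ (∀ g : G, L ≠ M.map (MulAut.conj g).toMonoidHom) ∧ K ≤ L ∧
      sigmaCore M ⊓ centralizer (K : Set G) ≤ L ∧
      sigmaCore M ⊓ L = sigmaCore M ⊓ centralizer (K : Set G))
    (hPB : K₁ ≤ M ∧ sigmaCore L ⊓ M = sigmaCore L ⊓ centralizer (K₁ : Set G) ∧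
      X ≤ sigmaCore L ⊓ centralizer (K₁ : Set G) ∧
      sigmaCore L ⊓ centralizer (K₁ : Set G) ≤ K) : BGPair M K L K₁ := by
  classical
  obtain ⟨hXσ, hnc, hKL, hKsL, -⟩ := hPA
  obtain ⟨hK₁M, hinfL, hXK₁s, hK₁sK⟩ := hPB
  have hKc : IsCyclic K := hcyc M K hM hK
  obtain ⟨⟨U, hKU⟩, -⟩ := Cfsg.Agent.S1352.result hG M hM K hKc hK
  obtain ⟨-, -, -, hKs_ne, h54, -⟩ := Cfsg.Agent.Helper23.bg14_pkg hG hM hKU hK1
  have hK₁1 : K₁ ≠ ⊥ := by
    intro h0
    apply hKs_ne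
    rw [eq_bot_iff, ← h0]
    exact hle
  have hK₁c : IsCyclic K₁ := hcyc L K₁ hL hK₁
  obtain ⟨⟨U₁, hKU₁⟩, -⟩ := Cfsg.Agent.S1352.result hG L hL K₁ hK₁c hK₁
  obtain ⟨-, -, -, -, h54', -⟩ := Cfsg.Agent.Helper23.bg14_pkg hG hL hKU₁ hK₁1
  have hσM : sigmaCore M ≤ M := Cfsg.Agent.Helper23.piCoreOf_le (sigma M) M
  -- a non-identity element of `X`
  have hX1 : X ≠ ⊥ := by
    intro h0
    rw [h0, Subgroup.card_bot] at hXp
    exact Nat.not_prime_one hXp
  obtain ⟨x₀, hx₀⟩ := (Subgroup.ne_bot_iff_exists_ne_one.mp hX1)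
  have hx₀X : (x₀ : G) ∈ X := x₀.2
  have hx₀1 : (x₀ : G) ≠ 1 := fun e => hx₀ (Subtype.ext e)
  -- a non-identity element of `K*`
  obtain ⟨y₀, hy₀⟩ := (Subgroup.ne_bot_iff_exists_ne_one.mp hKs_ne)
  have hy₀K : (y₀ : G) ∈ sigmaCore M ⊓ centralizer (K : Set G) := y₀.2
  have hy₀1 : (y₀ : G) ≠ 1 := fun e => hy₀ (Subtype.ext e)
  -- `K₁ ≤ Z`
  have hlez : K₁ ≤ K ⊔ (sigmaCore M ⊓ centralizer (K : Set G)) := by
    rw [← h54 (x₀ : G) (hXK hx₀X) hx₀1]
    intro k hk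
    refine Subgroup.mem_inf.mpr ⟨hK₁M hk, ?_⟩
    rw [Subgroup.mem_centralizer_iff]
    intro z hz
    rw [Set.mem_singleton_iff] at hz
    subst hz
    have h1 : (x₀ : G) ∈ centralizer (K₁ : Set G) := (hXK₁s hx₀X).2
    exact ((Subgroup.mem_centralizer_iff.mp h1) k hk).symm
  -- `K ≤ K₁ K₁*`
  have hKle : K ≤ K₁ ⊔ (sigmaCore L ⊓ centralizer (K₁ : Set G)) := by
    rw [← h54' (y₀ : G) (hle hy₀K) hy₀1]
    intro k hk
    refine Subgroup.mem_inf.mpr ⟨hKL hk, ?_⟩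
    rw [Subgroup.mem_centralizer_iff]
    intro z hz
    rw [Set.mem_singleton_iff] at hz
    subst hz
    exact ((Subgroup.mem_centralizer_iff.mp hy₀K.2) k hk).symm
  have huse : Cfsg.Agent.Helper68.BGUse1 G :=
    fun M P H p hM hpp hpσ hp1 hPM hP hD hH hNP =>
      Cfsg.Agent.Helper24.bg13u_over_sigma hG hM hpp hpσ hp1 hPM hP hD hH hNP
  have h30 := ((Cfsg.Agent.Helper68.bg14_1430_of_cyclic hG huse M hM K hK hK1 hKc).2.2 X hXK
    hXp).1
  refine ⟨hL, hnc, hK₁, hle, hlez, hK₁sK, ?_, ?_⟩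
  · exact le_antisymm (sup_le hlez (hK₁sK.trans le_sup_left))
      (sup_le hKle (hle.trans le_sup_left))
  · apply le_antisymm
    · rintro d ⟨hdM, hdL⟩
      rw [← h30]
      refine Subgroup.mem_inf.mpr ⟨hdM, ?_⟩
      -- conjugation by elements of `M ⊓ L` maps `X` into `L_σ ⊓ M ≤ K`
      have hconj : ∀ d ∈ M ⊓ L, ∀ z ∈ X, d * z * d⁻¹ ∈ X := by
        rintro d ⟨hdM, hdL⟩ z hz
        have hXle : X.map (MulAut.conj d).toMonoidHom ≤ K := by
          rintro _ ⟨w, hw, rfl⟩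
          apply hK₁sK
          rw [← hinfL]
          have hw' : w ∈ sigmaCore L ⊓ M := by rw [hinfL]; exact hXK₁s hw
          have hdN : d ∈ normalizer ((sigmaCore L : Subgroup G) : Set G) :=
            Cfsg.Agent.Helper23.le_normalizer_piCoreOf (sigma L) L hdL
          exact ⟨(mem_normalizer_iff.mp hdN w).mp hw'.1,
            M.mul_mem (M.mul_mem hdM hw'.2) (M.inv_mem hdM)⟩
        have hcard : Nat.card (X.map (MulAut.conj d).toMonoidHom) = Nat.card X :=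
          Subgroup.card_map_of_injective (MulEquiv.injective _)
        have heq := bg147_eq_of_card_eq hKc hXle hXK hcard
        rw [← heq]
        exact ⟨z, hz, rfl⟩
      rw [mem_normalizer_iff]
      intro z
      refine ⟨hconj d ⟨hdM, hdL⟩ z, fun h => ?_⟩
      have h1 := hconj d⁻¹ ⟨M.inv_mem hdM, L.inv_mem hdL⟩ _ h
      have h2 : d⁻¹ * (d * z * d⁻¹) * d⁻¹⁻¹ = z := by group
      rwa [h2] at h1
    · exact sup_le (le_inf hK.1 hKL) (le_inf (inf_le_left.trans hσM) hKsL)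

end Cfsg.Agent.Helper1
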