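/-
helper1: CALL S1357, piece BETA (double).  Every prime dividing `|[M_F, D]|`, `D ≤ M_σ` of order
prime to `|M_F|`, lies in `β(M)`.
-/
import Mathlib
import Cfsg.Agent.S1414
import Cfsg.Agent.Helper23.Trans
import Cfsg.Agent.Helper23.FittingHall
import Cfsg.Agent.Helper35.Coprime
import Cfsg.Agent.Helper54.BG14T2

set_option autoImplicit false

namespace Cfsg.Agent.Helper1

open Cfsg Subgroup
open scoped commutatorElement

universe u

variable {G : Type u} [Group G] [Finite G]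

/-- BETA. -/
theorem bg152_beta (hG : IsMinSimpleOddOrder G) {M D : Subgroup G} (hM : IsCoatom M)
    (hD : D ≤ sigmaCore M) (hcop : (Nat.card (fittingHallOf M)).Coprime (Nat.card D)) {q : ℕ}
    (hq : q.Prime) (hqT : q ∣ Nat.card ↥⁅fittingHallOf M, D⁆) : q ∈ beta M := by
  by_contra hqβ
  have hσM : sigmaCore M ≤ M := Cfsg.Agent.Helper23.piCoreOf_le _ _
  have hFσ : fittingHallOf M ≤ sigmaCore M := Cfsg.Agent.Helper54.bg14t_fittingHall_le hG hM
  have hFn : M ≤ normalizer (fittingHallOf M : Set G) := by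
    rw [Subgroup.le_normalizer_iff]
    rintro x hx _ ⟨y, hy, rfl⟩
    exact ⟨⟨x, hx⟩ * y * ⟨x, hx⟩⁻¹, (fittingHall_normal ↥M).conj_mem y hy ⟨x, hx⟩, rfl⟩
  have hTF : ⁅fittingHallOf M, D⁆ ≤ fittingHallOf M :=
    Cfsg.Agent.Helper35.commutator_le_of_le_normalizer ((hD.trans hσM).trans hFn)
  have hqF : q ∣ Nat.card (fittingHallOf M) := hqT.trans (Subgroup.card_dvd_of_le hTF)
  have hqM : q ∣ Nat.card M := hqF.trans (Subgroup.card_dvd_of_le (hFσ.trans hσM))
  have hqD : ¬ q ∣ Nat.card D := fun h =>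
    hq.one_lt.ne' (Nat.eq_one_of_dvd_coprimes hcop hqF h)
  obtain ⟨P, N, hNn, hNc⟩ := ((Cfsg.Agent.S1414.result hG M hM).2.2.2.2 q hq hqM hqβ).2.1
  haveI := hNn
  haveI := Fact.mk hq
  have hNidx : N.index = Nat.card (P : Subgroup ↥(sigmaCore M)) := hNc.symm.index_eq_card
  have hDN : ∀ d (hd : d ∈ D), (⟨d, hD hd⟩ : ↥(sigmaCore M)) ∈ N := by
    intro d hd
    apply Cfsg.Agent.Helper23.mem_of_coprime_orderOf_index N
    rw [hNidx]
    obtain ⟨n, hn⟩ := (P.isPGroup').exists_card_eq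
    rw [hn]
    apply Nat.Coprime.pow_right
    rw [Subgroup.orderOf_mk]
    have h1 : orderOf d ∣ Nat.card D := Subgroup.orderOf_dvd_natCard D hd
    exact Nat.Coprime.coprime_dvd_left h1
      (Nat.coprime_comm.mp ((Nat.Prime.coprime_iff_not_dvd hq).mpr hqD))
  have hTN : ⁅fittingHallOf M, D⁆ ≤ N.map (sigmaCore M).subtype := by
    rw [Subgroup.commutator_le]
    intro f hf d hd
    refine ⟨⁅(⟨f, hFσ hf⟩ : ↥(sigmaCore M)), ⟨d, hD hd⟩⁆, ?_, rfl⟩
    rw [SetLike.mem_coe, commutatorElement_def]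
    exact N.mul_mem (hNn.conj_mem _ (hDN d hd) _) (N.inv_mem (hDN d hd))
  have hqN : ¬ q ∣ Nat.card N := by
    have h1 : (P : Subgroup ↥(sigmaCore M)).index = Nat.card N := hNc.index_eq_card
    rw [← h1]
    exact P.not_dvd_index
  apply hqN
  have h2 : Nat.card ↥(N.map (sigmaCore M).subtype) = Nat.card N :=
    Subgroup.card_map_of_injective (Subgroup.subtype_injective _)
  rw [← h2]
  exact hqT.trans (Subgroup.card_dvd_of_le hTN)

end Cfsg.Agent.Helper1
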