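/-
helper1: wrapper lemmas for row S1351 (B&G Theorem 14.1 / 13.x: every Hall `κ(M)`-subgroup is
cyclic): existence of Hall subgroups of a maximal subgroup, cyclicity when `κ(M) ⊆ τ₁(M)`, and
the reduction of S1351 to the non-existence of a `τ₃`-prime with a non-regular subgroup.
-/
import Cfsg.Agent.Helper1.Hall
import Cfsg.Agent.Helper35.HallCoprime
import Cfsg.Agent.Helper23.Uniq
import Cfsg.Agent.Helper47.BG14SET4
import Cfsg.Agent.Helper47.BG14RK
import Cfsg.Prelude.Def_OddOrder

set_option autoImplicit false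

namespace Cfsg.Agent.Helper1

open Cfsg Subgroup
open scoped commutatorElement

universe u

variable {G : Type u} [Group G] [Finite G]

/-- A maximal subgroup of a minimal simple group of odd order has Hall `π`-subgroups. -/
theorem bgs_exists_hall (hG : IsMinSimpleOddOrder G) {M : Subgroup G} (hM : IsCoatom M)
    (π : Set ℕ) : ∃ K : Subgroup G, IsPiHallOf π K M := by
  classical
  have : Group.IsSolvable M := Cfsg.Agent.Helper23.uq_isSolvable hG hM.1
  obtain ⟨m, n, hmn, hcop, hm, hn⟩ :=
    Cfsg.Agent.Helper35.exists_pi_factorization π (Nat.card M) Nat.card_pos.ne'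
  obtain ⟨H, hH⟩ := Cfsg.Agent.Helper1.hall_exists_aux (Nat.card M) M m n rfl hmn hcop
  refine ⟨H.map M.subtype, ?_⟩
  rw [Cfsg.Agent.Helper35.isPiHallOf_iff_card hmn hm hn]
  refine ⟨Subgroup.map_subtype_le H, ?_⟩
  rw [← hH]
  exact Nat.card_congr (Subgroup.equivMapOfInjective H M.subtype M.subtype_injective).symm.toEquiv

/-- A Hall `κ(M)`-subgroup is cyclic as soon as `κ(M) ⊆ τ₁(M)`. -/
theorem bgs_cyclic_of_tau1 {M K : Subgroup G} (hK : IsPiHallOf (kappa M) K M)
    (h1 : ∀ q ∈ kappa M, q ∈ tau1 M) : IsCyclic K := by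
  classical
  have hKM : K ≤ M := hK.1
  -- `K` is a Z-group
  have hZ : IsZGroup K := by
    refine ⟨fun p hp P => ?_⟩
    have := Fact.mk hp
    by_cases hd : p ∣ Nat.card K
    · have hpκ : p ∈ kappa M := hK.2.1 p hp hd
      -- the image of `P` in `M`
      have hP' : IsPGroup p ((P : Subgroup K).map (Subgroup.inclusion hKM)) := P.2.map _
      obtain ⟨Q, hQ⟩ := hP'.exists_le_sylow
      have hQc : IsCyclic Q := (hpκ.2.2.2 Q).1
      let f : (P : Subgroup K) →* (Q : Subgroup M) :=
        { toFun := fun x => ⟨Subgroup.inclusion hKM x.1, hQ (Subgroup.mem_map_of_mem _ x.2)⟩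
          map_one' := by ext; simp
          map_mul' := fun a b => by ext; simp }
      have hf : Function.Injective f := by
        intro a b hab
        have h2 : (Subgroup.inclusion hKM a.1 : M) = Subgroup.inclusion hKM b.1 :=
          congrArg Subtype.val hab
        exact Subtype.ext (Subgroup.inclusion_injective hKM h2)
      exact isCyclic_of_injective f hf
    · have hbot : (P : Subgroup K) = ⊥ := by
        rw [← Subgroup.card_eq_one]
        obtain ⟨n, hn⟩ := IsPGroup.iff_card.mp P.2
        have h2 : n = 0 := by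
          by_contra h0
          apply hd
          have h3 : p ∣ Nat.card (P : Subgroup K) := by rw [hn]; exact dvd_pow_self p h0
          exact h3.trans (Subgroup.card_subgroup_dvd_card _)
        rw [hn, h2, pow_zero]
      have hsub : Subsingleton (P : Subgroup K) := by
        rw [hbot]; infer_instance
      infer_instance
  -- `K` is commutative
  have hcomm : ∀ a b : K, a * b = b * a := by
    intro a b
    have hc : (a : G) * b * (a : G)⁻¹ * (b : G)⁻¹ = 1 := by
      by_contra hne
      set c : G := (a : G) * b * (a : G)⁻¹ * (b : G)⁻¹ with hcdef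
      have hcK : c ∈ K := K.mul_mem (K.mul_mem (K.mul_mem a.2 b.2) (K.inv_mem a.2)) (K.inv_mem b.2)
      have hn1 : orderOf c ≠ 1 := fun h => hne (orderOf_eq_one_iff.mp h)
      have hq := Nat.minFac_prime hn1
      have hqd := Nat.minFac_dvd (orderOf c)
      have hqK : (orderOf c).minFac ∣ Nat.card K := hqd.trans (by
        have h := orderOf_dvd_natCard (⟨c, hcK⟩ : K)
        rwa [Subgroup.orderOf_mk] at h)
      have hqτ := h1 _ (hK.2.1 _ hq hqK)
      apply hqτ.2.2.2.1
      -- `c` lies in the commutator subgroup of `M`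
      have hcM : c ∈ ⁅M, M⁆ := by
        have h2 : c = ⁅(a : G), (b : G)⁆ := by
          rw [commutatorElement_def]
        rw [h2]
        exact Subgroup.commutator_mem_commutator (hKM a.2) (hKM b.2)
      have h3 : orderOf c ∣ Nat.card ↥⁅M, M⁆ := by
        have h := orderOf_dvd_natCard (⟨c, hcM⟩ : ↥⁅M, M⁆)
        rwa [Subgroup.orderOf_mk] at h
      exact hqd.trans h3
    apply Subtype.ext
    have h4 : (a : G) * b = (a : G) * b * (a : G)⁻¹ * (b : G)⁻¹ * (b * a) := by group
    rw [Subgroup.coe_mul, Subgroup.coe_mul, h4, hc, one_mul]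
  have hnil : Group.IsNilpotent K := by
    let _ : CommGroup K := { (inferInstance : Group K) with mul_comm := hcomm }
    exact CommGroup.isNilpotent
  infer_instance

/-- **Reduction of row S1351**: if no maximal subgroup `M` has a subgroup `P` of prime order
`p ∈ τ₃(M)` with `C_{M_σ}(P) ≠ 1`, then every maximal subgroup has a Hall `κ(M)`-subgroup and
all of them are cyclic. -/
theorem bgs_1351_of_star (hG : IsMinSimpleOddOrder G)
    (hstar : ∀ (M P : Subgroup G) (p : ℕ), IsCoatom M → p ∈ tau3 M → P ≤ M → Nat.card P = p →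
      sigmaCore M ⊓ centralizer (P : Set G) ≠ ⊥ → False)
    (M : Subgroup G) (hM : IsCoatom M) :
    (∃ K : Subgroup G, IsPiHallOf (kappa M) K M) ∧
      ∀ K : Subgroup G, IsPiHallOf (kappa M) K M → IsCyclic K := by
  classical
  refine ⟨bgs_exists_hall hG hM _, fun K hK => bgs_cyclic_of_tau1 hK ?_⟩
  intro q hq
  have hqp : q.Prime := hq.1
  have := Fact.mk hqp
  have hr : PRankLE q 1 ↥M := Cfsg.Agent.Helper47.bg14_rank_of_kappa hq
  refine ⟨hqp, hq.2.2.1, hq.2.1, ?_, hr⟩
  intro hd
  have hq3 : q ∈ tau3 M := ⟨hqp, hq.2.2.1, hd, hr⟩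
  obtain ⟨Q⟩ : Nonempty (Sylow q ↥M) := Sylow.nonempty
  have hQM : (Q : Subgroup ↥M).map M.subtype ≤ M := Subgroup.map_subtype_le _
  have hQq : IsPGroup q ((Q : Subgroup ↥M).map M.subtype) := Q.2.map _
  have hQi : ¬ q ∣ ((Q : Subgroup ↥M).map M.subtype).relIndex M := by
    have h2 : ((Q : Subgroup ↥M).map M.subtype).subgroupOf M = (Q : Subgroup ↥M) :=
      Subgroup.comap_map_eq_self_of_injective M.subtype_injective _
    rw [Subgroup.relIndex, h2]
    exact Q.not_dvd_index
  obtain ⟨Q₁, hQ₁, hcard, hne⟩ := Cfsg.Agent.Helper47.bg14_kappa_cent hq hQM hQq hQi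
  exact hstar M Q₁ q hM hq3 (hQ₁.trans hQM) hcard hne

end Cfsg.Agent.Helper1
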