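/-
helper1: CALL S1357, piece DL (double).  A Hall `π(M_F)'`-subgroup of `M` containing `K`.
-/
import Mathlib
import Cfsg.Agent.Helper22.BG157HK
import Cfsg.Agent.Helper23.Trans
import Cfsg.Agent.Helper54.BG14T2

set_option autoImplicit false

namespace Cfsg.Agent.Helper1

open Cfsg Subgroup

universe u

variable {G : Type u} [Group G] [Finite G]

/-- DL. -/
theorem bg152_exists_L (hG : IsMinSimpleOddOrder G) {M K U : Subgroup G} (hM : IsCoatom M)
    (hKU : IsSigmaDecomposition M K U) :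
    ∃ L : Subgroup G,
      IsPiHallOf {p | p.Prime ∧ ¬ p ∣ Nat.card (fittingHallOf M)} L M ∧ K ≤ L := by
  refine Cfsg.Agent.Helper22.bg157_hall_contains hG hM _ hKU.hall.1 ?_
  intro p hp hpK
  refine ⟨hp, fun hpF => ?_⟩
  have hκ := hKU.hall.2.1 p hp hpK
  have hσ : p ∈ sigma M := by
    apply Cfsg.Agent.Helper23.mem_of_dvd_card_piCoreOf (sigma M) M hp
    exact hpF.trans (Subgroup.card_dvd_of_le (Cfsg.Agent.Helper54.bg14t_fittingHall_le hG hM))
  exact hκ.2.2.1 hσ

end Cfsg.Agent.Helper1
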