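/-
helper1: B&G "tau3-nonregular" configuration (STAR), the counting kill (part (D) of the S1351
plan): a (STAR) family with two distinct members does not exist.  Assembly of the pieces of
CALL S1351D (skeleton tools/calls/S1351DSkel.lean.txt).
-/
import Cfsg.Agent.Helper1.BGSDefs
import Cfsg.Agent.Helper47.BGSD1
import Cfsg.Agent.Helper2.BGSD2
import Cfsg.Agent.Helper24.BGSD3
import Cfsg.Agent.Helper24.BGSD3b
import Cfsg.Agent.Helper10.BGSD4
import Cfsg.Agent.Helper2.BGSD5
import Cfsg.Agent.Helper91.BGSD6a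
import Cfsg.Agent.Helper91.BGSD6b
import Cfsg.Agent.Helper24.BGSD7
import Cfsg.Agent.Helper24.BGSD8
import Cfsg.Agent.Helper10.BGSD9
import Cfsg.Agent.Helper59.BGSD10

set_option autoImplicit false

namespace Cfsg.Agent.Helper1

open Cfsg Subgroup

universe u v

variable {G : Type u} [Group G]

/-- **(D)**: a (STAR) family with two distinct members does not exist. -/
theorem star_false [Finite G] (hG : IsMinSimpleOddOrder G) {ι : Type v} [Finite ι]
    {M : ι → Subgroup G} {W : Subgroup G} (h : StarFamily M W) (j k : ι) (hjk : j ≠ k) :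
    False := by
  classical
  have := Fintype.ofFinite ι
  have hTT : ∀ a b : ι, a ≠ b → Disjoint (starTilde (M a)) (starTilde (M b)) :=
    fun a b hab => Cfsg.Agent.Helper47.bgs_tilde_disj hG (h.coatom a) (h.coatom b)
      (h.sigma_disj a b hab)
  have hub := Cfsg.Agent.Helper59.bgs_union_bound (fun i => starTilde (M i)) (starConj M W) hTT
    (fun i => Cfsg.Agent.Helper2.bgs_tilde_hat_disj hG h i)
    (fun i => Cfsg.Agent.Helper91.bgs_one_not_mem_tilde hG (h.coatom i))
    (Cfsg.Agent.Helper91.bgs_one_not_mem_conj M W)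
  have hconj := Cfsg.Agent.Helper10.bgs_card_conj W (starHat M W)
    (fun u hu a ha => Cfsg.Agent.Helper24.bgs_hat_inv M W hu ha)
    (fun a ha c hc => Cfsg.Agent.Helper24.bgs_hat_ti hG h ha hc)
  have hT : ∀ i, (starTilde (M i)).ncard = (Nat.card (sigmaCore (M i)) - 1) * (M i).index :=
    fun i => Cfsg.Agent.Helper54.bg14t_1377 hG (M i) (h.coatom i)
  have hWpos : 0 < Nat.card W := Nat.card_pos
  refine Cfsg.Agent.Helper10.bgs_arith j k hjk (Nat.card G) (Nat.card W) (starConj M W).ncard
    (starHat M W).ncard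
    (fun i => Nat.card (sigmaCore (M i))) (fun i => Nat.card ↥(sigmaCore (M i) ⊓ W))
    (fun i => Nat.card (M i)) (fun i => (M i).index) Nat.card_pos hWpos
    (fun i => Nat.card_pos) (fun i => Nat.card_pos)
    (fun i => by rw [mul_comm]; exact Subgroup.card_mul_index (M i))
    (fun i => ?_) (fun i => Cfsg.Agent.Helper24.bgs_three hG h i) hconj
    (Cfsg.Agent.Helper2.bgs_card_hat hG h j k hjk) ?_
  · by_cases hi : i = j
    · subst hi; exact Cfsg.Agent.Helper24.bgs_card_M h i k hjk
    · exact Cfsg.Agent.Helper24.bgs_card_M h i j hi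
  · simp only [hT] at hub
    exact hub

end Cfsg.Agent.Helper1
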