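/-
helper1: CALL S1357, pieces FPF and PR (doubles).  `K` acts fixed-point-freely on a complement `D`
of `M_F` in `M_σ`, and with prime action on every `T ≤ M_σ`.
-/
import Mathlib
import Cfsg.Agent.S1364
import Cfsg.Agent.S1430

set_option autoImplicit false

namespace Cfsg.Agent.Helper1

open Cfsg Subgroup

universe u

variable {G : Type u} [Group G] [Finite G]

/-- FPF. -/
theorem bg152_fpf (hG : IsMinSimpleOddOrder G) {M K U D : Subgroup G} (hM : IsCoatom M)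
    (hKU : IsSigmaDecomposition M K U) (hK1 : K ≠ ⊥) (hD : D ≤ sigmaCore M)
    (hDF : D ⊓ fittingHallOf M = ⊥) :
    ∀ k ∈ K, k ≠ 1 → ∀ d ∈ D, k * d = d * k → d = 1 := by
  intro k hk hk1 d hd hkd
  have h30 := (Cfsg.Agent.S1430.result hG M hM K hKU.hall hK1).1 k hk hk1
  have h64 := (Cfsg.Agent.S1364.result hG M hM K U hKU hK1).2.2.1
  have h1 : d ∈ sigmaCore M ⊓ centralizer ({k} : Set G) := by
    refine Subgroup.mem_inf.mpr ⟨hD hd, ?_⟩
    rw [Subgroup.mem_centralizer_iff]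
    intro w hw
    rw [Set.mem_singleton_iff.mp hw]
    exact hkd
  rw [h30] at h1
  have h2 : d ∈ D ⊓ fittingHallOf M := Subgroup.mem_inf.mpr ⟨hd, h64 h1⟩
  rw [hDF] at h2
  exact Subgroup.mem_bot.mp h2

/-- PR. -/
theorem bg152_prime_action (hG : IsMinSimpleOddOrder G) {M K U T : Subgroup G} (hM : IsCoatom M)
    (hKU : IsSigmaDecomposition M K U) (hK1 : K ≠ ⊥) (hT : T ≤ sigmaCore M) :
    ∀ k ∈ K, k ≠ 1 → T ⊓ centralizer ({k} : Set G) = T ⊓ centralizer (K : Set G) := by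
  intro k hk hk1
  have h30 := (Cfsg.Agent.S1430.result hG M hM K hKU.hall hK1).1 k hk hk1
  apply le_antisymm
  · intro z hz
    have h1 : z ∈ sigmaCore M ⊓ centralizer ({k} : Set G) :=
      Subgroup.mem_inf.mpr ⟨hT (Subgroup.mem_inf.mp hz).1, (Subgroup.mem_inf.mp hz).2⟩
    rw [h30] at h1
    exact Subgroup.mem_inf.mpr ⟨(Subgroup.mem_inf.mp hz).1, (Subgroup.mem_inf.mp h1).2⟩
  · intro z hz
    have h1 : z ∈ sigmaCore M ⊓ centralizer (K : Set G) :=
      Subgroup.mem_inf.mpr ⟨hT (Subgroup.mem_inf.mp hz).1, (Subgroup.mem_inf.mp hz).2⟩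
    rw [← h30] at h1
    exact Subgroup.mem_inf.mpr ⟨(Subgroup.mem_inf.mp hz).1, (Subgroup.mem_inf.mp h1).2⟩

end Cfsg.Agent.Helper1
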