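/-
helper1: CALL S1357, piece FROB (pure).  A Frobenius group `D K` (kernel `D`, complement `K`)
acting coprimely on a solvable group `T = [T, D] ≠ 1` with prime action of `K`:
`|K|` is prime and `C_T(K) ≠ 1`.
-/
import Mathlib
import Cfsg.Agent.Helper24.BG1217
import Cfsg.Agent.Helper70.FrobAct

set_option autoImplicit false

namespace Cfsg.Agent.Helper1

open Cfsg Subgroup

universe u

/-- arithmetic of the two counting formulas -/
theorem bg152_frob_arith {n p c c₀ s t : ℕ} (hpn : p < n) (hc : 0 < c) (hc₀ : 0 < c₀)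
    (hs : 0 < s) (ht : 0 < t) (h1 : c₀ ^ n * t = c ^ n * s) (h2 : c₀ ^ p * t = c ^ p * s) :
    c₀ = c := by
  obtain ⟨m, rfl⟩ : ∃ m, n = p + m := ⟨n - p, by omega⟩
  have hm : m ≠ 0 := by omega
  rw [pow_add, pow_add] at h1
  have h3 : c₀ ^ p * c₀ ^ m * t * (c ^ p * s) = c ^ p * c ^ m * s * (c₀ ^ p * t) := by
    rw [h1, h2]
  have h4 : c₀ ^ m * (c₀ ^ p * c ^ p * s * t) = c ^ m * (c₀ ^ p * c ^ p * s * t) := by
    calc c₀ ^ m * (c₀ ^ p * c ^ p * s * t) = c₀ ^ p * c₀ ^ m * t * (c ^ p * s) := by ring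
      _ = c ^ p * c ^ m * s * (c₀ ^ p * t) := h3
      _ = c ^ m * (c₀ ^ p * c ^ p * s * t) := by ring
    
  have hpos : 0 < c₀ ^ p * c ^ p * s * t := by positivity
  have h5 : c₀ ^ m = c ^ m := Nat.eq_of_mul_eq_mul_right hpos h4
  exact Nat.pow_left_injective hm h5

/-- FROB (pure). -/
theorem bg152_frob {Γ : Type u} [Group Γ] [Finite Γ] (D K T : Subgroup Γ) (hK1 : K ≠ ⊥)
    (hKD : K ≤ normalizer (D : Set Γ))
    (hfpf : ∀ k ∈ K, k ≠ 1 → ∀ d ∈ D, k * d = d * k → d = 1)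
    (hTn : ∀ x ∈ D ⊔ K, ∀ t ∈ T, x * t * x⁻¹ ∈ T) (hsolv : Group.IsSolvable ↥T)
    (hcop : (Nat.card T).Coprime (Nat.card ↥(D ⊔ K))) (hT1 : T ≠ ⊥) (hTD : ⁅T, D⁆ = T)
    (hpr : ∀ k ∈ K, k ≠ 1 → T ⊓ centralizer ({k} : Set Γ) = T ⊓ centralizer (K : Set Γ)) :
    (Nat.card K).Prime ∧ T ⊓ centralizer (K : Set Γ) ≠ ⊥ := by
  classical
  have hUn : ∀ e ∈ K, ∀ u ∈ D, e * u * e⁻¹ ∈ D :=
    fun e he u hu => (Subgroup.mem_normalizer_iff.mp (hKD he) u).mp hu
  -- membership in the centralizer of a join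
  have hsupC : ∀ (B : Subgroup Γ) (z : Γ), z ∈ centralizer (D : Set Γ) →
      z ∈ centralizer (B : Set Γ) → z ∈ centralizer ((D ⊔ B : Subgroup Γ) : Set Γ) := by
    intro B z hzD hzB
    have h1 : D ≤ centralizer ({z} : Set Γ) := by
      intro d hd
      rw [Subgroup.mem_centralizer_iff]
      intro w hw
      rw [Set.mem_singleton_iff.mp hw]
      exact ((Subgroup.mem_centralizer_iff.mp hzD) d hd).symm
    have h2 : B ≤ centralizer ({z} : Set Γ) := by
      intro d hd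
      rw [Subgroup.mem_centralizer_iff]
      intro w hw
      rw [Set.mem_singleton_iff.mp hw]
      exact ((Subgroup.mem_centralizer_iff.mp hzB) d hd).symm
    rw [Subgroup.mem_centralizer_iff]
    intro x hx
    exact ((Subgroup.mem_centralizer_iff.mp ((sup_le h1 h2) hx)) z rfl).symm
  have hCD : ∀ B : Subgroup Γ, centralizer ((D ⊔ B : Subgroup Γ) : Set Γ) ≤
      centralizer (D : Set Γ) := fun B =>
    Subgroup.centralizer_le (SetLike.coe_subset_coe.mpr le_sup_left)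
  have hCB : ∀ B : Subgroup Γ, centralizer ((D ⊔ B : Subgroup Γ) : Set Γ) ≤
      centralizer (B : Set Γ) := fun B =>
    Subgroup.centralizer_le (SetLike.coe_subset_coe.mpr le_sup_right)
  -- the formula for `(K, T)`
  obtain ⟨hF, -⟩ := Cfsg.Agent.Helper70.frob_group_main D K T hK1 hUn hfpf hTn hsolv hcop
  have hDT : D ≤ normalizer (T : Set Γ) := by
    intro d hd
    rw [Subgroup.mem_normalizer_iff]
    intro t
    constructor
    · intro ht
      exact hTn d (le_sup_left (a := D) (b := K) hd) t ht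
    · intro ht
      have h1 := hTn d⁻¹ (le_sup_left (a := D) (b := K) (D.inv_mem hd)) _ ht
      have h2 : d⁻¹ * (d * t * d⁻¹) * d⁻¹⁻¹ = t := by group
      rwa [h2] at h1
  have hcopD : (Nat.card D).Coprime (Nat.card T) :=
    (Nat.Coprime.coprime_dvd_right (Subgroup.card_dvd_of_le le_sup_left) hcop).symm
  -- `C_T(D) ≤ T'`
  have hCT' : T ⊓ centralizer (D : Set Γ) ≤ ⁅T, T⁆ :=
    Cfsg.Agent.Helper24.bg1217_cent_le_comm hDT hcopD hTD.ge
  have hT'T : ⁅T, T⁆ ≤ T := by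
    rw [Subgroup.commutator_le]
    intro a ha b hb
    rw [commutatorElement_def]
    exact T.mul_mem (T.mul_mem (T.mul_mem ha hb) (T.inv_mem ha)) (T.inv_mem hb)
  -- `C_T(K) ≠ 1`
  have hC1 : T ⊓ centralizer (K : Set Γ) ≠ ⊥ := by
    intro hbot
    have h0 : T ⊓ centralizer ((D ⊔ K : Subgroup Γ) : Set Γ) = ⊥ := by
      rw [eq_bot_iff, ← hbot]
      exact inf_le_inf_left _ (hCB K)
    rw [h0, hbot, Subgroup.card_bot, one_pow, one_mul, one_mul] at hF
    have h1 : T ⊓ centralizer (D : Set Γ) = T :=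
      Subgroup.eq_of_le_of_card_ge inf_le_left hF.le
    have h2 : ⁅T, D⁆ = ⊥ := by
      rw [eq_bot_iff, Subgroup.commutator_le]
      intro a ha b hb
      rw [Subgroup.mem_bot, commutatorElement_eq_one_iff_commute]
      have ha' : a ∈ centralizer (D : Set Γ) := (h1.ge ha).2
      exact ((Subgroup.mem_centralizer_iff.mp ha') b hb).symm
    exact hT1 (hTD ▸ h2)
  refine ⟨?_, hC1⟩
  -- an element of prime order in `K`
  obtain ⟨x, hxK, hx1⟩ : ∃ x ∈ K, x ≠ 1 := by
    by_contra hcon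
    push Not at hcon
    exact hK1 ((Subgroup.eq_bot_iff_forall K).mpr hcon)
  have ho : orderOf x ≠ 1 := by rwa [Ne, orderOf_eq_one_iff]
  set p := (orderOf x).minFac with hpdef
  have hp : p.Prime := Nat.minFac_prime ho
  have hpd : p ∣ orderOf x := Nat.minFac_dvd _
  set y := x ^ (orderOf x / p) with hydef
  have hyp : y ^ p = 1 := by rw [hydef, ← pow_mul, Nat.div_mul_cancel hpd, pow_orderOf_eq_one]
  have hpos : 0 < orderOf x := orderOf_pos x
  have hy1 : y ≠ 1 := by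
    intro h1
    have h2 := orderOf_dvd_of_pow_eq_one h1
    have h3 : orderOf x ≤ orderOf x / p :=
      Nat.le_of_dvd (Nat.div_pos (Nat.le_of_dvd hpos hpd) hp.pos) h2
    have h4 : orderOf x / p < orderOf x := Nat.div_lt_self hpos hp.one_lt
    omega
  have hyK : y ∈ K := K.pow_mem hxK _
  haveI := Fact.mk hp
  have hoy : orderOf y = p := orderOf_eq_prime hyp hy1
  have hYK : Subgroup.zpowers y ≤ K := (Subgroup.zpowers_le).mpr hyK
  have hY1 : Subgroup.zpowers y ≠ ⊥ := by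
    intro h
    exact hy1 (Subgroup.zpowers_eq_bot.mp h)
  have hle : D ⊔ Subgroup.zpowers y ≤ D ⊔ K := sup_le_sup_left hYK D
  obtain ⟨hF', -⟩ := Cfsg.Agent.Helper70.frob_group_main D (Subgroup.zpowers y) T hY1
    (fun e he u hu => hUn e (hYK he) u hu) (fun e he hne u hu => hfpf e (hYK he) hne u hu)
    (fun x hx h hh => hTn x (hle hx) h hh) hsolv
    (Nat.Coprime.coprime_dvd_right (Subgroup.card_dvd_of_le hle) hcop)
  have hcz : Subgroup.centralizer ((Subgroup.zpowers y : Subgroup Γ) : Set Γ) =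
      Subgroup.centralizer ({y} : Set Γ) := by
    apply le_antisymm
    · exact Subgroup.centralizer_le (by
        intro z hz
        rw [Set.mem_singleton_iff.mp hz]
        exact Subgroup.mem_zpowers y)
    · intro z hz
      rw [Subgroup.mem_centralizer_iff] at hz ⊢
      intro h hh
      obtain ⟨k, rfl⟩ := Subgroup.mem_zpowers_iff.mp hh
      have hc : Commute y z := hz y rfl
      exact (hc.zpow_left k).eq
  have hTY : T ⊓ centralizer ((Subgroup.zpowers y : Subgroup Γ) : Set Γ) =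
      T ⊓ centralizer (K : Set Γ) := by rw [hcz, hpr y hyK hy1]
  have hTDY : T ⊓ centralizer ((D ⊔ Subgroup.zpowers y : Subgroup Γ) : Set Γ) =
      T ⊓ centralizer ((D ⊔ K : Subgroup Γ) : Set Γ) := by
    apply le_antisymm
    · intro z hz
      have hzK : z ∈ T ⊓ centralizer (K : Set Γ) := by
        rw [← hTY]
        exact ⟨hz.1, hCB _ hz.2⟩
      exact ⟨hz.1, hsupC K z (hCD _ hz.2) hzK.2⟩
    · exact inf_le_inf_left _
        (Subgroup.centralizer_le (SetLike.coe_subset_coe.mpr hle))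
  rw [hTY, hTDY, Nat.card_zpowers, hoy] at hF'
  -- now suppose `|K|` is not `p`
  by_contra hnp
  have hpK : p ∣ Nat.card K := by
    rw [← hoy]
    exact Subgroup.orderOf_dvd_natCard K hyK
  have hpn : p < Nat.card K := by
    have h1 : p ≤ Nat.card K := Nat.le_of_dvd Nat.card_pos hpK
    have h2 : p ≠ Nat.card K := fun e => hnp (e ▸ hp)
    omega
  have hcc : Nat.card ↥(T ⊓ centralizer ((D ⊔ K : Subgroup Γ) : Set Γ)) =
      Nat.card ↥(T ⊓ centralizer (K : Set Γ)) :=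
    bg152_frob_arith hpn Nat.card_pos Nat.card_pos Nat.card_pos Nat.card_pos hF hF'
  have hCeq : T ⊓ centralizer ((D ⊔ K : Subgroup Γ) : Set Γ) = T ⊓ centralizer (K : Set Γ) :=
    Subgroup.eq_of_le_of_card_ge (inf_le_inf_left _ (hCB K)) hcc.ge
  have hKD' : T ⊓ centralizer (K : Set Γ) ≤ T ⊓ centralizer (D : Set Γ) := by
    rw [← hCeq]
    exact inf_le_inf_left _ (hCD K)
  -- the formula for `(K, T')`
  have hT'n : ∀ x ∈ D ⊔ K, ∀ h ∈ ⁅T, T⁆, x * h * x⁻¹ ∈ ⁅T, T⁆ := by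
    intro x hx
    have h1 : ⁅T, T⁆ ≤ (⁅T, T⁆).comap (MulAut.conj x).toMonoidHom := by
      rw [Subgroup.commutator_le]
      intro a ha b hb
      rw [Subgroup.mem_comap, map_commutatorElement]
      exact Subgroup.commutator_mem_commutator (hTn x hx a ha) (hTn x hx b hb)
    intro h hh
    exact h1 hh
  have hT'solv : Group.IsSolvable ↥⁅T, T⁆ :=
    Cfsg.Agent.Helper35.isSolvable_of_le hT'T hsolv
  obtain ⟨hF₁, -⟩ := Cfsg.Agent.Helper70.frob_group_main D K ⁅T, T⁆ hK1 hUn hfpf hT'n hT'solv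
    (Nat.Coprime.coprime_dvd_left (Subgroup.card_dvd_of_le hT'T) hcop)
  have e1 : ⁅T, T⁆ ⊓ centralizer ((D ⊔ K : Subgroup Γ) : Set Γ) =
      T ⊓ centralizer ((D ⊔ K : Subgroup Γ) : Set Γ) := by
    apply le_antisymm (inf_le_inf_right _ hT'T)
    intro z hz
    exact ⟨hCT' ⟨hz.1, hCD K hz.2⟩, hz.2⟩
  have e2 : ⁅T, T⁆ ⊓ centralizer (K : Set Γ) = T ⊓ centralizer (K : Set Γ) := by
    apply le_antisymm (inf_le_inf_right _ hT'T)
    intro z hz
    exact ⟨hCT' (hKD' hz), hz.2⟩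
  have e3 : ⁅T, T⁆ ⊓ centralizer (D : Set Γ) = T ⊓ centralizer (D : Set Γ) := by
    apply le_antisymm (inf_le_inf_right _ hT'T)
    intro z hz
    exact ⟨hCT' hz, hz.2⟩
  rw [e1, e2, e3, ← hF] at hF₁
  have hpos0 : 0 < Nat.card ↥(T ⊓ centralizer ((D ⊔ K : Subgroup Γ) : Set Γ)) ^ Nat.card K :=
    pos_of_ne_zero (pow_ne_zero _ Nat.card_pos.ne')
  have hcardT : Nat.card ↥⁅T, T⁆ = Nat.card T := Nat.eq_of_mul_eq_mul_left hpos0 hF₁
  have hTT : ⁅T, T⁆ = T := Subgroup.eq_of_le_of_card_ge hT'T hcardT.ge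
  -- contradiction with solvability
  haveI : Nontrivial ↥T := (Subgroup.nontrivial_iff_ne_bot T).mpr hT1
  haveI := hsolv
  have hlt := Group.IsSolvable.commutator_lt_top_of_nontrivial ↥T
  have hmap : (commutator ↥T).map T.subtype = (⊤ : Subgroup ↥T).map T.subtype := by
    rw [Subgroup.map_subtype_commutator, hTT, ← MonoidHom.range_eq_map, Subgroup.range_subtype]
  have htop : commutator ↥T = ⊤ :=
    Subgroup.map_injective T.subtype_injective hmap
  exact lt_irrefl _ (htop ▸ hlt)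

end Cfsg.Agent.Helper1
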