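import Cfsg.Agent.Helper1.CNOdd
import Cfsg.Agent.S1474
import Cfsg.Agent.S1477
import Cfsg.Agent.Helper25.CN3
import Cfsg.Agent.Helper71.Fitting

/-!
# Minimal simple CN-groups of odd order (Feit–Hall–Thompson), part 2

Structure of the maximal nilpotent subgroups and of the maximal subgroups of a minimal simple
CN-group `G` of odd order:

* `cnodd_sylow_ti`: distinct Sylow `p`-subgroups meet trivially;
* `cnodd_maxnilp_ti`: maximal nilpotent subgroups are TI;
* `cnodd_normalizer_ne_self`: a maximal nilpotent subgroup is not self-normalizing (focal subgroup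
  theorem);
* `cnodd_maxnilp_compl`, `cnodd_maxnilp_normalizer_coatom`: `N_G(H)` is a maximal subgroup and a
  Frobenius group with kernel `H`;
* `cnodd_coatom_structure`: every maximal subgroup is such a normalizer.
-/

set_option autoImplicit false
open scoped Pointwise

namespace Cfsg.Agent.Helper1

universe u

open scoped commutatorElement

theorem cnodd_commutator_eq_top {G : Type u} [Group G] (hG : Cfsg.IsMinSimpleOddOrder G) :
    commutator G = ⊤ := by
  obtain ⟨hodd, hsimp, hnc, hsolv⟩ := hG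
  haveI := hsimp
  rcases Subgroup.Normal.eq_bot_or_eq_top (inferInstance : (commutator G).Normal) with h | h
  · exfalso; apply hnc
    exact ⟨⟨fun a b => by
      have h1 : ⁅a, b⁆ ∈ commutator G :=
        Subgroup.commutator_mem_commutator (Subgroup.mem_top a) (Subgroup.mem_top b)
      rw [h, Subgroup.mem_bot] at h1
      exact commutatorElement_eq_one_iff_mul_comm.mp h1⟩⟩
  · exact h

theorem cnodd_not_nilpotent {G : Type u} [Group G] [Finite G] (hG : Cfsg.IsMinSimpleOddOrder G) :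
    ¬ Group.IsNilpotent G := by
  intro hnil
  obtain ⟨hodd, hsimp, hnc, hsolv⟩ := hG
  haveI := hsimp
  haveI := hnil
  haveI : Nontrivial G := IsSimpleGroup.toNontrivial
  obtain ⟨h, -, h1, hc⟩ := Cfsg.Agent.Helper25.exists_mem_center_of_normal_of_isNilpotent
    (⊤ : Subgroup G) top_ne_bot
  rcases Subgroup.Normal.eq_bot_or_eq_top (inferInstance : (Subgroup.center G).Normal) with h2 | h2
  · rw [h2, Subgroup.mem_bot] at hc; exact h1 hc
  · apply hnc
    exact ⟨⟨fun a b => Subgroup.mem_center_iff.mp (h2 ▸ Subgroup.mem_top b) a⟩⟩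

theorem cnodd_maxnilp_ne_top {G : Type u} [Group G] [Finite G] (hG : Cfsg.IsMinSimpleOddOrder G)
    (H : Subgroup G) (hH : Group.IsNilpotent H) : H ≠ ⊤ := by
  rintro rfl
  exact cnodd_not_nilpotent hG (Group.isNilpotent_top.mp hH)

theorem cnodd_maxnilp_ne_bot {G : Type u} [Group G] [Finite G] (hG : Cfsg.IsMinSimpleOddOrder G)
    (hCN : Cfsg.IsCNGroup G) (H : Subgroup G)
    (hmax : ∀ L : Subgroup G, Group.IsNilpotent L → H ≤ L → L = H) : H ≠ ⊥ := by
  rintro rfl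
  haveI : IsSimpleGroup G := hG.2.1
  haveI : Nontrivial G := IsSimpleGroup.toNontrivial
  obtain ⟨x, hx⟩ := exists_ne (1 : G)
  have h1 := hmax _ (hCN x hx) bot_le
  have h2 : x ∈ Subgroup.centralizer ({x} : Set G) :=
    Subgroup.mem_centralizer_singleton_iff.mpr rfl
  rw [h1, Subgroup.mem_bot] at h2
  exact hx h2

/-- In a minimal simple CN-group of odd order, distinct Sylow `p`-subgroups intersect trivially. -/
theorem cnodd_sylow_ti {G : Type u} [Group G] [Finite G] (hG : Cfsg.IsMinSimpleOddOrder G)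
    (hCN : Cfsg.IsCNGroup G) (p : ℕ) [Fact p.Prime] (P₁ P₂ : Sylow p G) (hne : P₁ ≠ P₂) :
    (P₁ : Subgroup G) ⊓ (P₂ : Subgroup G) = ⊥ := by
  by_contra hD
  have hne' : {x : Sylow p G × Sylow p G |
      x.1 ≠ x.2 ∧ (x.1 : Subgroup G) ⊓ (x.2 : Subgroup G) ≠ ⊥}.Nonempty := ⟨(P₁, P₂), hne, hD⟩
  obtain ⟨⟨Q₁, Q₂⟩, ⟨hQne, hQD⟩, hmax⟩ := Set.exists_max_image _
    (fun x : Sylow p G × Sylow p G =>
      Nat.card ((x.1 : Subgroup G) ⊓ (x.2 : Subgroup G) : Subgroup G))
    (Set.toFinite _) hne'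
  obtain ⟨hodd, hsimp, hnc, hsolv⟩ := id hG
  haveI := hsimp
  obtain ⟨D, hDdef⟩ : ∃ D : Subgroup G, D = (Q₁ : Subgroup G) ⊓ (Q₂ : Subgroup G) := ⟨_, rfl⟩
  have hD1 : D ≠ ⊥ := hDdef ▸ hQD
  have hDQ₁ : D ≤ (Q₁ : Subgroup G) := hDdef ▸ inf_le_left
  have hDQ₂ : D ≤ (Q₂ : Subgroup G) := hDdef ▸ inf_le_right
  have hDp : IsPGroup p D := Q₁.isPGroup'.to_le hDQ₁
  have hNtop : Subgroup.normalizer (D : Set G) ≠ ⊤ := by
    intro h
    have hDn : D.Normal := Subgroup.normalizer_eq_top_iff.mp h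
    rcases hDn.eq_bot_or_eq_top with h1 | h1
    · exact hD1 h1
    · have h1' : (Q₁ : Subgroup G) = ⊤ := top_le_iff.mp (h1 ▸ hDQ₁)
      have h2' : (Q₂ : Subgroup G) = ⊤ := top_le_iff.mp (h1 ▸ hDQ₂)
      exact hQne (Sylow.ext (h1'.trans h2'.symm))
  have hcore : Cfsg.pCore p ↥(Subgroup.normalizer (D : Set G)) ≠ ⊥ := by
    have hn : (D.subgroupOf (Subgroup.normalizer (D : Set G))).Normal :=
      Subgroup.normal_in_normalizer
    have hp : IsPGroup p (D.subgroupOf (Subgroup.normalizer (D : Set G))) := hDp.comap_subtype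
    intro h
    have h1 := le_pCore' hn hp
    rw [h, le_bot_iff, Subgroup.subgroupOf_eq_bot] at h1
    exact hD1 (h1.eq_bot_of_le Subgroup.le_normalizer)
  have hSn := cnodd_no_bad_subgroup hG hCN p _ hNtop hcore default
  obtain ⟨R, hR⟩ := ((default : Sylow p ↥(Subgroup.normalizer (D : Set G))).isPGroup'.map
    (Subgroup.normalizer (D : Set G)).subtype).exists_le_sylow
  have hpN : ∀ y : G, y ∈ Subgroup.normalizer (D : Set G) → (∃ k, orderOf y = p ^ k) →
      y ∈ (R : Subgroup G) := by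
    rintro y hy ⟨k, hk⟩
    apply hR
    refine ⟨⟨y, hy⟩, ?_, rfl⟩
    exact Cfsg.Agent.Helper25.mem_of_normal_sylow _ hSn ⟨k, by rw [Subgroup.orderOf_mk, hk]⟩
  have hDR : D ≤ (R : Subgroup G) := fun y hy =>
    hpN y (Subgroup.le_normalizer hy) (orderOf_eq_prime_pow_of_mem hDp hy)
  have key : ∀ Q : Sylow p G, D ≤ (Q : Subgroup G) → D ≠ (Q : Subgroup G) → Q = R := by
    intro Q hDQ hDQne
    obtain ⟨x, hxQ, hxn, hxD⟩ := Cfsg.Agent.Helper11.exists_mem_normalizer_not_mem_of_lt_pGroup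
      Q.isPGroup' (lt_of_le_of_ne hDQ hDQne)
    have hxR : x ∈ (R : Subgroup G) := hpN x hxn (orderOf_eq_prime_pow_of_mem Q.isPGroup' hxQ)
    by_contra hQR
    have hne2 : (Q : Subgroup G) ⊓ (R : Subgroup G) ≠ ⊥ := by
      intro h
      have hx : x ∈ (Q : Subgroup G) ⊓ (R : Subgroup G) := Subgroup.mem_inf.mpr ⟨hxQ, hxR⟩
      rw [h, Subgroup.mem_bot] at hx
      exact hxD (hx ▸ D.one_mem)
    have hle : Nat.card ((Q : Subgroup G) ⊓ (R : Subgroup G) : Subgroup G) ≤ Nat.card D := by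
      rw [hDdef]; exact hmax (Q, R) ⟨hQR, hne2⟩
    have heq := Subgroup.eq_of_le_of_card_ge (le_inf hDQ hDR) hle
    exact hxD (heq ▸ Subgroup.mem_inf.mpr ⟨hxQ, hxR⟩)
  have hne₁ : D ≠ (Q₁ : Subgroup G) := by
    intro h
    exact hQne (Sylow.ext (Q₁.is_maximal' Q₂.isPGroup' (h ▸ hDQ₂)).symm)
  have hne₂ : D ≠ (Q₂ : Subgroup G) := by
    intro h
    exact hQne (Sylow.ext (Q₂.is_maximal' Q₁.isPGroup' (h ▸ hDQ₁)))
  exact hQne ((key Q₁ hDQ₁ hne₁).trans (key Q₂ hDQ₂ hne₂).symm)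

theorem cnodd_map_conj_eq_smul {G : Type u} [Group G] (H : Subgroup G) (g : G) :
    H.map (MulAut.conj g).toMonoidHom = MulAut.conj g • H := by
  ext x
  rw [Cfsg.Agent.Helper25.mem_map_conj_iff', Cfsg.Agent.Helper25.mem_conj_smul_iff]

/-- Maximal nilpotent subgroups of a minimal simple CN-group of odd order are TI. -/
theorem cnodd_maxnilp_ti {G : Type u} [Group G] [Finite G] (hG : Cfsg.IsMinSimpleOddOrder G)
    (hCN : Cfsg.IsCNGroup G) (H : Subgroup G) (hH : Group.IsNilpotent H)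
    (hmax : ∀ L : Subgroup G, Group.IsNilpotent L → H ≤ L → L = H) :
    ∀ g : G, H.map (MulAut.conj g).toMonoidHom ≠ H →
      H ⊓ H.map (MulAut.conj g).toMonoidHom = ⊥ := by
  by_cases hpp : IsPrimePow (Nat.card H)
  · obtain ⟨p, k, hp, hk, hpk⟩ := (isPrimePow_nat_iff _).mp hpp
    haveI : Fact p.Prime := ⟨hp⟩
    have hHp : IsPGroup p H := IsPGroup.of_card hpk.symm
    obtain ⟨P, hP⟩ := hHp.exists_le_sylow
    have hPH : (P : Subgroup G) = H := hmax _ P.isPGroup'.isNilpotent hP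
    intro g hg
    have h1 : H.map (MulAut.conj g).toMonoidHom = ((g • P : Sylow p G) : Subgroup G) := by
      rw [Sylow.coe_subgroup_smul, hPH, cnodd_map_conj_eq_smul]
    have h2 : P ≠ g • P := by
      intro heq
      apply hg
      rw [h1, ← heq, hPH]
    have h3 := cnodd_sylow_ti hG hCN p P (g • P) h2
    rw [h1, ← hPH]
    exact h3
  · by_cases hc1 : Nat.card H = 1
    · intro g _
      rw [Subgroup.card_eq_one.mp hc1]
      exact bot_inf_eq _
    · exact (Cfsg.Agent.S1477.result hCN H hH hmax).2.1 hpp hc1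

theorem cnodd_maxnilp_centralizer_le {G : Type u} [Group G] [Finite G]
    (hG : Cfsg.IsMinSimpleOddOrder G) (hCN : Cfsg.IsCNGroup G) (H : Subgroup G)
    (hH : Group.IsNilpotent H)
    (hmax : ∀ L : Subgroup G, Group.IsNilpotent L → H ≤ L → L = H) :
    ∀ x ∈ H, x ≠ 1 → Subgroup.centralizer ({x} : Set G) ≤ H :=
  (Cfsg.Agent.S1477.result hCN H hH hmax).2.2 (cnodd_maxnilp_ti hG hCN H hH hmax)

theorem cnodd_mem_normalizer_of_map_conj_eq {G : Type u} [Group G] (H : Subgroup G) (g : G)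
    (h : H.map (MulAut.conj g).toMonoidHom = H) : g ∈ Subgroup.normalizer (H : Set G) := by
  rw [Subgroup.mem_normalizer_iff]
  intro x
  constructor
  · intro hx
    have h1 := Cfsg.Agent.Helper25.conj_mem_map_conj' g hx
    rwa [h] at h1
  · intro hx
    rw [← h, Cfsg.Agent.Helper25.mem_map_conj_iff'] at hx
    have e : g⁻¹ * (g * x * g⁻¹) * g = x := by group
    rwa [e] at hx

theorem cnodd_mem_normalizer_of_conj_mem {G : Type u} [Group G] [Finite G]
    (hG : Cfsg.IsMinSimpleOddOrder G) (hCN : Cfsg.IsCNGroup G) (H : Subgroup G)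
    (hH : Group.IsNilpotent H)
    (hmax : ∀ L : Subgroup G, Group.IsNilpotent L → H ≤ L → L = H) {x g : G} (hx : x ∈ H)
    (hx1 : x ≠ 1) (hgx : g * x * g⁻¹ ∈ H) : g ∈ Subgroup.normalizer (H : Set G) := by
  by_contra hg
  have hne : H.map (MulAut.conj g).toMonoidHom ≠ H :=
    fun h => hg (cnodd_mem_normalizer_of_map_conj_eq H g h)
  have hinf := cnodd_maxnilp_ti hG hCN H hH hmax g hne
  have hmem : g * x * g⁻¹ ∈ H ⊓ H.map (MulAut.conj g).toMonoidHom :=
    Subgroup.mem_inf.mpr ⟨hgx, Cfsg.Agent.Helper25.conj_mem_map_conj' g hx⟩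
  rw [hinf, Subgroup.mem_bot, conj_eq_one_iff] at hmem
  exact hx1 hmem

/-- A maximal nilpotent subgroup of a minimal simple CN-group of odd order is not
self-normalizing. -/
theorem cnodd_normalizer_ne_self {G : Type u} [Group G] [Finite G]
    (hG : Cfsg.IsMinSimpleOddOrder G) (hCN : Cfsg.IsCNGroup G) (H : Subgroup G)
    (hH : Group.IsNilpotent H)
    (hmax : ∀ L : Subgroup G, Group.IsNilpotent L → H ≤ L → L = H) :
    Subgroup.normalizer (H : Set G) ≠ H := by
  intro hN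
  have hcent := cnodd_maxnilp_centralizer_le hG hCN H hH hmax
  have hH1 : H ≠ ⊥ := cnodd_maxnilp_ne_bot hG hCN H hmax
  have hcard : Nat.card H ≠ 1 := fun h => hH1 (Subgroup.card_eq_one.mp h)
  obtain ⟨p, hp, hpd⟩ := Nat.exists_prime_and_dvd hcard
  haveI : Fact p.Prime := ⟨hp⟩
  obtain ⟨y, hy⟩ := exists_prime_orderOf_dvd_card' (G := H) p hpd
  have hyG : orderOf (y : G) = p := by rw [Subgroup.orderOf_coe]; exact hy
  have hy1 : (y : G) ≠ 1 := by
    intro h
    rw [h, orderOf_one] at hyG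
    exact hp.one_lt.ne hyG
  have hzp : IsPGroup p (Subgroup.zpowers (y : G)) := by
    apply IsPGroup.of_card (n := 1)
    rw [Nat.card_zpowers, hyG, pow_one]
  obtain ⟨P, hP⟩ := hzp.exists_le_sylow
  have hyP : (y : G) ∈ (P : Subgroup G) := hP (Subgroup.mem_zpowers _)
  have hP1 : (P : Subgroup G) ≠ ⊥ := by
    intro h
    rw [h, Subgroup.mem_bot] at hyP
    exact hy1 hyP
  obtain ⟨z, hzP, hz1, hzc⟩ := exists_central_of_isPGroup P.isPGroup' hP1
  have hzH : z ∈ H :=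
    hcent (y : G) y.2 hy1 (Subgroup.mem_centralizer_singleton_iff.mpr (hzc _ hyP))
  have hPH : (P : Subgroup G) ≤ H := fun w hw =>
    hcent z hzH hz1 (Subgroup.mem_centralizer_singleton_iff.mpr (hzc w hw).symm)
  have hfocal : (P : Subgroup G).focalSubgroup = (P : Subgroup G) := by
    rw [← Subgroup.commutator_inf_eq_focalSubgroup, cnodd_commutator_eq_top hG, top_inf_eq]
  have hstep : ∀ n : ℕ, (P : Subgroup G) ≤ H.lowerCentralSeries n := by
    intro n
    induction n with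
    | zero => exact hPH
    | succ n ih =>
      rw [← hfocal, Subgroup.focalSubgroup_def, Subgroup.closure_le]
      rintro g ⟨hgP, x, hx, u, rfl⟩
      by_cases hx1 : x = 1
      · subst hx1
        rw [commutatorElement_one_left]
        exact Subgroup.one_mem _
      · have hconj : u * x⁻¹ * u⁻¹ ∈ (P : Subgroup G) := by
          have h1 := (P : Subgroup G).mul_mem ((P : Subgroup G).inv_mem hx) hgP
          rw [commutatorElement_def] at h1
          have e : x⁻¹ * (x * u * x⁻¹ * u⁻¹) = u * x⁻¹ * u⁻¹ := by group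
          rwa [e] at h1
        have hun : u ∈ Subgroup.normalizer (H : Set G) :=
          cnodd_mem_normalizer_of_conj_mem hG hCN H hH hmax (H.inv_mem (hPH hx))
            (fun h => hx1 (inv_eq_one.mp h)) (hPH hconj)
        rw [hN] at hun
        rw [Subgroup.lowerCentralSeries_succ]
        exact Subgroup.commutator_mem_commutator (ih hx) hun
  obtain ⟨c, hc⟩ := (Subgroup.isNilpotent_iff_lowerCentralSeries H).mp hH
  have h1 := hstep c
  rw [hc, le_bot_iff] at h1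
  exact hP1 h1

/-- A proper nontrivial subgroup of a minimal simple CN-group of odd order has a nontrivial
normal Sylow subgroup. -/
theorem cnodd_exists_normal_sylow {G : Type u} [Group G] [Finite G]
    (hG : Cfsg.IsMinSimpleOddOrder G) (hCN : Cfsg.IsCNGroup G) (L : Subgroup G) (hL : L ≠ ⊤)
    (hL1 : L ≠ ⊥) :
    ∃ (r : ℕ) (_ : Fact r.Prime) (S : Sylow r ↥L),
      (S : Subgroup ↥L).Normal ∧ (S : Subgroup ↥L) ≠ ⊥ := by
  haveI : Group.IsSolvable ↥L := hG.2.2.2 L hL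
  haveI : Nontrivial ↥L := (Subgroup.nontrivial_iff_ne_bot L).mpr hL1
  obtain ⟨r, hr, hcore⟩ := exists_pCore_ne_bot ↥L
  haveI : Fact r.Prime := ⟨hr⟩
  have hSn := cnodd_no_bad_subgroup hG hCN r L hL hcore default
  refine ⟨r, ⟨hr⟩, default, hSn, fun h => hcore ?_⟩
  rw [eq_bot_iff]
  intro k hk
  have h1 := Cfsg.Agent.Helper25.mem_of_normal_sylow (default : Sylow r ↥L) hSn
    (orderOf_eq_prime_pow_of_mem (pCore_isPGroup' r ↥L) hk)
  rwa [h] at h1

theorem cnodd_fittingHall_isNilpotent (X : Type*) [Group X] [Finite X] :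
    Group.IsNilpotent ↥(Cfsg.fittingHall X) := by
  apply Cfsg.Agent.Helper25.isNilpotent_of_le (M := Cfsg.fittingSubgroup X) _
    (Cfsg.Agent.Helper71.fittingSubgroup_isNilpotent X)
  apply sSup_le_sSup
  rintro K ⟨hKn, hKnil, -⟩
  exact ⟨hKn, hKnil⟩

/-- Transport of a Frobenius decomposition of the abstract group `↥M` to subgroups of `G`. -/
theorem cnodd_transport {G : Type u} [Group G] (M : Subgroup G) (C E : Subgroup ↥M)
    (hCE : Subgroup.IsComplement' C E)
    (hfpf : ∀ e ∈ E, e ≠ 1 → C ⊓ Subgroup.centralizer ({e} : Set ↥M) = ⊥)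
    (hdec : ∀ g : ↥M, ∃ c ∈ C, ∃ e ∈ E, g = c * e) :
    Cfsg.IsComplIn (C.map M.subtype) (E.map M.subtype) M ∧
      ∀ e ∈ E.map M.subtype, e ≠ 1 →
        C.map M.subtype ⊓ Subgroup.centralizer ({e} : Set G) = ⊥ := by
  refine ⟨⟨Subgroup.map_subtype_le _, Subgroup.map_subtype_le _, ?_, ?_⟩, ?_⟩
  · rw [eq_bot_iff]
    intro x hx
    obtain ⟨⟨c, hc, rfl⟩, ⟨e, he, hce⟩⟩ := Subgroup.mem_inf.mp hx
    have hec : e = c := Subtype.ext hce
    have h1 : c ∈ C ⊓ E := Subgroup.mem_inf.mpr ⟨hc, hec ▸ he⟩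
    rw [hCE.disjoint.eq_bot, Subgroup.mem_bot] at h1
    rw [Subgroup.mem_bot, h1, map_one]
  · intro m hm
    obtain ⟨c, hc, e, he, hme⟩ := hdec ⟨m, hm⟩
    exact ⟨c, ⟨c, hc, rfl⟩, e, ⟨e, he, rfl⟩, congrArg Subtype.val hme⟩
  · rintro _ ⟨e, he, rfl⟩ he1
    have he1' : e ≠ 1 := fun h => he1 (by rw [h, map_one])
    rw [eq_bot_iff]
    intro x hx
    obtain ⟨⟨c, hc, rfl⟩, hxc⟩ := Subgroup.mem_inf.mp hx
    have h1 : c ∈ C ⊓ Subgroup.centralizer ({e} : Set ↥M) := by
      refine Subgroup.mem_inf.mpr ⟨hc, ?_⟩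
      rw [Subgroup.mem_centralizer_singleton_iff] at hxc ⊢
      exact Subtype.ext hxc
    rw [hfpf e he he1', Subgroup.mem_bot] at h1
    rw [Subgroup.mem_bot, h1, map_one]

/-- A normal nilpotent subgroup of a group between `H` and `N_G(H)` lies in the maximal nilpotent
subgroup `H`. -/
theorem cnodd_normal_nilpotent_le {G : Type u} [Group G] [Finite G]
    (hG : Cfsg.IsMinSimpleOddOrder G) (hCN : Cfsg.IsCNGroup G) (H : Subgroup G)
    (hH : Group.IsNilpotent H)
    (hmax : ∀ L : Subgroup G, Group.IsNilpotent L → H ≤ L → L = H) (N : Subgroup G)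
    (hHN : H ≤ N) (hNH : N ≤ Subgroup.normalizer (H : Set G)) (K : Subgroup ↥N) (hKn : K.Normal)
    (hKnil : Group.IsNilpotent K) : K ≤ H.subgroupOf N := by
  have hcent := cnodd_maxnilp_centralizer_le hG hCN H hH hmax
  have hH1 := cnodd_maxnilp_ne_bot hG hCN H hmax
  by_cases hK1 : K = ⊥
  · rw [hK1]; exact bot_le
  by_cases hex : ∃ y ∈ K, y ≠ 1 ∧ (y : G) ∈ H
  · obtain ⟨y, hyK, hy1, hyH⟩ := hex
    haveI := hKnil
    haveI : Nontrivial ↥K := (Subgroup.nontrivial_iff_ne_bot K).mpr hK1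
    obtain ⟨z, -, hz1, hzc⟩ := Cfsg.Agent.Helper25.exists_mem_center_of_normal_of_isNilpotent
      (⊤ : Subgroup ↥K) top_ne_bot
    have hzy : ((z : ↥N) : G) * (y : G) = (y : G) * ((z : ↥N) : G) := by
      have h1 := Subgroup.mem_center_iff.mp hzc ⟨y, hyK⟩
      have h2 := congrArg (fun w : ↥K => ((w : ↥N) : G)) h1
      exact h2.symm
    have hy1' : (y : G) ≠ 1 := fun h => hy1 (Subtype.ext h)
    have hzH : ((z : ↥N) : G) ∈ H :=
      hcent _ hyH hy1' (Subgroup.mem_centralizer_singleton_iff.mpr hzy)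
    have hz1' : ((z : ↥N) : G) ≠ 1 := fun h => hz1 (Subtype.ext (Subtype.ext h))
    intro k hk
    rw [Subgroup.mem_subgroupOf]
    apply hcent _ hzH hz1'
    rw [Subgroup.mem_centralizer_singleton_iff]
    have h1 := Subgroup.mem_center_iff.mp hzc ⟨k, hk⟩
    exact congrArg (fun w : ↥K => ((w : ↥N) : G)) h1
  · push Not at hex
    obtain ⟨h₀, hh₀, hh₀1⟩ := exists_ne_one_of_ne_bot hH1
    intro k hk
    rw [Subgroup.mem_subgroupOf]
    apply hcent h₀ hh₀ hh₀1
    rw [Subgroup.mem_centralizer_singleton_iff]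
    have hcK : k * ((⟨h₀, hHN hh₀⟩ : ↥N) * k⁻¹ * (⟨h₀, hHN hh₀⟩ : ↥N)⁻¹) ∈ K :=
      K.mul_mem hk (hKn.conj_mem _ (K.inv_mem hk) _)
    have e : ((k * ((⟨h₀, hHN hh₀⟩ : ↥N) * k⁻¹ * (⟨h₀, hHN hh₀⟩ : ↥N)⁻¹) : ↥N) : G) =
        (k : G) * h₀ * (k : G)⁻¹ * h₀⁻¹ := by
      show (k : G) * (h₀ * (k : G)⁻¹ * h₀⁻¹) = _
      group
    have hcH : ((k * ((⟨h₀, hHN hh₀⟩ : ↥N) * k⁻¹ * (⟨h₀, hHN hh₀⟩ : ↥N)⁻¹) : ↥N) : G) ∈ H := by
      rw [e]
      exact H.mul_mem ((Subgroup.mem_normalizer_iff.mp (hNH k.2) h₀).mp hh₀) (H.inv_mem hh₀)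
    have hc : k * ((⟨h₀, hHN hh₀⟩ : ↥N) * k⁻¹ * (⟨h₀, hHN hh₀⟩ : ↥N)⁻¹) = 1 := by
      by_contra hc
      exact hex _ hcK hc hcH
    have h2 : (k : G) * h₀ * (k : G)⁻¹ * h₀⁻¹ = 1 := by rw [← e, hc]; rfl
    exact mul_inv_eq_iff_eq_mul.mp (mul_inv_eq_one.mp h2)

/-- `N_G(H)` is a Frobenius group with kernel the maximal nilpotent subgroup `H`. -/
theorem cnodd_maxnilp_compl {G : Type u} [Group G] [Finite G] (hG : Cfsg.IsMinSimpleOddOrder G)
    (hCN : Cfsg.IsCNGroup G) (H : Subgroup G) (hH : Group.IsNilpotent H)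
    (hmax : ∀ L : Subgroup G, Group.IsNilpotent L → H ≤ L → L = H) :
    ∃ E : Subgroup G, Cfsg.IsComplIn H E (Subgroup.normalizer (H : Set G)) ∧ E ≠ ⊥ ∧
      ∀ e ∈ E, e ≠ 1 → H ⊓ Subgroup.centralizer ({e} : Set G) = ⊥ := by
  obtain ⟨hodd, hsimp, hnc, hsolv⟩ := id hG
  haveI := hsimp
  have hH1 : H ≠ ⊥ := cnodd_maxnilp_ne_bot hG hCN H hmax
  have hHtop : H ≠ ⊤ := cnodd_maxnilp_ne_top hG H hH
  have hNself := cnodd_normalizer_ne_self hG hCN H hH hmax
  obtain ⟨N, hNdef⟩ : ∃ N : Subgroup G, N = Subgroup.normalizer (H : Set G) := ⟨_, rfl⟩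
  rw [← hNdef] at hNself ⊢
  have hHN : H ≤ N := hNdef ▸ Subgroup.le_normalizer
  have hNtop : N ≠ ⊤ := by
    intro h
    rw [hNdef] at h
    have hn : H.Normal := Subgroup.normalizer_eq_top_iff.mp h
    rcases hn.eq_bot_or_eq_top with h1 | h1
    · exact hH1 h1
    · exact hHtop h1
  have hN1 : N ≠ ⊥ := fun h => hH1 (eq_bot_iff.mpr (h ▸ hHN))
  have hNnil : ¬ Group.IsNilpotent ↥N := fun h => hNself (hmax N h hHN)
  obtain ⟨r, hr, S, hSn, hS1⟩ := cnodd_exists_normal_sylow hG hCN N hNtop hN1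
  obtain ⟨C, hCn, hF, hC1, hCtop, E, hCE, hEF, hfpf, hEnil, hdec⟩ :=
    Cfsg.Agent.S1474.core (Cfsg.Agent.Helper25.isCNGroup_subgroup hCN N) hNnil r S hS1 hSn
  have hHn : (H.subgroupOf N).Normal := by rw [hNdef]; exact Subgroup.normal_in_normalizer
  have hCH : C = H.subgroupOf N := by
    apply le_antisymm
    · rw [← hF]
      apply sSup_le
      rintro K ⟨hKn, hKnil, -⟩
      exact cnodd_normal_nilpotent_le hG hCN H hH hmax N hHN hNdef.le K hKn hKnil
    · rw [← hF]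
      apply le_sSup
      refine ⟨hHn, ?_, ?_⟩
      · haveI := hH
        exact Group.nilpotent_of_mulEquiv (Subgroup.subgroupOfEquivOfLe hHN).symm
      · rw [card_subgroupOf_of_le hHN]
        exact Nat.Coprime.coprime_dvd_right (Subgroup.relIndex_dvd_index_of_le hHN)
          (Cfsg.Agent.S1477.result hCN H hH hmax).1
  obtain ⟨hcompl, hfpf'⟩ := cnodd_transport N C E hCE hfpf hdec
  rw [hCH, Subgroup.map_subgroupOf_eq_of_le hHN] at hcompl hfpf'
  refine ⟨E.map N.subtype, hcompl, ?_, hfpf'⟩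
  intro h
  exact hEF.1 ((Subgroup.map_eq_bot_iff_of_injective _ N.subtype_injective).mp h)

/-- The normalizer of a maximal nilpotent subgroup is a maximal subgroup. -/
theorem cnodd_maxnilp_normalizer_coatom {G : Type u} [Group G] [Finite G]
    (hG : Cfsg.IsMinSimpleOddOrder G) (hCN : Cfsg.IsCNGroup G) (H : Subgroup G)
    (hH : Group.IsNilpotent H)
    (hmax : ∀ L : Subgroup G, Group.IsNilpotent L → H ≤ L → L = H) :
    IsCoatom (Subgroup.normalizer (H : Set G)) := by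
  obtain ⟨hodd, hsimp, hnc, hsolv⟩ := id hG
  haveI := hsimp
  have hcent := cnodd_maxnilp_centralizer_le hG hCN H hH hmax
  have hH1 : H ≠ ⊥ := cnodd_maxnilp_ne_bot hG hCN H hmax
  have hHtop : H ≠ ⊤ := cnodd_maxnilp_ne_top hG H hH
  have hNself := cnodd_normalizer_ne_self hG hCN H hH hmax
  have hNtop : Subgroup.normalizer (H : Set G) ≠ ⊤ := by
    intro h
    have hn : H.Normal := Subgroup.normalizer_eq_top_iff.mp h
    rcases hn.eq_bot_or_eq_top with h1 | h1
    · exact hH1 h1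
    · exact hHtop h1
  obtain ⟨M, hM, hNM⟩ := (eq_top_or_exists_le_coatom _).resolve_left hNtop
  suffices hMN : M ≤ Subgroup.normalizer (H : Set G) by
    rw [le_antisymm hNM hMN]; exact hM
  have hHM : H ≤ M := Subgroup.le_normalizer.trans hNM
  have hMtop : M ≠ ⊤ := hM.1
  have hM1 : M ≠ ⊥ := fun h => hH1 (eq_bot_iff.mpr (h ▸ hHM))
  have hMnil : ¬ Group.IsNilpotent ↥M := by
    intro h
    have h1 := hmax M h hHM
    apply hNself
    apply le_antisymm _ Subgroup.le_normalizer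
    rw [h1] at hNM
    exact hNM
  by_cases hA : ∃ p : ℕ, p.Prime ∧ p ∣ Nat.card H ∧ Cfsg.pCore p ↥M ≠ ⊥
  · obtain ⟨p, hp, hpd, hcore⟩ := hA
    haveI : Fact p.Prime := ⟨hp⟩
    have hSn := cnodd_no_bad_subgroup hG hCN p M hMtop hcore default
    obtain ⟨y, hy⟩ := exists_prime_orderOf_dvd_card' (G := H) p hpd
    have hyG : orderOf (y : G) = p := by rw [Subgroup.orderOf_coe]; exact hy
    have hy1 : (y : G) ≠ 1 := by
      intro h
      rw [h, orderOf_one] at hyG
      exact hp.one_lt.ne hyG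
    have hyS : (⟨(y : G), hHM y.2⟩ : ↥M) ∈ ((default : Sylow p ↥M) : Subgroup ↥M) :=
      Cfsg.Agent.Helper25.mem_of_normal_sylow _ hSn
        ⟨1, by rw [Subgroup.orderOf_mk, hyG, pow_one]⟩
    have hS1 : ((default : Sylow p ↥M) : Subgroup ↥M) ≠ ⊥ := by
      intro h
      rw [h, Subgroup.mem_bot] at hyS
      exact hy1 (congrArg Subtype.val hyS)
    obtain ⟨z, hzS, hz1, hzc⟩ := exists_central_of_isPGroup (default : Sylow p ↥M).isPGroup' hS1
    have hz1' : (z : G) ≠ 1 := fun h => hz1 (Subtype.ext h)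
    have hzH : (z : G) ∈ H := by
      apply hcent (y : G) y.2 hy1
      rw [Subgroup.mem_centralizer_singleton_iff]
      exact congrArg Subtype.val (hzc _ hyS)
    have hSH : ∀ s ∈ ((default : Sylow p ↥M) : Subgroup ↥M), (s : G) ∈ H := by
      intro s hs
      apply hcent (z : G) hzH hz1'
      rw [Subgroup.mem_centralizer_singleton_iff]
      exact (congrArg Subtype.val (hzc s hs)).symm
    intro m hm
    apply cnodd_mem_normalizer_of_conj_mem hG hCN H hH hmax hzH hz1'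
    exact hSH _ (hSn.conj_mem z hzS ⟨m, hm⟩)
  · push Not at hA
    exfalso
    obtain ⟨r, hr, S, hSn, hS1⟩ := cnodd_exists_normal_sylow hG hCN M hMtop hM1
    have hquot := (Cfsg.Agent.S1474.result (Cfsg.Agent.Helper25.isCNGroup_subgroup hCN M)
      hMnil r S hS1 hSn).2.2.2
    have hCnil : Group.IsNilpotent ↥(Cfsg.fittingHall ↥M) := cnodd_fittingHall_isNilpotent ↥M
    have hHC : ∀ y ∈ Cfsg.fittingHall ↥M, (y : G) ∈ H → y = 1 := by
      intro y hyC hyH
      by_contra hy1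
      have ho : orderOf y ≠ 1 := fun h => hy1 (orderOf_eq_one_iff.mp h)
      obtain ⟨p, hp, hpd⟩ := Nat.exists_prime_and_dvd ho
      have h1 : p ∣ Nat.card H := by
        have h0 := Subgroup.orderOf_dvd_natCard H hyH
        rw [Subgroup.orderOf_coe] at h0
        exact hpd.trans h0
      have h2 : p ∣ Nat.card (Cfsg.fittingHall ↥M) :=
        hpd.trans (Subgroup.orderOf_dvd_natCard _ hyC)
      exact pCore_ne_bot_of_dvd_card_nilpotent (Cfsg.fittingHall ↥M) hCnil p hp h2 (hA p hp h1)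
    have hNC : ∀ n ∈ Cfsg.fittingHall ↥M, (n : G) ∈ Subgroup.normalizer (H : Set G) → n = 1 := by
      intro n hnC hnN
      apply hHC n hnC
      obtain ⟨h₀, hh₀, hh₀1⟩ := exists_ne_one_of_ne_bot hH1
      apply hcent h₀ hh₀ hh₀1
      rw [Subgroup.mem_centralizer_singleton_iff]
      have hcC : n * ((⟨h₀, hHM hh₀⟩ : ↥M) * n⁻¹ * (⟨h₀, hHM hh₀⟩ : ↥M)⁻¹) ∈
          Cfsg.fittingHall ↥M :=
        Subgroup.mul_mem _ hnC
          ((Cfsg.fittingHall_normal ↥M).conj_mem _ (Subgroup.inv_mem _ hnC) _)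
      have e : ((n * ((⟨h₀, hHM hh₀⟩ : ↥M) * n⁻¹ * (⟨h₀, hHM hh₀⟩ : ↥M)⁻¹) : ↥M) : G) =
          (n : G) * h₀ * (n : G)⁻¹ * h₀⁻¹ := by
        show (n : G) * (h₀ * (n : G)⁻¹ * h₀⁻¹) = _
        group
      have hcH : ((n * ((⟨h₀, hHM hh₀⟩ : ↥M) * n⁻¹ * (⟨h₀, hHM hh₀⟩ : ↥M)⁻¹) : ↥M) : G) ∈ H := by
        rw [e]
        exact H.mul_mem ((Subgroup.mem_normalizer_iff.mp hnN h₀).mp hh₀) (H.inv_mem hh₀)
      have hc := hHC _ hcC hcH
      have h2 : (n : G) * h₀ * (n : G)⁻¹ * h₀⁻¹ = 1 := by rw [← e, hc]; rfl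
      exact mul_inv_eq_iff_eq_mul.mp (mul_inv_eq_one.mp h2)
    have hinj : Function.Injective ((QuotientGroup.mk' (Cfsg.fittingHall ↥M)).comp
        ((Subgroup.normalizer (H : Set G)).subgroupOf M).subtype) := by
      rw [injective_iff_map_eq_one]
      intro a ha
      have ha' : (a : ↥M) ∈ Cfsg.fittingHall ↥M := (QuotientGroup.eq_one_iff _).mp ha
      exact Subtype.ext (hNC _ ha' (Subgroup.mem_subgroupOf.mp a.2))
    have hnil1 : Group.IsNilpotent ↥((Subgroup.normalizer (H : Set G)).subgroupOf M) :=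
      Cfsg.Agent.Helper25.isNilpotent_of_injective _ hinj hquot
    have hnil2 : Group.IsNilpotent ↥(Subgroup.normalizer (H : Set G)) := by
      haveI := hnil1
      exact Group.nilpotent_of_mulEquiv (Subgroup.subgroupOfEquivOfLe hNM)
    exact hNself (hmax _ hnil2 Subgroup.le_normalizer)

/-- Every maximal subgroup of a minimal simple CN-group of odd order is a Frobenius group whose
kernel is a maximal nilpotent subgroup of `G`. -/
theorem cnodd_coatom_structure {G : Type u} [Group G] [Finite G]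
    (hG : Cfsg.IsMinSimpleOddOrder G) (hCN : Cfsg.IsCNGroup G) (M : Subgroup G)
    (hM : IsCoatom M) :
    ∃ H E : Subgroup G, Group.IsNilpotent H ∧
      (∀ L : Subgroup G, Group.IsNilpotent L → H ≤ L → L = H) ∧
      M ≤ Subgroup.normalizer (H : Set G) ∧ Cfsg.IsComplIn H E M ∧ H ≠ ⊥ ∧ E ≠ ⊥ ∧
      ∀ e ∈ E, e ≠ 1 → H ⊓ Subgroup.centralizer ({e} : Set G) = ⊥ := by
  obtain ⟨hodd, hsimp, hnc, hsolv⟩ := id hG
  haveI := hsimp
  have hMtop : M ≠ ⊤ := hM.1
  have hMnil : ¬ Group.IsNilpotent ↥M := by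
    intro hnil
    have hmaxM : ∀ L : Subgroup G, Group.IsNilpotent L → M ≤ L → L = M := by
      intro L hL hML
      rcases (hM.le_iff).mp hML with h | h
      · exact absurd hL (cnodd_maxnilp_ne_top hG L hL h).elim
      · exact h
    have h1 := cnodd_normalizer_ne_self hG hCN M hnil hmaxM
    have h2 : Subgroup.normalizer (M : Set G) = ⊤ := by
      rcases (hM.le_iff).mp (Subgroup.le_normalizer (H := M)) with h | h
      · exact h
      · exact absurd h h1
    have hn : M.Normal := Subgroup.normalizer_eq_top_iff.mp h2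
    rcases hn.eq_bot_or_eq_top with h3 | h3
    · exact cnodd_maxnilp_ne_bot hG hCN M hmaxM h3
    · exact hMtop h3
  have hM1 : M ≠ ⊥ := by
    rintro rfl
    exact hMnil Group.isNilpotent_of_subsingleton
  obtain ⟨r, hr, S, hSn, hS1⟩ := cnodd_exists_normal_sylow hG hCN M hMtop hM1
  obtain ⟨C, hCn, hF, hC1, hCtop, E, hCE, hEF, hfpf, hEnil, hdec⟩ :=
    Cfsg.Agent.S1474.core (Cfsg.Agent.Helper25.isCNGroup_subgroup hCN M) hMnil r S hS1 hSn
  obtain ⟨hcompl, hfpf'⟩ := cnodd_transport M C E hCE hfpf hdec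
  have hCnil : Group.IsNilpotent ↥C := hF ▸ cnodd_fittingHall_isNilpotent ↥M
  have hHnil : Group.IsNilpotent ↥(C.map M.subtype) := by
    haveI := hCnil
    exact Group.nilpotent_of_mulEquiv (C.equivMapOfInjective _ M.subtype_injective)
  have hH1 : C.map M.subtype ≠ ⊥ :=
    fun h => hC1 ((Subgroup.map_eq_bot_iff_of_injective _ M.subtype_injective).mp h)
  have hHM : C.map M.subtype ≤ M := Subgroup.map_subtype_le _
  have hMN : M ≤ Subgroup.normalizer ((C.map M.subtype : Subgroup G) : Set G) := by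
    intro m hm
    apply Subgroup.mem_normalizer_fintype
    rintro _ ⟨c, hc, rfl⟩
    exact ⟨⟨m, hm⟩ * c * ⟨m, hm⟩⁻¹, hCn.conj_mem c hc ⟨m, hm⟩, rfl⟩
  have hNeq : Subgroup.normalizer ((C.map M.subtype : Subgroup G) : Set G) = M := by
    rcases (hM.le_iff).mp hMN with h | h
    · exfalso
      have hn : (C.map M.subtype).Normal := Subgroup.normalizer_eq_top_iff.mp h
      rcases hn.eq_bot_or_eq_top with h3 | h3
      · exact hH1 h3
      · exact hMtop (top_le_iff.mp (h3 ▸ hHM))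
    · exact h
  refine ⟨C.map M.subtype, E.map M.subtype, hHnil, ?_, hMN, hcompl, hH1, ?_, hfpf'⟩
  · intro L hL hHL
    by_contra hne
    have hlt : C.map M.subtype < L := lt_of_le_of_ne hHL (Ne.symm hne)
    obtain ⟨n, hnL, hnH, hnN⟩ := Cfsg.Agent.Helper25.exists_mem_normalizer_not_mem' L _ hL hlt
    rw [hNeq] at hnN
    obtain ⟨c, hc, e, he, hne'⟩ := hdec ⟨n, hnN⟩
    have hcH : (c : G) ∈ C.map M.subtype := ⟨c, hc, rfl⟩
    have hneq : n = (c : G) * (e : G) := congrArg Subtype.val hne'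
    have he1 : e ≠ 1 := by
      rintro rfl
      apply hnH
      rw [hneq]
      have e1 : (c : G) * ((1 : ↥M) : G) = (c : G) := mul_one _
      rw [e1]
      exact hcH
    have heL : (e : G) ∈ L := by
      have e1 : (e : G) = (c : G)⁻¹ * n := by rw [hneq]; group
      rw [e1]
      exact L.mul_mem (L.inv_mem (hHL hcH)) hnL
    have hL₁nil : Group.IsNilpotent ↥(L ⊓ M) :=
      Cfsg.Agent.Helper25.isNilpotent_of_le inf_le_left hL
    have hHL₁ : C.map M.subtype ≤ L ⊓ M := le_inf hHL hHM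
    have hn' : ((C.map M.subtype).subgroupOf (L ⊓ M)).Normal :=
      (Subgroup.normal_subgroupOf_iff_le_normalizer hHL₁).mpr (inf_le_right.trans hMN)
    have hne1 : (C.map M.subtype).subgroupOf (L ⊓ M) ≠ ⊥ := by
      intro h
      rw [Subgroup.subgroupOf_eq_bot] at h
      exact hH1 (h.eq_bot_of_le hHL₁)
    haveI := hL₁nil
    haveI := hn'
    obtain ⟨h, hh, hh1, hhc⟩ := Cfsg.Agent.Helper25.exists_mem_center_of_normal_of_isNilpotent
      ((C.map M.subtype).subgroupOf (L ⊓ M)) hne1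
    have hhH : (h : G) ∈ C.map M.subtype := Subgroup.mem_subgroupOf.mp hh
    have hcomm : (h : G) * (e : G) = (e : G) * (h : G) := by
      have h1 := Subgroup.mem_center_iff.mp hhc ⟨(e : G), Subgroup.mem_inf.mpr ⟨heL, e.2⟩⟩
      exact (congrArg Subtype.val h1).symm
    have hmem : (h : G) ∈ C.map M.subtype ⊓ Subgroup.centralizer ({(e : G)} : Set G) :=
      Subgroup.mem_inf.mpr ⟨hhH, Subgroup.mem_centralizer_singleton_iff.mpr hcomm⟩
    rw [hfpf' (e : G) ⟨e, he, rfl⟩ (fun h' => he1 (Subtype.ext h')), Subgroup.mem_bot] at hmem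
    exact hh1 (Subtype.ext hmem)
  · intro h
    exact hEF.1 ((Subgroup.map_eq_bot_iff_of_injective _ M.subtype_injective).mp h)

end Cfsg.Agent.Helper1
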