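/-
helper1: CALL S1357, piece NC (double).  `[M_F, D] ≠ 1` for a nilpotent complement `D` of `M_F`
in `M_σ` when `M_F ≠ M_σ`.
-/
import Mathlib
import Cfsg.Agent.Helper1.CNOdd2
import Cfsg.Agent.Helper31.BGCFHb
import Cfsg.Agent.Helper54.BG14T2

set_option autoImplicit false

namespace Cfsg.Agent.Helper1

open Cfsg Subgroup

universe u

variable {G : Type u} [Group G] [Finite G]

/-- NC. -/
theorem bg152_comm_ne_bot (hG : IsMinSimpleOddOrder G) {M D : Subgroup G} (hM : IsCoatom M)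
    (hne : fittingHallOf M ≠ sigmaCore M) (hFD : fittingHallOf M ⊔ D = sigmaCore M)
    (hDnil : Group.IsNilpotent ↥D)
    (hsup : Group.IsNilpotent ↥(fittingHallOf M) → Group.IsNilpotent ↥D →
      ⁅fittingHallOf M, D⁆ = ⊥ → Group.IsNilpotent ↥(fittingHallOf M ⊔ D)) :
    ⁅fittingHallOf M, D⁆ ≠ ⊥ := by
  intro h
  have hFnil : Group.IsNilpotent ↥(fittingHallOf M) := by
    haveI := Cfsg.Agent.Helper1.cnodd_fittingHall_isNilpotent ↥M
    exact Group.nilpotent_of_mulEquiv
      ((fittingHall ↥M).equivMapOfInjective M.subtype M.subtype_injective)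
  have hnil : Group.IsNilpotent ↥(sigmaCore M) := hFD ▸ hsup hFnil hDnil h
  exact hne (le_antisymm (Cfsg.Agent.Helper54.bg14t_fittingHall_le hG hM)
    (Cfsg.Agent.Helper31.bgc_sigmaCore_le_fittingHall hG hM hnil))

end Cfsg.Agent.Helper1
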