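/-
helper1: CALL S1357, piece QF (double).  For a prime `q ∣ |K*|` a Sylow `q`-subgroup of `M_σ`
lies in `M_F ≤ F(M)` and in a unique maximal subgroup.
-/
import Mathlib
import Cfsg.Agent.S1364
import Cfsg.Agent.S1431
import Cfsg.Agent.Helper1.BGUniqA
import Cfsg.Agent.Helper1.CNOdd2
import Cfsg.Agent.Helper23.Trans
import Cfsg.Agent.Helper23.FittingHall

set_option autoImplicit false

namespace Cfsg.Agent.Helper1

open Cfsg Subgroup

universe u

variable {G : Type u} [Group G] [Finite G]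

/-- QF. -/
theorem bg152_exists_Q (hG : IsMinSimpleOddOrder G) {M K U : Subgroup G} (hM : IsCoatom M)
    (hKU : IsSigmaDecomposition M K U) (hK1 : K ≠ ⊥) {q : ℕ} (hq : q.Prime)
    (hqK : q ∣ Nat.card ↥(sigmaCore M ⊓ centralizer (K : Set G))) :
    ∃ Q : Subgroup G, Q ≤ fittingOf M ∧ IsPGroup q Q ∧ InUniqueMaximal Q := by
  haveI := Fact.mk hq
  obtain ⟨S⟩ := (inferInstance : Nonempty (Sylow q ↥(sigmaCore M)))
  have h31 := ((Cfsg.Agent.S1431.result hG M hM K hKU.hall hK1).2.2.1 q hq hqK S).1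
  have h64 := (Cfsg.Agent.S1364.result hG M hM K U hKU hK1).2.2.1
  have hqF : q ∣ Nat.card (fittingHallOf M) := hqK.trans (Subgroup.card_dvd_of_le h64)
  have hσM : sigmaCore M ≤ M := Cfsg.Agent.Helper23.piCoreOf_le _ _
  have hFM : fittingHallOf M ≤ M := Subgroup.map_subtype_le _
  have hFn : M ≤ normalizer (fittingHallOf M : Set G) := by
    rw [Subgroup.le_normalizer_iff]
    rintro x hx _ ⟨y, hy, rfl⟩
    exact ⟨⟨x, hx⟩ * y * ⟨x, hx⟩⁻¹, (fittingHall_normal ↥M).conj_mem y hy ⟨x, hx⟩, rfl⟩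
  have hFnil : Group.IsNilpotent ↥(fittingHallOf M) := by
    haveI := Cfsg.Agent.Helper1.cnodd_fittingHall_isNilpotent ↥M
    exact Group.nilpotent_of_mulEquiv
      ((fittingHall ↥M).equivMapOfInjective M.subtype M.subtype_injective)
  have hFle : fittingHallOf M ≤ fittingOf M := bgu_le_fittingOf hFM hFn hFnil
  refine ⟨(S : Subgroup ↥(sigmaCore M)).map (sigmaCore M).subtype, ?_, S.isPGroup'.map _, h31⟩
  refine le_trans ?_ hFle
  rintro _ ⟨x, hx, rfl⟩
  have hxM : (x : G) ∈ M := hσM x.2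
  obtain ⟨k, hk⟩ := (IsPGroup.iff_orderOf.mp S.isPGroup') ⟨x, hx⟩
  have hxo : orderOf (⟨(x : G), hxM⟩ : ↥M) = q ^ k := by
    have e1 : orderOf (⟨(x : G), hxM⟩ : ↥M) = orderOf (x : G) := Subgroup.orderOf_mk _ _
    have e2 : orderOf (x : G) = orderOf x := Subgroup.orderOf_coe x
    have e3 : orderOf (⟨x, hx⟩ : ↥(S : Subgroup ↥(sigmaCore M))) = orderOf x :=
      Subgroup.orderOf_mk _ _
    rw [e1, e2, ← e3]
    exact hk
  have hcop : (orderOf (⟨(x : G), hxM⟩ : ↥M)).Coprime (fittingHall ↥M).index := by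
    rw [hxo]
    apply Nat.Coprime.pow_left
    have h1 : q ∣ Nat.card (fittingHall ↥M) := by
      rwa [Cfsg.Agent.Helper23.card_fittingHallOf] at hqF
    exact (Nat.Prime.coprime_iff_not_dvd hq).mpr (fun h2 =>
      hq.one_lt.ne' (Nat.eq_one_of_dvd_coprimes (Cfsg.Agent.Helper23.fittingHall_coprime ↥M) h1 h2))
  have hmem := Cfsg.Agent.Helper23.mem_of_coprime_orderOf_index (fittingHall ↥M) _ hcop
  exact ⟨_, hmem, rfl⟩

end Cfsg.Agent.Helper1
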