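/-
helper1: CALL S1357, piece TIR (double).  No `y ∈ F(M)` of prime order `r ≠ q` has
`g y g⁻¹ ∈ F(M)` for `g ∉ M`, when `F(M)` contains a `q`-subgroup `Q` lying in a unique maximal
subgroup.
-/
import Mathlib
import Cfsg.Agent.Helper1.BGUniqA
import Cfsg.Agent.Helper23.Uniq
import Cfsg.Agent.Helper23.Trans
import Cfsg.Agent.Helper25.CN
import Cfsg.Agent.Helper62.BG72A

set_option autoImplicit false

namespace Cfsg.Agent.Helper1

open Cfsg Subgroup

universe u

variable {G : Type u} [Group G] [Finite G]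

/-- TIR. -/
theorem bg152_TI_r (hG : IsMinSimpleOddOrder G) {M Q : Subgroup G} (hM : IsCoatom M) {q : ℕ}
    (hq : q.Prime) (hQF : Q ≤ fittingOf M) (hQq : IsPGroup q Q) (hQU : InUniqueMaximal Q)
    {g y : G} (hg : g ∉ M) (hy : y ∈ fittingOf M) (hyo : (orderOf y).Prime)
    (hyq : orderOf y ≠ q) (hgy : g * y * g⁻¹ ∈ fittingOf M) : False := by
  haveI hsimple : IsSimpleGroup G := hG.2.1
  haveI := Fact.mk hq
  have hFM : fittingOf M ≤ M := bgu_fittingOf_le M
  have hFnil := bgu_fittingOf_isNilpotent M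
  obtain ⟨M₀, hM₀, huniq⟩ := hQU
  have hMM₀ : M = M₀ := huniq M ⟨hM, hQF.trans hFM⟩
  have key : ∀ z ∈ fittingOf M, (orderOf z).Prime → orderOf z ≠ q →
      (centralizer ({z} : Set G) ≤ M ∧
        ∀ L : Subgroup G, IsCoatom L → centralizer ({z} : Set G) ≤ L → L = M) := by
    intro z hz hzo hzq
    have hQC : Q ≤ centralizer ({z} : Set G) := by
      intro x hx
      rw [Subgroup.mem_centralizer_iff]
      intro w hw
      rw [Set.mem_singleton_iff.mp hw]
      obtain ⟨k, hk⟩ := (IsPGroup.iff_orderOf.mp hQq) ⟨x, hx⟩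
      have hxo : orderOf x = q ^ k := by rw [← Subgroup.orderOf_mk x hx]; exact hk
      have hcop : (orderOf z).Coprime (orderOf x) := by
        rw [hxo]
        exact Nat.Coprime.pow_right _ ((Nat.coprime_primes hzo hq).mpr hzq)
      exact (Cfsg.Agent.Helper25.commute_of_coprime_of_mem_nilpotent (fittingOf M) hFnil hz
        (hQF hx) hcop).eq
    have hz1 : z ≠ 1 := fun e => hzo.ne_one (by rw [e, orderOf_one])
    have hL : ∀ L : Subgroup G, IsCoatom L → centralizer ({z} : Set G) ≤ L → L = M := by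
      intro L hL hCL
      rw [hMM₀]
      exact huniq L ⟨hL, hQC.trans hCL⟩
    have hCtop : centralizer ({z} : Set G) ≠ ⊤ :=
      Cfsg.Agent.Helper23.centralizer_singleton_ne_top hG.2 hz1
    obtain ⟨L, hL', hCL⟩ := Cfsg.Agent.Helper23.uq_exists_coatom_ge hCtop
    exact ⟨(hL L hL' hCL) ▸ hCL, hL⟩
  have hgyo : orderOf (g * y * g⁻¹) = orderOf y :=
    orderOf_injective (MulAut.conj g).toMonoidHom (MulAut.conj g).injective y
  have k1 := key y hy hyo hyq
  have k2 := key (g * y * g⁻¹) hgy (hgyo ▸ hyo) (hgyo ▸ hyq)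
  exact hg (Cfsg.Agent.Helper62.bg72_conj_uniq hM k1.1 k2.2)

end Cfsg.Agent.Helper1
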