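/-
helper1: CALL BG15 (helper25), piece C1 (double): `M_σ ≤ M'`.
-/
import Cfsg.Agent.Helper20.BG13P4
import Cfsg.Agent.S1403
import Cfsg.Agent.S1426

set_option autoImplicit false

namespace Cfsg.Agent.Helper1

open Cfsg Subgroup

universe u

variable {G : Type u} [Group G] [Finite G]

/-- C1. `M_σ ≤ M'` (S1426: `⁅M_σ, E⁆ = M_σ` for a complement `E`). -/
theorem bg15_sigma_le_comm (hG : IsMinSimpleOddOrder G) (M : Subgroup G) (hM : IsCoatom M) :
    sigmaCore M ≤ ⁅M, M⁆ := by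
  have hU : Cfsg.Agent.Helper22.BGUniq G :=
    fun K hK h1 h2 => Cfsg.Agent.S1403.result hG K hK h1 h2
  have hcop : (Nat.card (⊥ : Subgroup G)).Coprime (Nat.card (sigmaCore M)) := by
    rw [Subgroup.card_bot]; exact Nat.coprime_one_left _
  obtain ⟨E, hE, -⟩ := Cfsg.Agent.Helper20.bg13_exists_compl_ge hG hU hM (K := ⊥) bot_le hcop
  have h := (Cfsg.Agent.S1426.result hG M hM E hE).2.1
  rw [← h]
  exact Subgroup.commutator_mono hE.2.1 hE.1

end Cfsg.Agent.Helper1
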