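/-
helper1: CALL BG15 (helper25), piece E1 (double): if `M_σ` is nilpotent then `M_F = M_σ ≠ 1` and
`M'/M_F` is nilpotent.
-/
import Cfsg.Agent.Helper20.BG13P4
import Cfsg.Agent.Helper31.BGCFHb
import Cfsg.Agent.Helper54.BG14T2
import Cfsg.Agent.Helper22.BG12a
import Cfsg.Agent.Helper24.BG11b
import Cfsg.Agent.S1403

set_option autoImplicit false

namespace Cfsg.Agent.Helper1

open Cfsg Subgroup

universe u

variable {G : Type u} [Group G] [Finite G]

/-- E1. If `M_σ` is nilpotent then `M_F = M_σ ≠ 1` and `M'/M_F ≅ E'` is nilpotent. -/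
theorem bg15_chain_nil (hG : IsMinSimpleOddOrder G) (M : Subgroup G) (hM : IsCoatom M)
    (hnil : Group.IsNilpotent ↥(sigmaCore M)) :
    fittingHallOf M ≠ ⊥ ∧
      Group.IsNilpotent ↥((commutator ↥M).map (QuotientGroup.mk' (fittingHall ↥M))) := by
  classical
  have hU : Cfsg.Agent.Helper22.BGUniq G :=
    fun K hK h1 h2 => Cfsg.Agent.S1403.result hG K hK h1 h2
  have hF : fittingHallOf M = sigmaCore M :=
    le_antisymm (Cfsg.Agent.Helper54.bg14t_fittingHall_le hG hM)
      (Cfsg.Agent.Helper31.bgc_sigmaCore_le_fittingHall hG hM hnil)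
  refine ⟨by rw [hF]; exact Cfsg.Agent.Helper24.bg11b_sigmaCore_ne_bot hG hU hM, ?_⟩
  have hcop : (Nat.card (⊥ : Subgroup G)).Coprime (Nat.card (sigmaCore M)) := by
    rw [Subgroup.card_bot]; exact Nat.coprime_one_left _
  obtain ⟨E, hE, -⟩ := Cfsg.Agent.Helper20.bg13_exists_compl_ge hG hU hM (K := ⊥) bot_le hcop
  obtain ⟨hEnil, -, -⟩ := Cfsg.Agent.Helper22.bg12_E_structure hG hU hM hE
  have hEtop : (E.subgroupOf M).map (QuotientGroup.mk' (fittingHall ↥M)) = ⊤ := by
    rw [eq_top_iff]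
    intro y _
    obtain ⟨m, rfl⟩ := QuotientGroup.mk'_surjective (fittingHall ↥M) y
    obtain ⟨e, he, s, hs, hm⟩ := hE.2.2.2 (m : G) m.2
    have hsF : s ∈ fittingHallOf M := by rw [hF]; exact hs
    obtain ⟨s', hs', hs'eq⟩ := hsF
    refine ⟨⟨e, hE.1 he⟩, Subgroup.mem_subgroupOf.mpr he, ?_⟩
    have hms : m = ⟨e, hE.1 he⟩ * s' := by
      apply Subtype.ext
      rw [Subgroup.coe_mul, hm]
      congr 1
      exact hs'eq.symm
    rw [hms, map_mul]
    have h1 : (QuotientGroup.mk' (fittingHall ↥M)) s' = 1 :=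
      (QuotientGroup.eq_one_iff s').mpr hs'
    rw [h1, mul_one]
  have hmapeq : (commutator ↥M).map (QuotientGroup.mk' (fittingHall ↥M)) =
      (⁅E.subgroupOf M, E.subgroupOf M⁆).map (QuotientGroup.mk' (fittingHall ↥M)) := by
    rw [commutator_def, Subgroup.map_commutator, Subgroup.map_commutator, hEtop,
      Subgroup.map_top_of_surjective _ (QuotientGroup.mk'_surjective _)]
  rw [hmapeq]
  have hC : (⁅E.subgroupOf M, E.subgroupOf M⁆).map M.subtype = ⁅E, E⁆ := by
    rw [Subgroup.map_commutator, Subgroup.map_subgroupOf_eq_of_le hE.1]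
  haveI h1 : Group.IsNilpotent ↥((⁅E.subgroupOf M, E.subgroupOf M⁆).map M.subtype) := by
    rw [hC]; exact hEnil
  haveI h2 : Group.IsNilpotent ↥(⁅E.subgroupOf M, E.subgroupOf M⁆) :=
    Group.nilpotent_of_mulEquiv
      (Subgroup.equivMapOfInjective _ M.subtype M.subtype_injective).symm
  exact Group.nilpotent_of_surjective
    ((QuotientGroup.mk' (fittingHall ↥M)).subgroupMap ⁅E.subgroupOf M, E.subgroupOf M⁆)
    (MonoidHom.subgroupMap_surjective _ _)

end Cfsg.Agent.Helper1
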