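/-
helper1: CALL S1357 - assembly.  B&G Theorem 15.2 (first half): for a maximal subgroup `M` with
`M_F ≠ M_σ` and standard factorisation `M = K U M_σ`: `U = 1`, `F(M)` is a TI-subset, `|K|` prime.
Pieces: Helper1 (FROB TIR DL NC FPF PR), Helper11 (DC NCP TIP TN), Helper22 (TIQ), Helper49 (DN),
BETA and QF also Helper1.
-/
import Mathlib
import Cfsg.Agent.S1372
import Cfsg.Agent.S1426
import Cfsg.Agent.S1429
import Cfsg.Agent.Helper1.BGUniqA
import Cfsg.Agent.Helper1.BG152FROB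
import Cfsg.Agent.Helper1.BG152TIR
import Cfsg.Agent.Helper1.BG152DL
import Cfsg.Agent.Helper1.BG152NC
import Cfsg.Agent.Helper1.BG152FPF
import Cfsg.Agent.Helper11.BG152DC
import Cfsg.Agent.Helper11.BG152NCP
import Cfsg.Agent.Helper11.BG152TIP
import Cfsg.Agent.Helper11.BG152TN
import Cfsg.Agent.Helper22.BG152TIQ
import Cfsg.Agent.Helper49.BG152DN
import Cfsg.Agent.Helper1.BG152BETA
import Cfsg.Agent.Helper1.BG152QF
import Cfsg.Agent.Helper23.FittingHall
import Cfsg.Agent.Helper31.BGCFHb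
import Cfsg.Agent.Helper35.CoprimeAbelian
import Cfsg.Agent.Helper49.BG14U
import Cfsg.Agent.Helper54.BG14T2
import Cfsg.Agent.Helper54.BG15E2
import Cfsg.Agent.Helper58.BG15NILU

set_option autoImplicit false

namespace Cfsg.Agent.Helper1

open Cfsg Subgroup

universe u

variable {G : Type u} [Group G] [Finite G]

/-- `M_F ≠ M_σ` makes `M_σ` non-nilpotent. -/
theorem bg152_not_nil (hG : IsMinSimpleOddOrder G) {M : Subgroup G} (hM : IsCoatom M)
    (hne : fittingHallOf M ≠ sigmaCore M) : ¬ Group.IsNilpotent ↥(sigmaCore M) := fun hnil =>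
  hne (le_antisymm (Cfsg.Agent.Helper54.bg14t_fittingHall_le hG hM)
    (Cfsg.Agent.Helper31.bgc_sigmaCore_le_fittingHall hG hM hnil))

/-- `K ≠ 1` and `U = 1` for every standard factorisation when `M_σ` is not nilpotent
(the argument of `Helper54.bg15_chain_KU`). -/
theorem bg152_KU (hG : IsMinSimpleOddOrder G) {M K U : Subgroup G} (hM : IsCoatom M)
    (hKU : IsSigmaDecomposition M K U) (hnn : ¬ Group.IsNilpotent ↥(sigmaCore M)) :
    K ≠ ⊥ ∧ U = ⊥ := by
  have hU : U = ⊥ := by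
    by_contra hU1
    by_cases hK1 : K = ⊥
    · obtain ⟨p, hp, hpU⟩ : ∃ p : ℕ, p.Prime ∧ p ∣ Nat.card U := by
        have h1 : Nat.card U ≠ 1 := by
          intro h
          exact hU1 (Subgroup.eq_bot_of_card_eq U h)
        exact ⟨_, Nat.minFac_prime h1, Nat.minFac_dvd _⟩
      haveI := Fact.mk hp
      have hπ := (Cfsg.Agent.Helper68.bg14r_U_hall hG hM hKU).2.1 p hp hpU
      have hpM : p ∣ Nat.card M := hpU.trans (Subgroup.card_dvd_of_le hKU.compl.1)
      have hP1 : ¬ (∀ q : ℕ, q.Prime → q ∣ Nat.card M → q ∉ sigma M → q ∈ kappa M) := by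
        intro h
        exact hπ.2.1 (h p hp hpM hπ.2.2)
      have hp' : p ∉ sigma M ∪ kappa M := by
        rintro (h | h)
        · exact hπ.2.2 h
        · exact hπ.2.1 h
      obtain ⟨S⟩ := (inferInstance : Nonempty (Sylow p ↥M))
      exact hnn (Cfsg.Agent.S1429.result hG M hM hP1 p hpM hp' S).2.2
    · have h := (Cfsg.Agent.S1372.result hG M hM K U hKU hK1 hU1).2.2
      exact hnn (Cfsg.Agent.Helper58.bg15_sigma_nilpotent_of_le_fitting M h)
  refine ⟨?_, hU⟩
  intro hK1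
  have hcompl := hKU.compl
  rw [hU, hK1, bot_sup_eq] at hcompl
  have h2 := (Cfsg.Agent.S1426.result hG M hM ⊥ hcompl).2.1
  have h3 : sigmaCore M = ⊥ := by
    rw [← h2]
    exact Subgroup.commutator_bot_right _
  apply hnn
  apply Cfsg.Agent.Helper58.bg15_sigma_nilpotent_of_le_fitting M
  rw [h3]
  exact bot_le

omit [Finite G] in
/-- `M` normalizes `M_F`. -/
theorem bg152_le_normalizer_fittingHallOf (M : Subgroup G) :
    M ≤ normalizer (fittingHallOf M : Set G) := by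
  rw [Subgroup.le_normalizer_iff]
  rintro x hx _ ⟨y, hy, rfl⟩
  exact ⟨⟨x, hx⟩ * y * ⟨x, hx⟩⁻¹, (fittingHall_normal ↥M).conj_mem y hy ⟨x, hx⟩, rfl⟩

/-- `M_F` is a Hall subgroup of `M`. -/
theorem bg152_fittingHallOf_hall (M : Subgroup G) :
    (Nat.card (fittingHallOf M)).Coprime ((fittingHallOf M).relIndex M) := by
  have h := Cfsg.Agent.Helper23.fittingHall_coprime ↥M
  rw [Cfsg.Agent.Helper23.card_fittingHallOf]
  have hrel : (fittingHallOf M).relIndex M = (fittingHall ↥M).index := by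
    rw [Subgroup.relIndex]
    congr 1
    exact Subgroup.comap_map_eq_self_of_injective M.subtype_injective (fittingHall ↥M)
  rw [hrel]
  exact h

/-- B&G Theorem 15.2 (first half): row S1357. -/
theorem bg152_main (hG : IsMinSimpleOddOrder G) (M : Subgroup G) (hM : IsCoatom M)
    (K U : Subgroup G) (hKU : IsSigmaDecomposition M K U)
    (hne : fittingHallOf M ≠ sigmaCore M) :
    U = ⊥ ∧ IsTISubset (fittingOf M : Set G) ∧ (Nat.card K).Prime := by
  classical
  have hnn := bg152_not_nil hG hM hne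
  obtain ⟨hK1, hU⟩ := bg152_KU hG hM hKU hnn
  have hKM : K ≤ M := hKU.hall.1
  have hσM : sigmaCore M ≤ M := Cfsg.Agent.Helper23.piCoreOf_le _ _
  have hFσ : fittingHallOf M ≤ sigmaCore M := Cfsg.Agent.Helper54.bg14t_fittingHall_le hG hM
  have hFn : M ≤ normalizer (fittingHallOf M : Set G) := bg152_le_normalizer_fittingHallOf M
  have hMsolv : Group.IsSolvable ↥M := Cfsg.Agent.Helper23.uq_isSolvable hG hM.1
  -- the complement `D`
  obtain ⟨L, hL, hKL⟩ := bg152_exists_L hG hM hKU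
  obtain ⟨hDF, hFD, hcopL⟩ := Cfsg.Agent.Helper11.bg152_hall_inf hFσ hσM hFn (bg152_fittingHallOf_hall M) hL
  set D : Subgroup G := L ⊓ sigmaCore M with hDdef
  have hDσ : D ≤ sigmaCore M := inf_le_right
  have hDM : D ≤ M := hDσ.trans hσM
  have hKD : K ≤ normalizer (D : Set G) := by
    intro k hk
    rw [Subgroup.mem_normalizer_iff]
    intro d
    have hkσ := Subgroup.mem_normalizer_iff.mp
      (Cfsg.Agent.Helper23.le_normalizer_piCoreOf (sigma M) M (hKM hk)) d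
    constructor
    · intro hd
      exact ⟨L.mul_mem (L.mul_mem (hKL hk) hd.1) (L.inv_mem (hKL hk)), hkσ.mp hd.2⟩
    · intro hd
      refine ⟨?_, hkσ.mpr hd.2⟩
      have h1 : d = k⁻¹ * (k * d * k⁻¹) * k := by group
      rw [h1]
      exact L.mul_mem (L.mul_mem (L.inv_mem (hKL hk)) hd.1) (hKL hk)
  have hDKL : D ⊔ K ≤ L := sup_le inf_le_left hKL
  have hcopDK : (Nat.card (fittingHallOf M)).Coprime (Nat.card ↥(D ⊔ K)) :=
    Nat.Coprime.coprime_dvd_right (Subgroup.card_dvd_of_le hDKL) hcopL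
  have hcopD : (Nat.card (fittingHallOf M)).Coprime (Nat.card D) :=
    Nat.Coprime.coprime_dvd_right (Subgroup.card_dvd_of_le le_sup_left) hcopDK
  have hDnil := Cfsg.Agent.Helper49.bg152_D_nilpotent hG hM hDσ hDF
  have hfpf := bg152_fpf hG hM hKU hK1 hDσ hDF
  -- `T`
  have hDFn : D ≤ normalizer (fittingHallOf M : Set G) := hDM.trans hFn
  have hT1 := bg152_comm_ne_bot hG hM hne hFD hDnil
    (fun hA hB h => Cfsg.Agent.Helper11.bg152_sup_nilpotent hA hB h)
  have hTF : ⁅fittingHallOf M, D⁆ ≤ fittingHallOf M :=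
    Cfsg.Agent.Helper35.commutator_le_of_le_normalizer hDFn
  have hTσ : ⁅fittingHallOf M, D⁆ ≤ sigmaCore M := hTF.trans hFσ
  have hTD : ⁅⁅fittingHallOf M, D⁆, D⁆ = ⁅fittingHallOf M, D⁆ :=
    Cfsg.Agent.Helper35.commutator_commutator_eq_of_coprime hDFn hcopD.symm
      (Or.inr (Cfsg.Agent.Helper35.isSolvable_of_le ((hFσ.trans hσM)) hMsolv))
  have hTsolv : Group.IsSolvable ↥⁅fittingHallOf M, D⁆ :=
    Cfsg.Agent.Helper35.isSolvable_of_le (hTσ.trans hσM) hMsolv
  have hTn := Cfsg.Agent.Helper11.bg152_T_norm hDFn (hKM.trans hFn) hKD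
  have hcopT : (Nat.card ↥⁅fittingHallOf M, D⁆).Coprime (Nat.card ↥(D ⊔ K)) :=
    Nat.Coprime.coprime_dvd_left (Subgroup.card_dvd_of_le hTF) hcopDK
  obtain ⟨hKp, hCT⟩ := bg152_frob D K ⁅fittingHallOf M, D⁆ hK1 hKD hfpf hTn hTsolv hcopT hT1 hTD
    (bg152_prime_action hG hM hKU hK1 hTσ)
  -- the prime `q`
  have hc1 : Nat.card ↥(⁅fittingHallOf M, D⁆ ⊓ centralizer (K : Set G)) ≠ 1 :=
    fun e => hCT (Subgroup.card_eq_one.mp e)
  obtain ⟨q, hq, hqd⟩ := Nat.exists_prime_and_dvd hc1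
  have hqT : q ∣ Nat.card ↥⁅fittingHallOf M, D⁆ :=
    hqd.trans (Subgroup.card_dvd_of_le inf_le_left)
  have hqK : q ∣ Nat.card ↥(sigmaCore M ⊓ centralizer (K : Set G)) :=
    hqd.trans (Subgroup.card_dvd_of_le (inf_le_inf_right _ hTσ))
  have hqβ := bg152_beta hG hM hDσ hcopD hq hqT
  obtain ⟨Q, hQF, hQq, hQU⟩ := bg152_exists_Q hG hM hKU hK1 hq hqK
  obtain ⟨hE, -, -, -⟩ := Cfsg.Agent.Helper49.bg14u_setup hG hKU
  refine ⟨hU, ?_, hKp⟩
  refine Cfsg.Agent.Helper11.bg152_TI_of_prime (Cfsg.Agent.Helper1.bgu_le_normalizer_fittingOf M) ?_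
  intro g hg y hy hyo hgy
  by_cases hyq : orderOf y = q
  · exact Cfsg.Agent.Helper22.bg152_TI_q hG hM hE hqβ hg (Cfsg.Agent.Helper1.bgu_fittingOf_le M hy) hyq
      (Cfsg.Agent.Helper1.bgu_fittingOf_le M hgy)
  · exact bg152_TI_r hG hM hq hQF hQq hQU hg hy hyo hyq hgy

end Cfsg.Agent.Helper1
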