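/-
helper1: CALL BG15 (helper25), piece AC (double): a normal Sylow subgroup of `M_σ` lies in `M_F`.
-/
import Cfsg.Agent.Helper22.BG10b
import Cfsg.Agent.S1403

set_option autoImplicit false

namespace Cfsg.Agent.Helper1

open Cfsg Subgroup

universe u

variable {G : Type u} [Group G] [Finite G]

/-- AC. A normal Sylow subgroup of `M_σ` (normal in `M`) lies in `M_F`. -/
theorem bg15_app_concl (hG : IsMinSimpleOddOrder G) (M : Subgroup G) (hM : IsCoatom M) {q : ℕ}
    (hq : q.Prime) (Q : Subgroup ↥M) (hQn : Q.Normal) (hQL : Q ≤ piCore (sigma M) ↥M)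
    (hQq : IsPGroup q Q) (hidx : ¬ q ∣ Q.relIndex (piCore (sigma M) ↥M)) :
    Q ≤ fittingHall ↥M := by
  classical
  haveI := Fact.mk hq
  have hU : Cfsg.Agent.Helper22.BGUniq G :=
    fun K hK h1 h2 => Cfsg.Agent.S1403.result hG K hK h1 h2
  obtain ⟨⟨hle, hpi, hidx'⟩, -, -⟩ := Cfsg.Agent.Helper22.bg10_sigma_hall hG hU hM
  have hrel : (sigmaCore M).relIndex M = (piCore (sigma M) ↥M).index := by
    rw [Subgroup.relIndex]
    congr 1
    exact Subgroup.comap_map_eq_self_of_injective M.subtype_injective (piCore (sigma M) ↥M)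
  have hcard : Nat.card ↥(sigmaCore M) = Nat.card ↥(piCore (sigma M) ↥M) :=
    Subgroup.card_map_of_injective M.subtype_injective
  apply le_sSup
  refine ⟨hQn, hQq.isNilpotent, ?_⟩
  obtain ⟨n, hn⟩ := IsPGroup.iff_card.mp hQq
  rw [hn]
  by_cases hn0 : n = 0
  · rw [hn0, pow_zero]; exact Nat.coprime_one_left _
  apply Nat.Coprime.pow_left
  rw [Nat.Prime.coprime_iff_not_dvd hq]
  intro hd
  rw [← Subgroup.relIndex_mul_index hQL] at hd
  rcases (Nat.Prime.dvd_mul hq).mp hd with h | h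
  · exact hidx h
  · have hqσ : q ∈ sigma M := by
      apply hpi q hq
      rw [hcard]
      exact (dvd_pow_self q hn0).trans (hn ▸ Subgroup.card_dvd_of_le hQL)
    exact hidx' q hq hqσ (hrel ▸ h)

end Cfsg.Agent.Helper1
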