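/-
helper1: CALL S1382, pieces MEMM and SWAP.
-/
import Mathlib
import Cfsg.Agent.S1431

set_option autoImplicit false

namespace Cfsg.Agent.Helper1

open Cfsg Subgroup

universe u

variable {G : Type u} [Group G] [Finite G]

/-- SWAP (pure). `m = a b = (a b a⁻¹) a`. -/
theorem bg16c_compl_swap {Γ : Type u} [Group Γ] {A N M : Subgroup Γ} (h : IsComplIn A N M)
    (hn : A ≤ normalizer (N : Set Γ)) : IsComplIn N A M := by
  obtain ⟨hA, hN, hinf, hprod⟩ := h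
  refine ⟨hN, hA, by rw [inf_comm]; exact hinf, ?_⟩
  intro m hm
  obtain ⟨a, ha, b, hb, rfl⟩ := hprod m hm
  exact ⟨a * b * a⁻¹, (Subgroup.mem_normalizer_iff.mp (hn ha) b).mp hb, a, ha, by group⟩

/-- MEMM. `K* ⊓ M^g = 1` for `g ∉ M` (row S1431, clause 1). -/
theorem bg16c_mem_M (hG : IsMinSimpleOddOrder G) {M K U : Subgroup G} (hM : IsCoatom M)
    (hKU : IsSigmaDecomposition M K U) (hK1 : K ≠ ⊥) {g y : G} (hy : y ∈ M) (hy1 : y ≠ 1)
    (hgy : g * y * g⁻¹ ∈ sigmaCore M ⊓ centralizer (K : Set G)) : g ∈ M := by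
  by_contra hg
  have h31 := (Cfsg.Agent.S1431.result hG M hM K hKU.hall hK1).1 g hg
  have h1 : g * y * g⁻¹ ∈ (sigmaCore M ⊓ centralizer (K : Set G)) ⊓
      M.map (MulAut.conj g).toMonoidHom :=
    Subgroup.mem_inf.mpr ⟨hgy, ⟨y, hy, rfl⟩⟩
  rw [h31, Subgroup.mem_bot] at h1
  apply hy1
  have h2 : y = g⁻¹ * (g * y * g⁻¹) * g := by group
  rw [h2, h1]
  group

end Cfsg.Agent.Helper1
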