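/-
helper1: CALL S1382, piece MEMZ (double).  An element of `M` conjugating a non-identity element
of `K` into `K` lies in `K ⊔ K*`.
-/
import Mathlib
import Cfsg.Agent.S1430
import Cfsg.Agent.Helper1.BG147PCcore

set_option autoImplicit false

namespace Cfsg.Agent.Helper1

open Cfsg Subgroup

universe u

variable {G : Type u} [Group G] [Finite G]

/-- MEMZ. -/
theorem bg16c_mem_Z (hG : IsMinSimpleOddOrder G) {M K U : Subgroup G} (hM : IsCoatom M)
    (hKU : IsSigmaDecomposition M K U) (hK1 : K ≠ ⊥) {g x : G} (hg : g ∈ M) (hx : x ∈ K)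
    (hx1 : x ≠ 1) (hgx : g * x * g⁻¹ ∈ K) :
    g ∈ K ⊔ (sigmaCore M ⊓ centralizer (K : Set G)) := by
  have ho : orderOf x ≠ 1 := by rwa [Ne, orderOf_eq_one_iff]
  set r := (orderOf x).minFac with hrdef
  have hr : r.Prime := Nat.minFac_prime ho
  have hrd : r ∣ orderOf x := Nat.minFac_dvd _
  set x₀ := x ^ (orderOf x / r) with hx₀def
  have hx₀r : x₀ ^ r = 1 := by
    rw [hx₀def, ← pow_mul, Nat.div_mul_cancel hrd, pow_orderOf_eq_one]
  have hpos : 0 < orderOf x := orderOf_pos x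
  have hx₀1 : x₀ ≠ 1 := by
    intro h1
    have h2 := orderOf_dvd_of_pow_eq_one h1
    have h3 : orderOf x ≤ orderOf x / r :=
      Nat.le_of_dvd (Nat.div_pos (Nat.le_of_dvd hpos hrd) hr.pos) h2
    have h4 : orderOf x / r < orderOf x := Nat.div_lt_self hpos hr.one_lt
    omega
  haveI := Fact.mk hr
  have hox₀ : orderOf x₀ = r := orderOf_eq_prime hx₀r hx₀1
  have hx₀K : x₀ ∈ K := K.pow_mem hx _
  have hgx₀ : g * x₀ * g⁻¹ = (g * x * g⁻¹) ^ (orderOf x / r) := by rw [conj_pow]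
  have hgx₀K : g * x₀ * g⁻¹ ∈ K := by rw [hgx₀]; exact K.pow_mem hgx _
  have hogx₀ : orderOf (g * x₀ * g⁻¹) = orderOf x₀ :=
    orderOf_injective (MulAut.conj g).toMonoidHom (MulAut.conj g).injective x₀
  have hX₀K : zpowers x₀ ≤ K := (zpowers_le).mpr hx₀K
  have hX₀p : (Nat.card (zpowers x₀)).Prime := by rw [Nat.card_zpowers, hox₀]; exact hr
  have hX₁K : zpowers (g * x₀ * g⁻¹) ≤ K := (zpowers_le).mpr hgx₀K
  have heq : zpowers (g * x₀ * g⁻¹) = zpowers x₀ :=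
    bg147_eq_of_card_eq hKU.cyclic hX₁K hX₀K (by
      rw [Nat.card_zpowers, Nat.card_zpowers, hogx₀])
  have h30 := ((Cfsg.Agent.S1430.result hG M hM K hKU.hall hK1).2.2 (zpowers x₀) hX₀K hX₀p).1
  rw [← h30]
  refine Subgroup.mem_inf.mpr ⟨hg, ?_⟩
  rw [Subgroup.mem_normalizer_iff]
  intro h
  constructor
  · intro hh
    obtain ⟨k, rfl⟩ := Subgroup.mem_zpowers_iff.mp hh
    have h1 : g * x₀ ^ k * g⁻¹ = (g * x₀ * g⁻¹) ^ k := by rw [conj_zpow]
    have h2 : (g * x₀ * g⁻¹) ^ k ∈ zpowers x₀ := by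
      rw [← heq]
      exact Subgroup.zpow_mem_zpowers _ _
    rw [h1]
    exact h2
  · intro hh
    have hh' : g * h * g⁻¹ ∈ zpowers (g * x₀ * g⁻¹) := by rw [heq]; exact hh
    obtain ⟨k, hk⟩ := Subgroup.mem_zpowers_iff.mp hh'
    have h1 : (g * x₀ * g⁻¹) ^ k = g * x₀ ^ k * g⁻¹ := by rw [conj_zpow]
    rw [h1] at hk
    have h2 : h = x₀ ^ k := (mul_left_cancel (mul_right_cancel hk)).symm
    rw [h2]
    exact Subgroup.zpow_mem_zpowers _ _

end Cfsg.Agent.Helper1
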