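/-
helper1: CALL S1382, piece ND (double).  `N_G(D) ≤ M` for a nilpotent Hall subgroup `D ≠ 1` of
`M_σ` complementing `M_F`.
-/
import Mathlib
import Cfsg.Agent.S1350
import Cfsg.Agent.Helper1.BG152Main
import Cfsg.Agent.Helper23.Trans
import Cfsg.Agent.Helper35.Coprime
import Cfsg.Agent.Helper49.BG1216
import Cfsg.Agent.Helper54.BG14T2
import Cfsg.Agent.Helper62.BG72B

set_option autoImplicit false

namespace Cfsg.Agent.Helper1

open Cfsg Subgroup

universe u

variable {G : Type u} [Group G] [Finite G]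

/-- ND. -/
theorem bg16c_normalizer_D (hG : IsMinSimpleOddOrder G) {M D : Subgroup G} (hM : IsCoatom M)
    (hD : D ≤ sigmaCore M) (hDF : D ⊓ fittingHallOf M = ⊥)
    (hFD : fittingHallOf M ⊔ D = sigmaCore M)
    (hcop : (Nat.card (fittingHallOf M)).Coprime (Nat.card D))
    (hR : ∃ (r : ℕ) (R : Subgroup G), r.Prime ∧ R ≤ D ∧ R ≠ ⊥ ∧ IsPGroup r R ∧
      ¬ r ∣ R.relIndex D ∧ ∀ g ∈ normalizer (D : Set G), g ∈ normalizer (R : Set G)) :
    normalizer (D : Set G) ≤ M := by
  obtain ⟨r, R, hr, hRD, hR1, hRp, hRi, hRn⟩ := hR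
  haveI := Fact.mk hr
  have hσM : sigmaCore M ≤ M := Cfsg.Agent.Helper23.piCoreOf_le _ _
  have hFσ : fittingHallOf M ≤ sigmaCore M := Cfsg.Agent.Helper54.bg14t_fittingHall_le hG hM
  have hFn : M ≤ normalizer (fittingHallOf M : Set G) := bg152_le_normalizer_fittingHallOf M
  have hrR : r ∣ Nat.card R := by
    obtain ⟨n, hn⟩ := hRp.exists_card_eq
    have hn0 : n ≠ 0 := by
      rintro rfl
      rw [pow_zero] at hn
      exact hR1 (Subgroup.card_eq_one.mp hn)
    rw [hn]
    exact dvd_pow_self r hn0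
  have hrD : r ∣ Nat.card D := hrR.trans (Subgroup.card_dvd_of_le hRD)
  have hrσ : r ∈ sigma M :=
    Cfsg.Agent.Helper23.mem_of_dvd_card_piCoreOf (sigma M) M hr
      (hrD.trans (Subgroup.card_dvd_of_le hD))
  -- `|M_σ| = |M_F| |D|`
  have hc : IsComplIn (fittingHallOf M) D (sigmaCore M) := by
    refine ⟨hFσ, hD, by rw [inf_comm]; exact hDF, ?_⟩
    intro m hm
    rw [← hFD] at hm
    exact Cfsg.Agent.Helper35.exists_mul_of_mem_sup_of_le_normalizer
      ((hD.trans hσM).trans hFn) hm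
  have hcard := Cfsg.Agent.Helper62.bg72_card_compl hc
  have hrel : D.relIndex (sigmaCore M) = Nat.card (fittingHallOf M) := by
    have h1 : D.relIndex (sigmaCore M) * Nat.card D = Nat.card (sigmaCore M) := by
      have h0 := (D.subgroupOf (sigmaCore M)).index_mul_card
      rwa [Cfsg.Agent.Helper35.card_subgroupOf_of_le hD] at h0
    rw [hcard] at h1
    exact Nat.eq_of_mul_eq_mul_right Nat.card_pos h1
  have hrF : ¬ r ∣ Nat.card (fittingHallOf M) := fun h =>
    hr.one_lt.ne' (Nat.eq_one_of_dvd_coprimes hcop h hrD)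
  have hrσi : ¬ r ∣ (sigmaCore M).relIndex M :=
    (Cfsg.Agent.S1350.result hG M hM).1.2.2 r hr hrσ
  have hRM : R ≤ M := (hRD.trans hD).trans hσM
  have hrRM : ¬ r ∣ R.relIndex M := by
    rw [← Subgroup.relIndex_mul_relIndex R (sigmaCore M) M (hRD.trans hD) hσM,
      ← Subgroup.relIndex_mul_relIndex R D (sigmaCore M) hRD hD, hrel]
    intro h
    rcases (Nat.Prime.dvd_mul hr).mp h with h1 | h1
    · rcases (Nat.Prime.dvd_mul hr).mp h1 with h2 | h2
      · exact hRi h2
      · exact hrF h2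
    · exact hrσi h1
  have hS : Cfsg.Agent.Helper23.IsSylowOf r R M := by
    refine ⟨hRM, hRp, ?_⟩
    intro T hTM hTp hRT
    apply le_antisymm _ hRT
    rw [← Subgroup.relIndex_eq_one]
    obtain ⟨k, hk⟩ := hTp.exists_card_eq
    have h1 : R.relIndex T ∣ r ^ k := hk ▸ Subgroup.relIndex_dvd_card R T
    obtain ⟨j, -, hj⟩ := (Nat.dvd_prime_pow hr).mp h1
    have h2 : R.relIndex T ∣ R.relIndex M :=
      Dvd.intro _ (Subgroup.relIndex_mul_relIndex R T M hRT hTM)
    rcases Nat.eq_zero_or_pos j with h0 | h0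
    · rw [hj, h0, pow_zero]
    · exfalso
      apply hrRM
      refine dvd_trans ?_ h2
      rw [hj]
      exact dvd_pow_self r (Nat.pos_iff_ne_zero.mp h0)
  intro g hg
  exact Cfsg.Agent.Helper49.bg1216_sigma_normalizer_le hrσ hS (hRn g hg)

end Cfsg.Agent.Helper1
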