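/-
helper1: CALL S1382, piece T2 (double).  `K ≠ 1`, `U ≠ 1` is incompatible with a complement `U'`
of `M_F` in `M'` having `N_G(U') ≤ M`.
-/
import Mathlib
import Cfsg.Agent.S1363
import Cfsg.Agent.S1365
import Cfsg.Agent.S1372
import Cfsg.Agent.Helper23.Trans
import Cfsg.Agent.Helper23.Uniq
import Cfsg.Agent.Helper31.BGCFHb
import Cfsg.Agent.Helper35.Coprime
import Cfsg.Agent.Helper54.BG14T2
import Cfsg.Agent.Helper58.BG15NILU
import Cfsg.Agent.Helper68.BG14R30

set_option autoImplicit false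

namespace Cfsg.Agent.Helper1

open Cfsg Subgroup

universe u

variable {G : Type u} [Group G] [Finite G]

/-- T2. -/
theorem bg16c_type2_false (hG : IsMinSimpleOddOrder G) {M K U U' : Subgroup G} (hM : IsCoatom M)
    (hKU : IsSigmaDecomposition M K U) (hK1 : K ≠ ⊥) (hU1 : U ≠ ⊥)
    (hc : IsComplIn (fittingHallOf M) U' ⁅M, M⁆) (hn : normalizer (U' : Set G) ≤ M)
    (hconj : ∀ {N A B S : Subgroup G}, IsComplIn N A S → IsComplIn N B S →
      A ≤ normalizer (N : Set G) → (Nat.card A).Coprime (Nat.card N) → Group.IsSolvable ↥N →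
      ∃ n ∈ N, B = A.map (MulAut.conj n).toMonoidHom) : False := by
  have hσM : sigmaCore M ≤ M := Cfsg.Agent.Helper23.piCoreOf_le _ _
  have hSn : M ≤ normalizer (sigmaCore M : Set G) :=
    Cfsg.Agent.Helper23.le_normalizer_piCoreOf (sigma M) M
  have h72 := (Cfsg.Agent.S1372.result hG M hM K U hKU hK1 hU1).2.2
  have hnil := Cfsg.Agent.Helper58.bg15_sigma_nilpotent_of_le_fitting M h72
  have hF : fittingHallOf M = sigmaCore M :=
    le_antisymm (Cfsg.Agent.Helper54.bg14t_fittingHall_le hG hM)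
      (Cfsg.Agent.Helper31.bgc_sigmaCore_le_fittingHall hG hM hnil)
  have h65 := (Cfsg.Agent.S1365.result hG M hM K U hKU hK1).1
  have h63 := (Cfsg.Agent.S1363.result hG M hM K U hKU hK1).2
  obtain ⟨hUM, hKσM, hinf, hprod⟩ := hKU.compl
  have hUσ : sigmaCore M ⊓ U = ⊥ := by
    rw [eq_bot_iff, ← hinf, inf_comm]
    exact inf_le_inf_left U le_sup_right
  have hUn : U ≤ normalizer (sigmaCore M : Set G) := hUM.trans hSn
  have hA : IsComplIn (sigmaCore M) U ⁅M, M⁆ := by
    rw [h65]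
    refine ⟨le_sup_right, le_sup_left, hUσ, ?_⟩
    intro m hm
    rw [sup_comm] at hm
    exact Cfsg.Agent.Helper35.exists_mul_of_mem_sup_of_le_normalizer hUn hm
  have hB : IsComplIn (sigmaCore M) U' ⁅M, M⁆ := hF ▸ hc
  have hcop : (Nat.card U).Coprime (Nat.card (sigmaCore M)) := by
    apply Nat.coprime_of_dvd
    intro p hp hpU hpσ
    have h1 := (Cfsg.Agent.Helper68.bg14r_U_hall hG hM hKU).2.1 p hp hpU
    exact h1.2.2 (Cfsg.Agent.Helper23.mem_of_dvd_card_piCoreOf (sigma M) M hp hpσ)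
  have hsolv : Group.IsSolvable ↥(sigmaCore M) :=
    Cfsg.Agent.Helper35.isSolvable_of_le hσM (Cfsg.Agent.Helper23.uq_isSolvable hG hM.1)
  obtain ⟨n, hnσ, hU'⟩ := hconj hA hB hUn hcop hsolv
  apply h63
  intro g hg
  have h1 : n * g * n⁻¹ ∈ normalizer (U' : Set G) := by
    rw [hU', Subgroup.mem_normalizer_iff]
    intro x
    constructor
    · rintro ⟨u, hu, rfl⟩
      refine ⟨g * u * g⁻¹, (Subgroup.mem_normalizer_iff.mp hg u).mp hu, ?_⟩
      simp only [MulEquiv.coe_toMonoidHom, MulAut.conj_apply]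
      group
    · rintro ⟨u, hu, hux⟩
      refine ⟨g⁻¹ * u * g, ?_, ?_⟩
      · have h3 := (Subgroup.mem_normalizer_iff.mp (inv_mem hg) u).mp hu
        simpa using h3
      · simp only [MulEquiv.coe_toMonoidHom, MulAut.conj_apply] at hux ⊢
        have h4 : x = (n * g * n⁻¹)⁻¹ * (n * u * n⁻¹) * (n * g * n⁻¹) := by
          rw [hux]
          group
        rw [h4]
        group
  have h2 := hn h1
  have hnM : n ∈ M := hσM hnσ
  have h5 : g = n⁻¹ * (n * g * n⁻¹) * n := by group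
  rw [h5]
  exact M.mul_mem (M.mul_mem (M.inv_mem hnM) h2) hnM

end Cfsg.Agent.Helper1
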