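import Mathlib.GroupTheory.SpecificGroups.Cyclic
import Mathlib.GroupTheory.Subgroup.Centralizer
import Mathlib.RepresentationTheory.Basic
import Mathlib.Tactic.Group

set_option autoImplicit false
open scoped IsMulCommutative

namespace Cfsg.Agent.Helper1

/-- If `X ^ r = 1` and `j` is prime to `r` then `t ↦ X ^ (t * j)` runs over the powers of `X`. -/
theorem sum_pow_mul_of_coprime {R : Type*} [Semiring R] (X : R) (r : ℕ) (hr : 0 < r)
    (hX : X ^ r = 1) (j : ℕ) (hj : Nat.Coprime r j) :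
    ∑ t ∈ Finset.range r, X ^ (t * j) = ∑ i ∈ Finset.range r, X ^ i := by
  have h1 : ∀ t, X ^ (t * j) = X ^ ((t * j) % r) := fun t => pow_eq_pow_mod _ hX
  simp_rw [h1]
  have hmaps : ∀ t ∈ Finset.range r, (t * j) % r ∈ Finset.range r :=
    fun t _ => Finset.mem_range.mpr (Nat.mod_lt _ hr)
  have hinj : Set.InjOn (fun t => (t * j) % r) (Finset.range r : Set ℕ) := by
    intro t ht t' ht' h
    simp only [Finset.coe_range, Set.mem_Iio] at ht ht'
    have h2 : t * j ≡ t' * j [MOD r] := h
    have h3 := Nat.ModEq.cancel_right_of_coprime hj h2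
    exact Nat.ModEq.eq_of_lt_of_lt h3 ht ht'
  refine Finset.sum_nbij (fun t => (t * j) % r) hmaps hinj ?_ (fun t _ => rfl)
  exact Finset.surjOn_of_injOn_of_card_le _ (fun t ht => hmaps t ht) hinj le_rfl

/-- The basic identity for a pair of commuting elements `X`, `Y` with `X ^ r = 1`, `r` prime. -/
theorem sum_sum_pow_mul {R : Type*} [Semiring R] (X Y : R) (hXY : Commute X Y) (r : ℕ)
    (hr : r.Prime) (hX : X ^ r = 1) :
    ∑ t ∈ Finset.range r, ∑ j ∈ Finset.range r, (X ^ t * Y) ^ j
      = (r : R) + (∑ i ∈ Finset.range r, X ^ i) * ∑ j ∈ Finset.Ico 1 r, Y ^ j := by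
  rw [Finset.sum_comm]
  have h1 : ∀ j t, (X ^ t * Y) ^ j = X ^ (t * j) * Y ^ j := by
    intro j t
    rw [(hXY.pow_left t).mul_pow j, ← pow_mul]
  simp_rw [h1, ← Finset.sum_mul]
  rw [Finset.range_eq_Ico, Finset.sum_eq_sum_Ico_succ_bot hr.pos]
  congr 1
  · simp
  · rw [Finset.mul_sum]
    refine Finset.sum_congr rfl (fun j hj => ?_)
    rw [Finset.mem_Ico] at hj
    have hcop : Nat.Coprime r j :=
      (Nat.Prime.coprime_iff_not_dvd hr).mpr (Nat.not_dvd_of_pos_of_lt (by omega) hj.2)
    rw [← Finset.range_eq_Ico, sum_pow_mul_of_coprime X r hr.pos hX j hcop]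

/-- An endomorphism `Z` with `Z ^ r = 1` without nonzero fixed points has vanishing norm. -/
theorem norm_eq_zero_of_fpf {A : Type*} [AddCommGroup A] (Z : AddMonoid.End A) (r : ℕ)
    (hZ : Z ^ r = 1) (hf : ∀ w, Z w = w → w = 0) :
    ∑ i ∈ Finset.range r, Z ^ i = 0 := by
  have h1 : Z * ∑ i ∈ Finset.range r, Z ^ i = ∑ i ∈ Finset.range r, Z ^ i := by
    rw [Finset.mul_sum]
    have h2 : ∀ i, Z * Z ^ i = Z ^ (i + 1) := fun i => (pow_succ' Z i).symm
    simp_rw [h2]
    have h3 := Finset.sum_range_succ' (fun i => Z ^ i) r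
    have h4 := Finset.sum_range_succ (fun i => Z ^ i) r
    simp only [pow_zero] at h3
    rw [hZ] at h4
    exact add_right_cancel (h3.symm.trans h4)
  ext w
  have h5 : Z ((∑ i ∈ Finset.range r, Z ^ i) w) = (∑ i ∈ Finset.range r, Z ^ i) w := by
    have := congrArg (fun f : AddMonoid.End A => f w) h1
    simpa using this
  simpa using hf _ h5

/-- Two commuting endomorphisms `X`, `Y` of exponent the prime `r` of an abelian group `A`,
such that `X` and all `X ^ t * Y` have no nonzero fixed point: then `r • m = 0` on `A`. -/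
theorem nsmul_eq_zero_of_fpf {A : Type*} [AddCommGroup A] (X Y : AddMonoid.End A)
    (hXY : Commute X Y) (r : ℕ) (hr : r.Prime) (hX : X ^ r = 1) (hY : Y ^ r = 1)
    (hfX : ∀ w, X w = w → w = 0) (hfXY : ∀ t < r, ∀ w, (X ^ t * Y) w = w → w = 0) (m : A) :
    r • m = 0 := by
  have h1 := sum_sum_pow_mul X Y hXY r hr hX
  have h2 : ∑ i ∈ Finset.range r, X ^ i = 0 := norm_eq_zero_of_fpf X r hX hfX
  have h3 : ∀ t ∈ Finset.range r, ∑ j ∈ Finset.range r, (X ^ t * Y) ^ j = 0 := by
    intro t ht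
    apply norm_eq_zero_of_fpf _ r _ (hfXY t (Finset.mem_range.mp ht))
    rw [(hXY.pow_left t).mul_pow r, ← pow_mul, mul_comm t r, pow_mul, hX, one_pow, hY, one_mul]
  rw [Finset.sum_eq_zero h3, h2, zero_mul, add_zero] at h1
  have h4 := congrArg (fun f : AddMonoid.End A => f m) h1
  simp only [AddMonoid.End.natCast_apply] at h4
  simpa using h4.symm

/-- The conjugation action of the normaliser of the abelian subgroup `V` on `Additive V`. -/
noncomputable def conjEnd {G : Type*} [Group G] (V : Subgroup G) [IsMulCommutative V] :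
    Subgroup.normalizer (V : Set G) →* AddMonoid.End (Additive V) :=
  (monoidEndToAdditive V : _ →* _).comp
    (MulDistribMulAction.toMonoidEnd (Subgroup.normalizer (V : Set G)) V)

theorem conjEnd_apply_coe {G : Type*} [Group G] (V : Subgroup G) [IsMulCommutative V]
    (g : Subgroup.normalizer (V : Set G)) (w : Additive V) :
    ((conjEnd V g w).toMul : G) = (g : G) * (w.toMul : G) * (g : G)⁻¹ := rfl

/-- An element without nontrivial fixed points in `V` gives a fixed-point-free endomorphism. -/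
theorem conjEnd_fix {G : Type*} [Group G] (V : Subgroup G) [IsMulCommutative V]
    (g : Subgroup.normalizer (V : Set G)) (hg : V ⊓ Subgroup.centralizer {(g : G)} = ⊥)
    (w : Additive V) (hw : conjEnd V g w = w) : w = 0 := by
  have h1 : (g : G) * (w.toMul : G) * (g : G)⁻¹ = (w.toMul : G) := by
    rw [← conjEnd_apply_coe V g w, hw]
  have h2 : (w.toMul : G) ∈ V ⊓ Subgroup.centralizer {(g : G)} := by
    refine ⟨w.toMul.2, ?_⟩
    show (w.toMul : G) ∈ Subgroup.centralizer {(g : G)}
    rw [Subgroup.mem_centralizer_singleton_iff]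
    calc (w.toMul : G) * (g : G) = (g : G) * (w.toMul : G) * (g : G)⁻¹ * (g : G) := by rw [h1]
      _ = (g : G) * (w.toMul : G) := by group
  rw [hg, Subgroup.mem_bot] at h2
  have h3 : w.toMul = 1 := Subtype.ext h2
  exact Additive.toMul.injective h3

theorem pow_eq_one_of_nsmul {G : Type*} [Group G] (V : Subgroup G) [IsMulCommutative V] (n : ℕ)
    (h : ∀ m : Additive V, n • m = 0) (v : G) (hv : v ∈ V) : v ^ n = 1 := by
  have h5 : (⟨v, hv⟩ : V) ^ n = 1 := by
    have := congrArg Additive.toMul (h (Additive.ofMul ⟨v, hv⟩))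
    simpa using this
  exact congrArg Subtype.val h5

/-- Group form: an abelian subgroup `V` normalised by two commuting elements `x`, `y` of order
dividing the prime `r`, such that `x` and all `x ^ t * y` have no nontrivial fixed point in `V`,
has exponent dividing `r`. -/
theorem pow_eq_one_of_fpf {G : Type*} [Group G] (V : Subgroup G) [IsMulCommutative V]
    (x y : G) (hx : x ∈ Subgroup.normalizer (V : Set G)) (hy : y ∈ Subgroup.normalizer (V : Set G))
    (hxy : x * y = y * x) (r : ℕ) (hr : r.Prime) (hxr : x ^ r = 1) (hyr : y ^ r = 1)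
    (hfx : V ⊓ Subgroup.centralizer {x} = ⊥)
    (hfxy : ∀ t < r, V ⊓ Subgroup.centralizer {x ^ t * y} = ⊥) (v : G) (hv : v ∈ V) :
    v ^ r = 1 := by
  set X := conjEnd V ⟨x, hx⟩ with hXdef
  set Y := conjEnd V ⟨y, hy⟩ with hYdef
  have hcomm : Commute X Y := by
    have : Commute (⟨x, hx⟩ : Subgroup.normalizer (V : Set G)) ⟨y, hy⟩ := Subtype.ext hxy
    exact this.map (conjEnd V)
  have hXr : X ^ r = 1 := by
    rw [hXdef, ← map_pow]
    have : (⟨x, hx⟩ : Subgroup.normalizer (V : Set G)) ^ r = 1 := Subtype.ext hxr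
    rw [this, map_one]
  have hYr : Y ^ r = 1 := by
    rw [hYdef, ← map_pow]
    have : (⟨y, hy⟩ : Subgroup.normalizer (V : Set G)) ^ r = 1 := Subtype.ext hyr
    rw [this, map_one]
  have hXt : ∀ t, X ^ t * Y = conjEnd V (⟨x, hx⟩ ^ t * ⟨y, hy⟩) := by
    intro t; rw [map_mul, map_pow]
  exact pow_eq_one_of_nsmul V r
    (nsmul_eq_zero_of_fpf X Y hcomm r hr hXr hYr (conjEnd_fix V ⟨x, hx⟩ hfx)
      (fun t ht w hw => by
        rw [hXt] at hw
        exact conjEnd_fix V _ (hfxy t ht) w hw)) v hv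

end Cfsg.Agent.Helper1
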