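/-
helper1: CALL S1382 - assembly.  A maximal subgroup `M = K U M_σ` of a minimal simple group of
odd order is of Type III or IV iff `K ≠ 1`, `U = 1` and `M_F ≠ M_σ` (B&G Theorem 16.1).
Pieces: Helper1 (SWAP MEMM MEMZ T2 ND), Helper19 (POW SNA ZCYC), Helper20 (KAPN SZ),
Helper88 (NDP), Helper49 (RK1); rows S1356 (helper99) and S1357.
-/
import Mathlib
import Cfsg.Agent.S1356
import Cfsg.Agent.S1357
import Cfsg.Agent.S1364
import Cfsg.Agent.S1365
import Cfsg.Agent.S1430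
import Cfsg.Agent.Helper1.BG152Main
import Cfsg.Agent.Helper1.BG16cMEMM
import Cfsg.Agent.Helper1.BG16cMEMZ
import Cfsg.Agent.Helper1.BG16cT2
import Cfsg.Agent.Helper1.BG16cND
import Cfsg.Agent.Helper19.BG16cPOW
import Cfsg.Agent.Helper19.BG16cSNA
import Cfsg.Agent.Helper19.BG16cZCYC
import Cfsg.Agent.Helper20.BG16cKAPN
import Cfsg.Agent.Helper20.BG16cSZ
import Cfsg.Agent.Helper88.BG16cNDP
import Cfsg.Agent.Helper49.BG16cRK1

set_option autoImplicit false

namespace Cfsg.Agent.Helper1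

open Cfsg Subgroup

universe u

variable {G : Type u} [Group G] [Finite G]

/-- The `K`-invariant nilpotent complement `D` of `M_F` in `M_σ`. -/
theorem bg16c_D_data (hG : IsMinSimpleOddOrder G) {M K U : Subgroup G} (hM : IsCoatom M)
    (hKU : IsSigmaDecomposition M K U) (hne : fittingHallOf M ≠ sigmaCore M) :
    ∃ D : Subgroup G, D ≤ sigmaCore M ∧ K ≤ normalizer (D : Set G) ∧
      D ⊓ fittingHallOf M = ⊥ ∧ fittingHallOf M ⊔ D = sigmaCore M ∧
      (Nat.card (fittingHallOf M)).Coprime (Nat.card D) ∧ Group.IsNilpotent ↥D ∧ D ≠ ⊥ := by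
  have hKM : K ≤ M := hKU.hall.1
  have hσM : sigmaCore M ≤ M := Cfsg.Agent.Helper23.piCoreOf_le _ _
  have hFσ : fittingHallOf M ≤ sigmaCore M := Cfsg.Agent.Helper54.bg14t_fittingHall_le hG hM
  have hFn : M ≤ normalizer (fittingHallOf M : Set G) := bg152_le_normalizer_fittingHallOf M
  obtain ⟨L, hL, hKL⟩ := bg152_exists_L hG hM hKU
  obtain ⟨hDF, hFD, hcopL⟩ :=
    Cfsg.Agent.Helper11.bg152_hall_inf hFσ hσM hFn (bg152_fittingHallOf_hall M) hL
  have hDσ : L ⊓ sigmaCore M ≤ sigmaCore M := inf_le_right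
  have hKD : K ≤ normalizer ((L ⊓ sigmaCore M : Subgroup G) : Set G) := by
    intro k hk
    rw [Subgroup.mem_normalizer_iff]
    intro d
    have hkσ := Subgroup.mem_normalizer_iff.mp
      (Cfsg.Agent.Helper23.le_normalizer_piCoreOf (sigma M) M (hKM hk)) d
    constructor
    · intro hd
      exact ⟨L.mul_mem (L.mul_mem (hKL hk) hd.1) (L.inv_mem (hKL hk)), hkσ.mp hd.2⟩
    · intro hd
      refine ⟨?_, hkσ.mpr hd.2⟩
      have h1 : d = k⁻¹ * (k * d * k⁻¹) * k := by group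
      rw [h1]
      exact L.mul_mem (L.mul_mem (L.inv_mem (hKL hk)) hd.1) (hKL hk)
  have hcopD : (Nat.card (fittingHallOf M)).Coprime (Nat.card ↥(L ⊓ sigmaCore M)) :=
    Nat.Coprime.coprime_dvd_right (Subgroup.card_dvd_of_le inf_le_left) hcopL
  refine ⟨L ⊓ sigmaCore M, hDσ, hKD, hDF, hFD, hcopD,
    Cfsg.Agent.Helper49.bg152_D_nilpotent hG hM hDσ hDF, ?_⟩
  intro hbot
  rw [hbot, sup_bot_eq] at hFD
  exact hne hFD

/-- elements of a cyclic subgroup commute -/
theorem bg16c_cyc_comm {Γ : Type u} [Group Γ] {H : Subgroup Γ} (h : IsCyclic ↥H) :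
    ∀ a ∈ H, ∀ b ∈ H, a * b = b * a := by
  intro a ha b hb
  obtain ⟨g, hg⟩ := h.exists_generator
  obtain ⟨i, hi⟩ := Subgroup.mem_zpowers_iff.mp (hg ⟨a, ha⟩)
  obtain ⟨j, hj⟩ := Subgroup.mem_zpowers_iff.mp (hg ⟨b, hb⟩)
  have h1 : (⟨a, ha⟩ : ↥H) * ⟨b, hb⟩ = ⟨b, hb⟩ * ⟨a, ha⟩ := by
    rw [← hi, ← hj, ← zpow_add, ← zpow_add, add_comm]
  exact congrArg Subtype.val h1

/-- `|K|` is prime to `|K*|`. -/
theorem bg16c_coprime (hG : IsMinSimpleOddOrder G) {M K U : Subgroup G} (hM : IsCoatom M)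
    (hKU : IsSigmaDecomposition M K U) :
    (Nat.card K).Coprime (Nat.card ↥(sigmaCore M ⊓ centralizer (K : Set G))) := by
  apply Nat.coprime_of_dvd
  intro p hp hpK hpS
  have hκ := hKU.hall.2.1 p hp hpK
  have hσ : p ∈ sigma M := by
    apply Cfsg.Agent.Helper23.mem_of_dvd_card_piCoreOf (sigma M) M hp
    exact hpS.trans (Subgroup.card_dvd_of_le inf_le_left)
  exact hκ.2.2.1 hσ

/-- (⟸) of row S1382. -/
theorem bg16c_backward (hG : IsMinSimpleOddOrder G) (M : Subgroup G) (hM : IsCoatom M)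
    (K U : Subgroup G) (hKU : IsSigmaDecomposition M K U) (hK1 : K ≠ ⊥) (hU : U = ⊥)
    (hne : fittingHallOf M ≠ sigmaCore M) : IsOfTypeIII M ∨ IsOfTypeIV M := by
  classical
  have hKM : K ≤ M := hKU.hall.1
  have hσM : sigmaCore M ≤ M := Cfsg.Agent.Helper23.piCoreOf_le _ _
  have hSn : M ≤ normalizer (sigmaCore M : Set G) :=
    Cfsg.Agent.Helper23.le_normalizer_piCoreOf (sigma M) M
  have hFσ : fittingHallOf M ≤ sigmaCore M := Cfsg.Agent.Helper54.bg14t_fittingHall_le hG hM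
  have hFn : M ≤ normalizer (fittingHallOf M : Set G) := bg152_le_normalizer_fittingHallOf M
  have h64 := Cfsg.Agent.S1364.result hG M hM K U hKU hK1
  have h65 := Cfsg.Agent.S1365.result hG M hM K U hKU hK1
  have h30 := Cfsg.Agent.S1430.result hG M hM K hKU.hall hK1
  have h57 := Cfsg.Agent.S1357.result hG M hM K U hKU hne
  have h56 := Cfsg.Agent.S1356.result hG M hM
  have hcomm : ⁅M, M⁆ = sigmaCore M := by rw [h65.1, hU, bot_sup_eq]
  obtain ⟨hE, -, -, -⟩ := Cfsg.Agent.Helper49.bg14u_setup hG hKU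
  rw [hU, bot_sup_eq] at hE
  obtain ⟨D, hDσ, hKD, hDF, hFD, hcopD, hDnil, hD1⟩ := bg16c_D_data hG hM hKU hne
  have hκ : (kappa M).Nonempty := by
    have hc1 : Nat.card K ≠ 1 := fun e => hK1 (Subgroup.card_eq_one.mp e)
    obtain ⟨p, hp, hpK⟩ := Nat.exists_prime_and_dvd hc1
    exact ⟨p, hKU.hall.2.1 p hp hpK⟩
  have hKσ : K ⊓ sigmaCore M = ⊥ := Cfsg.Agent.Helper49.bg14u_kappa_inf_sigma hKU.hall.2.1
  have hKKs : ∀ a ∈ K, ∀ b ∈ sigmaCore M ⊓ centralizer (K : Set G), a * b = b * a :=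
    fun a ha b hb => (Subgroup.mem_centralizer_iff.mp (Subgroup.mem_inf.mp hb).2) a ha
  have hcopK := bg16c_coprime hG hM hKU
  have hP : IsTypePWith M K D (sigmaCore M ⊓ centralizer (K : Set G)) :=
    { W₁_ne := hK1
      W₁_cyclic := hKU.cyclic
      W₁_hall := by
        apply Nat.coprime_of_dvd
        intro p hp hpK hpi
        exact hKU.hall.2.2 p hp (hKU.hall.2.1 p hp hpK) hpi
      W₁_compl := by
        rw [hcomm]
        exact bg16c_compl_swap hE (hKM.trans hSn)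
      U_nilpotent := hDnil
      U_normal := hKD
      U_compl := by
        rw [hcomm]
        refine ⟨hFσ, hDσ, by rw [inf_comm]; exact hDF, ?_⟩
        intro m hm
        rw [← hFD] at hm
        exact Cfsg.Agent.Helper35.exists_mul_of_mem_sup_of_le_normalizer
          ((hDσ.trans hσM).trans hFn) hm
      H_not_cyclic := h64.2.2.2
      derived_two_le := h56.1.trans (h56.2.1.le.trans (le_of_eq (sup_comm _ _)))
      fitting_eq := (sup_comm _ _).trans h56.2.1.symm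
      fitting_le := h56.2.2 hκ
      W₂_le := le_inf h64.2.2.1 h65.2
      W₂_centralizer := by
        intro x hx hx1
        rw [hcomm]
        exact h30.1 x hx hx1
      selfNormalizing := by
        refine ⟨hK1, h64.2.1, ?_, hKKs, Cfsg.Agent.Helper19.bg16c_sup_cyclic hKU.cyclic h64.1 hKKs hcopK, ?_⟩
        · rw [eq_bot_iff, ← hKσ]
          exact inf_le_inf_left K inf_le_left
        · intro X hX hXne
          refine Cfsg.Agent.Helper19.bg16c_normalizer_pure (M := M) (bg16c_cyc_comm hKU.cyclic) (bg16c_cyc_comm h64.1)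
            hKKs (inf_le_left.trans hσM)
            (fun z hz hzA => Cfsg.Agent.Helper19.bg16c_pow_mem hKKs hcopK hz hzA)
            (fun z hz hzB => ?_)
            (fun g y hy hy1 hgy => bg16c_mem_M hG hM hKU hK1 hy hy1 hgy)
            (fun g x hg hx hx1 hgx => bg16c_mem_Z hG hM hKU hK1 hg hx hx1 hgx) X hX hXne
          have hz' : z ∈ (sigmaCore M ⊓ centralizer (K : Set G)) ⊔ K := by rwa [sup_comm]
          exact Cfsg.Agent.Helper19.bg16c_pow_mem (fun a ha b hb => (hKKs b hb a ha).symm) hcopK.symm hz' hzB }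
  have hND : normalizer (D : Set G) ≤ M :=
    bg16c_normalizer_D hG hM hDσ hDF hFD hcopD (Cfsg.Agent.Helper88.bg16c_exists_R hDnil hD1)
  by_cases hab : IsMulCommutative D
  · exact Or.inl ⟨K, D, _, hP, hD1, h57.2.2, h57.2.1, hab, hND⟩
  · exact Or.inr ⟨K, D, _, hP, hD1, h57.2.2, h57.2.1, hab, hND⟩

/-- (⟹) of row S1382. -/
theorem bg16c_forward (hG : IsMinSimpleOddOrder G) (M : Subgroup G) (hM : IsCoatom M)
    (K U : Subgroup G) (hKU : IsSigmaDecomposition M K U) {W₁ U' W₂ : Subgroup G}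
    (hP : IsTypePWith M W₁ U' W₂) (hU'1 : U' ≠ ⊥) (hn : normalizer (U' : Set G) ≤ M) :
    K ≠ ⊥ ∧ U = ⊥ ∧ fittingHallOf M ≠ sigmaCore M := by
  classical
  have hW₁M : W₁ ≤ M := hP.W₁_compl.2.1
  have hκ : (kappa M).Nonempty := by
    refine Cfsg.Agent.Helper20.bg16c_kappa_nonempty hG hM hP (fun r hr hrW => ?_)
    refine Cfsg.Agent.Helper49.bg16c_prank_one (W := W₁.subgroupOf M) ?_ ?_ hr ?_
    · haveI := hP.W₁_cyclic
      exact isCyclic_of_surjective (Subgroup.subgroupOfEquivOfLe hW₁M).symm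
        (Subgroup.subgroupOfEquivOfLe hW₁M).symm.surjective
    · rw [Cfsg.Agent.Helper35.card_subgroupOf_of_le hW₁M]
      exact hP.W₁_hall
    · rw [Cfsg.Agent.Helper35.card_subgroupOf_of_le hW₁M]
      exact hrW
  have hK1 : K ≠ ⊥ := by
    obtain ⟨r, hr⟩ := hκ
    intro hK
    have h1 := hKU.hall.2.2 r hr.1 hr
    rw [hK, Subgroup.relIndex_bot_left] at h1
    exact h1 hr.2.1
  have hU : U = ⊥ := by
    by_contra hU1
    exact bg16c_type2_false hG hM hKU hK1 hU1 hP.U_compl hn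
      (fun hA hB hAN hcop hsolv => Cfsg.Agent.Helper20.bg16c_compl_conj hA hB hAN hcop hsolv)
  refine ⟨hK1, hU, ?_⟩
  intro heq
  have h65 := Cfsg.Agent.S1365.result hG M hM K U hKU hK1
  have hcomm : ⁅M, M⁆ = sigmaCore M := by rw [h65.1, hU, bot_sup_eq]
  obtain ⟨-, hU'le, hinf, -⟩ := hP.U_compl
  rw [hcomm, ← heq] at hU'le
  apply hU'1
  rw [eq_bot_iff, ← hinf]
  exact le_inf hU'le le_rfl

/-- Row S1382. -/
theorem bg16c_main (hG : IsMinSimpleOddOrder G) (M : Subgroup G) (hM : IsCoatom M)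
    (K U : Subgroup G) (hKU : IsSigmaDecomposition M K U) :
    (IsOfTypeIII M ∨ IsOfTypeIV M) ↔ (K ≠ ⊥ ∧ U = ⊥ ∧ fittingHallOf M ≠ sigmaCore M) := by
  constructor
  · rintro (⟨W₁, U', W₂, hP, hU'1, -, -, -, hn⟩ | ⟨W₁, U', W₂, hP, hU'1, -, -, -, hn⟩)
    · exact bg16c_forward hG M hM K U hKU hP hU'1 hn
    · exact bg16c_forward hG M hM K U hKU hP hU'1 hn
  · rintro ⟨hK1, hU, hne⟩
    exact bg16c_backward hG M hM K U hKU hK1 hU hne

end Cfsg.Agent.Helper1
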