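import Cfsg.Agent.Helper1.BG95a
import Cfsg.Agent.Helper35.CoprimeGen2
import Cfsg.Agent.Helper22.Generation
import Cfsg.Agent.Helper21.PRank

/-!
# Bender–Glauberman Theorem 9.5 (S1402), part b

Lemmas (F4), (F5) and (S') of the blueprint: the elements `e ∈ E` with `C(e) ≤ M` centralize the
datum subgroup `W` of `M`; consequently `C_E(W)` has order at most `p` and every other element of
`E` has a centralizer of order at most `s` in `W`.
-/

set_option autoImplicit false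

universe u

namespace Cfsg.Agent.Helper1

open Cfsg Subgroup
open scoped Pointwise
open scoped commutatorElement

variable {G : Type u} [Group G] [Finite G]

/-- If all `O_q(M₁)` have rank at most two, commutators of elements of `M₁` lie in `F(M₁)`. -/
theorem bg95_comm_mem_fittingOf (hG : IsMinSimpleOddOrder G) {M₁ : Subgroup G} (hM₁ : M₁ ≠ ⊤)
    (hr : ∀ q : ℕ, q.Prime → PRankLE q 2 ↥(fittingOf M₁)) {a x : G} (ha : a ∈ M₁) (hx : x ∈ M₁) :
    a * x * a⁻¹ * x⁻¹ ∈ fittingOf M₁ := by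
  haveI := Helper23.uq_isSolvable hG hM₁
  have h1 : commutator ↥M₁ ≤ fittingSubgroup ↥M₁ := by
    apply Helper23.commutator_le_fittingSubgroup_of_rank2 (Helper23.uq_odd hG M₁)
    intro q hq
    have hmem : ∀ y : ↥(pCore q ↥M₁), ((y : ↥M₁) : G) ∈ fittingOf M₁ := fun y =>
      Helper23.f81_pCoreOf_le_fittingOf q M₁ ⟨(y : ↥M₁), y.2, rfl⟩
    let f : ↥(pCore q ↥M₁) →* ↥(fittingOf M₁) :=
      { toFun := fun y => ⟨((y : ↥M₁) : G), hmem y⟩
        map_one' := rfl
        map_mul' := fun _ _ => rfl }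
    refine Helper21.pRankLE_of_injective f (fun y z h => ?_) (hr q hq.out)
    have h2 : ((y : ↥M₁) : G) = ((z : ↥M₁) : G) :=
      congrArg (fun t : ↥(fittingOf M₁) => (t : G)) h
    exact Subtype.ext (Subtype.ext h2)
  have h2 : ⁅(⟨a, ha⟩ : ↥M₁), (⟨x, hx⟩ : ↥M₁)⁆ ∈ commutator ↥M₁ := by
    rw [_root_.commutator_def]
    exact Subgroup.commutator_mem_commutator (Subgroup.mem_top _) (Subgroup.mem_top _)
  refine ⟨_, h1 h2, ?_⟩
  simp [commutatorElement_def]

namespace BG95Ctx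

variable {p : ℕ} {A E : Subgroup G} {M W : Subgroup G} {s : ℕ}

/-- (F5): if `F(M₁)` has rank at most two, then `A` centralizes `W ∩ M₁`. -/
theorem F5 (c : BG95Ctx p A E) (d : BG95Dat M s W)
    (hCM : centralizer (A : Set G) ≤ M) (hsp : s ≠ p) {M₁ : Subgroup G} (hM₁ : IsCoatom M₁)
    (hAM₁ : A ≤ M₁) (hne : M₁ ≠ M) (hr : ∀ q : ℕ, q.Prime → PRankLE q 2 ↥(fittingOf M₁))
    {a x : G} (ha : a ∈ A) (hxW : x ∈ W) (hxM : x ∈ M₁) : a * x = x * a := by
  by_contra hcomm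
  have hAM : A ≤ M := c.hAcent.trans hCM
  have hyF : a * x * a⁻¹ * x⁻¹ ∈ fittingOf M₁ :=
    bg95_comm_mem_fittingOf c.hG hM₁.1 hr (hAM₁ ha) hxM
  have hyW : a * x * a⁻¹ * x⁻¹ ∈ W :=
    W.mul_mem ((Subgroup.mem_normalizer_iff.mp (d.hMW (hAM ha)) x).mp hxW) (W.inv_mem hxW)
  have hy1 : a * x * a⁻¹ * x⁻¹ ≠ 1 := by
    intro h
    apply hcomm
    have h2 : a * x * a⁻¹ * x⁻¹ * (x * a) = x * a := by rw [h, one_mul]
    rw [← h2]; group
  haveI := Fact.mk d.hs
  have h1 : zpowers (a * x * a⁻¹ * x⁻¹) ≤ pCoreOf s M₁ :=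
    Helper23.f81_le_pCoreOf_of_le_fittingOf (zpowers_le.mpr hyF)
      (d.isPGroup.to_le (zpowers_le.mpr hyW))
  have h2 : a * x * a⁻¹ * x⁻¹ ∈ W ⊓ pCoreOf s M₁ := ⟨hyW, h1 (mem_zpowers _)⟩
  rw [c.F3 d hCM hsp hM₁ hAM₁ hne] at h2
  exact hy1 (Subgroup.mem_bot.mp h2)

/-- (F4): an element `e ∈ E` with `C(e) ≤ M` centralizes `W ∩ M₁`. -/
theorem F4 (c : BG95Ctx p A E) (hD : BG95Datum G) (hFr : BG95Frob G) (d : BG95Dat M s W)
    (hCM : centralizer (A : Set G) ≤ M) (hsp : s ≠ p) {M₁ : Subgroup G} (hM₁ : IsCoatom M₁)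
    (hCM₁ : centralizer (A : Set G) ≤ M₁) (hne : M₁ ≠ M) {e : G} (heE : e ∈ E)
    (hgood : centralizer ({e} : Set G) ≤ M) {x : G} (hxW : x ∈ W) (hxM : x ∈ M₁) :
    e * x = x * e := by
  have hAM : A ≤ M := c.hAcent.trans hCM
  have hAM₁ : A ≤ M₁ := c.hAcent.trans hCM₁
  have heA : e ∈ A := c.hEA heE
  by_cases hr : ∀ q : ℕ, q.Prime → PRankLE q 2 ↥(fittingOf M₁)
  · exact c.F5 d hCM hsp hM₁ hAM₁ hne hr heA hxW hxM
  · push_neg at hr
    obtain ⟨s₁, hs₁, hF⟩ := hr
    obtain ⟨W₁, d₁⟩ := hD M₁ hM₁ s₁ hs₁ hF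
    have hs₁p : s₁ ≠ p := by rintro rfl; exact hF (c.hB2 M₁ hM₁)
    have hs₁s : s₁ ≠ s := by
      rintro rfl
      have h1 : pCoreOf s₁ M₁ ≤ M := c.F2 d hCM hsp (Helper23.f81_isPGroup_pCoreOf s₁ M₁)
        (hAM₁.trans (Helper23.f81_le_normalizer_pCoreOf s₁ M₁))
      have h2 : M ≤ M₁ := d₁.core M d.hM.1 h1
      exact hne (Helper23.uq_eq_of_coatom_le d.hM hM₁.1 h2)
    by_contra hcomm
    have hx1 : x ≠ 1 := by rintro rfl; exact hcomm (by simp)
    have hzx : zpowers x = W ⊓ M₁ :=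
      bg95_eq_of_le_of_card_le d.hs (d.isPGroup.to_le inf_le_left) (zpowers_le.mpr ⟨hxW, hxM⟩)
        (zpowers_ne_bot.mpr hx1) (d.F1 hM₁ hne)
    have hconj : e * x * e⁻¹ ∈ zpowers x := by
      rw [hzx]
      exact ⟨(Subgroup.mem_normalizer_iff.mp (d.hMW (hAM heA)) x).mp hxW,
        M₁.mul_mem (M₁.mul_mem (hAM₁ heA) hxM) (M₁.inv_mem (hAM₁ heA))⟩
    have hcent : W₁ ⊓ centralizer ({e} : Set G) ≤ centralizer ({x} : Set G) := by
      intro y hy
      rw [Subgroup.mem_centralizer_iff]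
      intro h hh
      rw [Set.mem_singleton_iff] at hh
      subst hh
      have hyM : y ∈ M := hgood hy.2
      have hz1 : y * h * y⁻¹ * h⁻¹ ∈ pCoreOf s M :=
        (pCoreOf s M).mul_mem
          ((Subgroup.mem_normalizer_iff.mp (Helper23.f81_le_normalizer_pCoreOf s M hyM) h).mp
            (d.hWS hxW)) ((pCoreOf s M).inv_mem (d.hWS hxW))
      have hz2 : y * h * y⁻¹ * h⁻¹ ∈ W₁ := by
        have h1 : h * y⁻¹ * h⁻¹ ∈ W₁ :=
          (Subgroup.mem_normalizer_iff.mp (d₁.hMW hxM) y⁻¹).mp (W₁.inv_mem hy.1)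
        have h2 : y * h * y⁻¹ * h⁻¹ = y * (h * y⁻¹ * h⁻¹) := by group
        rw [h2]
        exact W₁.mul_mem hy.1 h1
      have hz := bg95_eq_one_of_mem_of_mem d.hs hs₁ (Ne.symm hs₁s)
        (Helper23.f81_isPGroup_pCoreOf s M) d₁.isPGroup hz1 hz2
      have h3 : y * h * y⁻¹ * h⁻¹ * (h * y) = h * y := by rw [hz, one_mul]
      rw [← h3]; group
    have h3 := hFr p s₁ s c.hp hs₁ d.hs (Ne.symm hs₁p) (Ne.symm hs₁s) W₁ d₁.hexp d₁.hcard e x
      (d₁.hMW (hAM₁ heA)) (d₁.hMW hxM) (c.hEp e heE) (d.hexp x hxW) hconj hcomm hcent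
    have h4 : centralizer ({x} : Set G) ≤ M₁ :=
      d₁.hT _ inf_le_left h3 _ (c.cent_ne_top hx1) inf_le_right
    have h5 : M₁ ≤ M := d.hx x hxW hx1 M₁ hM₁.1 h4
    exact hne (Helper23.uq_eq_of_coatom_le hM₁ d.hM.1 h5).symm

theorem hEW (c : BG95Ctx p A E) (d : BG95Dat M s W) (hCM : centralizer (A : Set G) ≤ M) :
    E ≤ normalizer (W : Set G) :=
  c.hEA.trans ((c.hAcent.trans hCM).trans d.hMW)

theorem hcopEW (c : BG95Ctx p A E) (d : BG95Dat M s W) (hsp : s ≠ p) :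
    (Nat.card ↥E).Coprime (Nat.card ↥W) := by
  haveI := Fact.mk d.hs
  obtain ⟨n, hn⟩ := d.isPGroup.exists_card_eq
  rw [c.hEcard, hn]
  exact Nat.Coprime.pow _ _ ((Nat.coprime_primes c.hp d.hs).mpr (Ne.symm hsp))

/-- (S'): an element `e ∈ E` with `C(e) ≤ M` centralizes `W`. -/
theorem good_mem (c : BG95Ctx p A E) (hD : BG95Datum G) (hFr : BG95Frob G) (d : BG95Dat M s W)
    (hCM : centralizer (A : Set G) ≤ M) (hsp : s ≠ p) {e : G} (heE : e ∈ E)
    (hgood : centralizer ({e} : Set G) ≤ M) : e ∈ centralizer (W : Set G) := by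
  have hgen := Helper35.coprime_gen_cyclic_quotient c.hEab (c.hEW d hCM) (c.hcopEW d hsp)
  have key : W ≤ centralizer ({e} : Set G) := by
    refine hgen.le.trans (iSup₂_le (fun B hB => ?_))
    obtain ⟨hBE, a, haE, hBa⟩ := hB
    have hBcard : p ^ 2 ≤ Nat.card ↥B := by
      have hn : zpowers a ≤ normalizer (B : Set G) := by
        rw [zpowers_le]
        rw [Subgroup.mem_normalizer_iff]
        intro h
        have : ∀ h : G, h ∈ B → a * h * a⁻¹ = h := fun h hh => by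
          rw [c.hEab a haE h (hBE hh)]; group
        constructor
        · intro hh; rw [this h hh]; exact hh
        · intro hh
          have h2 := this _ hh
          have h3 : a * h * a⁻¹ = h := by
            have : a * (a * h * a⁻¹) * a⁻¹ = a * h * a⁻¹ := this _ hh
            have h4 : a⁻¹ * (a * (a * h * a⁻¹) * a⁻¹) * a = a⁻¹ * (a * h * a⁻¹) * a := by rw [this]
            have h5 : a⁻¹ * (a * (a * h * a⁻¹) * a⁻¹) * a = a * h * a⁻¹ := by group
            have h6 : a⁻¹ * (a * h * a⁻¹) * a = h := by group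
            rw [h5, h6] at h4
            exact h4
          rw [← h3]; exact hh
      have h1 := Helper22.card_sup_le_of_le_normalizer B (zpowers a) hn
      rw [hBa, c.hEcard] at h1
      have h2 : Nat.card ↥(zpowers a) ≤ p := by
        rw [Nat.card_zpowers]
        exact Nat.le_of_dvd c.hp.pos (orderOf_dvd_of_pow_eq_one (c.hEp a haE))
      have h3 : p ^ 2 * p ≤ Nat.card ↥B * p := by
        have : p ^ 2 * p = p ^ 3 := by ring
        rw [this]
        exact h1.trans (Nat.mul_le_mul_left _ h2)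
      exact Nat.le_of_mul_le_mul_right h3 c.hp.pos
    obtain ⟨b, hbB, hb1, hbM⟩ := c.hB3 M d.hM B hBE hBcard
    obtain ⟨Mb, hMb, hbMb⟩ := Helper23.uq_exists_coatom_ge (c.cent_ne_top hb1)
    have hMbne : Mb ≠ M := by rintro rfl; exact hbM hbMb
    have hCMb : centralizer (A : Set G) ≤ Mb := (c.cent_le (c.hEA (hBE hbB))).trans hbMb
    intro x hx
    have hxMb : x ∈ Mb := by
      apply hbMb
      rw [Subgroup.mem_centralizer_iff]
      intro h hh
      rw [Set.mem_singleton_iff] at hh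
      subst hh
      exact Subgroup.mem_centralizer_iff.mp hx.2 h hbB
    rw [Subgroup.mem_centralizer_iff]
    intro h hh
    rw [Set.mem_singleton_iff] at hh
    subst hh
    exact c.F4 hD hFr d hCM hsp hMb hCMb hMbne heE hgood hx.1 hxMb
  rw [Subgroup.mem_centralizer_iff]
  intro v hv
  exact (Subgroup.mem_centralizer_iff.mp (key hv) e rfl).symm

/-- `C_E(W)` has order at most `p`. -/
theorem card_ell (c : BG95Ctx p A E) (d : BG95Dat M s W) :
    Nat.card ↥(E ⊓ centralizer (W : Set G)) ≤ p := by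
  rcases bg95_card_le_or c.hp (c.hEpg.to_le (inf_le_left : E ⊓ centralizer (W : Set G) ≤ E))
    with h | h
  · exact h
  · exfalso
    obtain ⟨b, hb, hb1, hbM⟩ := c.hB3 M d.hM _ inf_le_left h
    apply hbM
    apply d.hT W le_rfl d.card_sq _ (c.cent_ne_top hb1)
    intro v hv
    rw [Subgroup.mem_centralizer_iff]
    intro h hh
    rw [Set.mem_singleton_iff] at hh
    subst hh
    exact (Subgroup.mem_centralizer_iff.mp hb.2 v hv).symm

/-- An element of `E` not centralizing `W` has a centralizer of order at most `s` in `W`, and its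
centralizer lies in no maximal subgroup equal to `M`. -/
theorem card_cent (c : BG95Ctx p A E) (hD : BG95Datum G) (hFr : BG95Frob G) (d : BG95Dat M s W)
    (hCM : centralizer (A : Set G) ≤ M) (hsp : s ≠ p) {e : G} (heE : e ∈ E)
    (hne : e ∉ centralizer (W : Set G)) : Nat.card ↥(W ⊓ centralizer ({e} : Set G)) ≤ s := by
  have he1 : e ≠ 1 := by rintro rfl; exact hne (one_mem _)
  have hng : ¬ centralizer ({e} : Set G) ≤ M := fun h => hne (c.good_mem hD hFr d hCM hsp heE h)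
  obtain ⟨Me, hMe, heMe⟩ := Helper23.uq_exists_coatom_ge (c.cent_ne_top he1)
  have hMene : Me ≠ M := by rintro rfl; exact hng heMe
  exact (Subgroup.card_le_of_le (inf_le_inf_left W heMe)).trans (d.F1 hMe hMene)

end BG95Ctx

end Cfsg.Agent.Helper1
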