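import Cfsg.Agent.Helper1.BG95b

/-!
# Bender–Glauberman Theorem 9.5 (S1402), part c

The main line of the proof: a datum `(M, s, W)` with `C(A) ≤ M` leads to a contradiction
(`BG95Ctx.beta`), given the existence of data and the two Frobenius-type lemmas for data.
-/

set_option autoImplicit false

universe u

namespace Cfsg.Agent.Helper1

open Cfsg Subgroup
open scoped Pointwise

variable {G : Type u} [Group G] [Finite G]

omit [Finite G] in
theorem bg95_exists_ne_one {H : Subgroup G} (h : H ≠ ⊥) : ∃ x ∈ H, x ≠ 1 := by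
  by_contra hcon
  push_neg at hcon
  exact h ((Subgroup.eq_bot_iff_forall H).mpr hcon)

omit [Finite G] in
theorem bg95_le_normalizer_of_comm {E : Subgroup G} (hEab : ∀ a ∈ E, ∀ b ∈ E, a * b = b * a)
    {B D : Subgroup G} (hB : B ≤ E) (hD : D ≤ E) : D ≤ normalizer (B : Set G) := by
  intro a ha
  apply Helper24.mem_normalizer_of_conj_mem
  · intro h hh
    have h1 : a * h * a⁻¹ = h := by rw [hEab a (hD ha) h (hB hh)]; group
    rw [h1]; exact hh
  · intro h hh
    have h1 : a⁻¹ * h * a = h := by rw [mul_assoc, hEab h (hB hh) a (hD ha)]; group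
    rw [h1]; exact hh

omit [Finite G] in
theorem bg95_conj_mem_inf_cent {E X : Subgroup G} (hEab : ∀ a ∈ E, ∀ b ∈ E, a * b = b * a)
    (hEX : E ≤ normalizer (X : Set G)) {e : G} (he : e ∈ E) {a : G} (ha : a ∈ E) {h : G}
    (hh : h ∈ X ⊓ centralizer ({e} : Set G)) : a * h * a⁻¹ ∈ X ⊓ centralizer ({e} : Set G) := by
  refine Subgroup.mem_inf.mpr ⟨(Subgroup.mem_normalizer_iff.mp (hEX ha) h).mp hh.1, ?_⟩
  rw [Subgroup.mem_centralizer_iff]
  intro g hg
  rw [Set.mem_singleton_iff] at hg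
  subst hg
  have h1 : g * h = h * g := Subgroup.mem_centralizer_iff.mp hh.2 g rfl
  have h2 : g * a = a * g := hEab g he a ha
  have h3 : g * a⁻¹ = a⁻¹ * g := by
    have : a⁻¹ * (g * a) * a⁻¹ = a⁻¹ * (a * g) * a⁻¹ := by rw [h2]
    have e1 : a⁻¹ * (g * a) * a⁻¹ = a⁻¹ * g := by group
    have e2 : a⁻¹ * (a * g) * a⁻¹ = g * a⁻¹ := by group
    rw [e1, e2] at this
    exact this.symm
  calc g * (a * h * a⁻¹) = (g * a) * h * a⁻¹ := by group
    _ = a * (g * h) * a⁻¹ := by rw [h2]; group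
    _ = a * h * (g * a⁻¹) := by rw [h1]; group
    _ = a * h * a⁻¹ * g := by rw [h3]; group

omit [Finite G] in
theorem bg95_le_normalizer_inf_cent {E X : Subgroup G} (hEab : ∀ a ∈ E, ∀ b ∈ E, a * b = b * a)
    (hEX : E ≤ normalizer (X : Set G)) {e : G} (he : e ∈ E) :
    E ≤ normalizer ((X ⊓ centralizer ({e} : Set G) : Subgroup G) : Set G) := by
  intro a ha
  apply Helper24.mem_normalizer_of_conj_mem
  · intro h hh
    exact bg95_conj_mem_inf_cent hEab hEX he ha hh
  · intro h hh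
    have := bg95_conj_mem_inf_cent hEab hEX he (E.inv_mem ha) hh
    simpa using this

omit [Finite G] in
theorem bg95_pow_commute {p : ℕ} (hp : p.Prime) {x v : G} (hx : x ^ p = 1) {k : ℕ}
    (hk : ¬ p ∣ k) (h : Commute (x ^ k) v) : x * v = v * x := by
  have h1 : x ∈ centralizer ({v} : Set G) := by
    apply Helper35.mem_of_pow_mem_of_coprime (m := k) (n := p)
      ((Nat.Prime.coprime_iff_not_dvd hp).mpr hk).symm
    · rw [Subgroup.mem_centralizer_iff]
      intro h' hh'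
      rw [Set.mem_singleton_iff] at hh'
      subst hh'
      exact h.eq.symm
    · rw [hx]; exact one_mem _
  exact (Subgroup.mem_centralizer_iff.mp h1 v rfl).symm

theorem bg95_zpowers_card {s : ℕ} (hs : s.Prime) {w : G} (hw1 : w ≠ 1) (hws : w ^ s = 1) :
    Nat.card ↥(zpowers w) = s := by
  haveI := Fact.mk hs
  rw [Nat.card_zpowers]
  exact orderOf_eq_prime hws hw1

/-- Coprime generation avoiding a subgroup `L` of order at most `p` of the elementary abelian group
`E` of order `p ^ 3`. -/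
theorem bg95_gen {p : ℕ} (hp : p.Prime) {E L K X₀ : Subgroup G}
    (hEab : ∀ a ∈ E, ∀ b ∈ E, a * b = b * a) (hEp : ∀ e ∈ E, e ^ p = 1)
    (hEcard : Nat.card ↥E = p ^ 3) (hLc : Nat.card ↥L ≤ p)
    (hEK : E ≤ normalizer (K : Set G)) (hcop : (Nat.card ↥E).Coprime (Nat.card ↥K))
    (h : ∀ b ∈ E, b ∉ L → K ⊓ centralizer ({b} : Set G) ≤ X₀) : K ≤ X₀ := by
  have hp1 := hp.one_lt
  have hgen := Helper35.coprime_gen hEab hEK hcop {B : Subgroup G | B ≤ E ∧ ¬ B ≤ L}
    (fun B hB => hB.1) (by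
      intro L' hL'E hL'
      have hL'L : L' ≤ L := by
        by_contra hcon
        exact hL' ⟨hL'E, hcon⟩
      have hL'c : Nat.card ↥L' ≤ p := (Subgroup.card_le_of_le hL'L).trans hLc
      have ha : ∃ a ∈ E, a ∉ L' := by
        by_contra hcon
        push_neg at hcon
        have h1 : Nat.card ↥E ≤ Nat.card ↥L' := Subgroup.card_le_of_le hcon
        rw [hEcard] at h1
        have h2 : p ^ 3 ≤ p := h1.trans hL'c
        have h3 : p * 1 < p * (p * p) := by
          apply Nat.mul_lt_mul_of_pos_left _ hp.pos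
          nlinarith
        have h4 : p ^ 3 = p * (p * p) := by ring
        omega
      obtain ⟨a, haE, haL'⟩ := ha
      have hb : ∃ b ∈ E, b ∉ L' ⊔ zpowers a := by
        by_contra hcon
        push_neg at hcon
        have h1 : Nat.card ↥E ≤ Nat.card ↥(L' ⊔ zpowers a) := Subgroup.card_le_of_le hcon
        have h2 := Helper22.card_sup_le_of_le_normalizer L' (zpowers a)
          (bg95_le_normalizer_of_comm hEab hL'E (zpowers_le.mpr haE))
        have h3 : Nat.card ↥(zpowers a) ≤ p := by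
          rw [Nat.card_zpowers]
          exact Nat.le_of_dvd hp.pos (orderOf_dvd_of_pow_eq_one (hEp a haE))
        rw [hEcard] at h1
        have h4 : p ^ 3 ≤ p * p := (h1.trans h2).trans (Nat.mul_le_mul hL'c h3)
        have h5 : p * p * 1 < p * p * p := by
          apply Nat.mul_lt_mul_of_pos_left hp1
          exact Nat.mul_pos hp.pos hp.pos
        have h6 : p ^ 3 = p * p * p := by ring
        omega
      obtain ⟨b, hbE, hbL'⟩ := hb
      refine ⟨p, hp, a, haE, b, hbE, ?_, ?_, haL', ?_⟩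
      · rw [hEp a haE]; exact one_mem _
      · rw [hEp b hbE]; exact one_mem _
      · intro i hi
        apply hbL'
        have h1 : b = (a ^ i)⁻¹ * (a ^ i * b) := by group
        rw [h1]
        exact Subgroup.mul_mem _
          (Subgroup.mem_sup_right (Subgroup.inv_mem _ (Subgroup.pow_mem _ (mem_zpowers a) i)))
          (Subgroup.mem_sup_left hi))
  refine hgen.le.trans (iSup₂_le (fun B hB => ?_))
  obtain ⟨hBE, hBL⟩ := hB
  obtain ⟨b, hbB, hbL⟩ := SetLike.not_le_iff_exists.mp hBL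
  refine le_trans ?_ (h b (hBE hbB) hbL)
  exact inf_le_inf_left K (Subgroup.centralizer_le (by simpa using hbB))

/-- The centralizer in `E` of an `E`-invariant subgroup of prime order `s ≠ p` has order at least
`p ^ 2`. -/
theorem bg95_card_cent_prime {p s : ℕ} (hp : p.Prime) (hs : s.Prime) (hsp : s ≠ p)
    {E : Subgroup G} (hEab : ∀ a ∈ E, ∀ b ∈ E, a * b = b * a) (hEp : ∀ e ∈ E, e ^ p = 1)
    (hEcard : Nat.card ↥E = p ^ 3) {w : G} (hw1 : w ≠ 1) (hws : w ^ s = 1)
    (hEw : E ≤ normalizer (zpowers w : Set G)) :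
    p ^ 2 ≤ Nat.card ↥(E ⊓ centralizer ({w} : Set G)) := by
  rcases bg95_card_le_or hp ((bg95_isPGroup_of_exp hEp).to_le
    (inf_le_left : E ⊓ centralizer ({w} : Set G) ≤ E)) with h | h
  · exfalso
    have hzc : Nat.card ↥(zpowers w) = s := bg95_zpowers_card hs hw1 hws
    have hzp : IsPGroup s ↥(zpowers w) := by
      haveI := Fact.mk hs
      exact IsPGroup.of_card (n := 1) (by rw [hzc, pow_one])
    have hcop : (Nat.card ↥E).Coprime (Nat.card ↥(zpowers w)) := by
      rw [hEcard, hzc]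
      exact Nat.Coprime.pow_left _ ((Nat.coprime_primes hp hs).mpr (Ne.symm hsp))
    have hle : zpowers w ≤ ⊥ := by
      apply bg95_gen hp hEab hEp hEcard h hEw hcop
      intro b hbE hbL x hx
      by_contra hx1
      have hx1' : x ≠ 1 := fun h' => hx1 (by rw [h']; exact one_mem _)
      have h1 : zpowers x = zpowers w :=
        bg95_eq_of_le_of_card_le hs hzp (zpowers_le.mpr hx.1) (zpowers_ne_bot.mpr hx1') hzc.le
      have h2 : w ∈ centralizer ({b} : Set G) := by
        have : zpowers x ≤ centralizer ({b} : Set G) := zpowers_le.mpr hx.2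
        exact this (by rw [h1]; exact mem_zpowers w)
      apply hbL
      refine Subgroup.mem_inf.mpr ⟨hbE, ?_⟩
      rw [Subgroup.mem_centralizer_iff]
      intro g hg
      rw [Set.mem_singleton_iff] at hg
      subst hg
      exact (Subgroup.mem_centralizer_iff.mp h2 b rfl).symm
    exact hw1 (Subgroup.mem_bot.mp (hle (mem_zpowers w)))
  · exact h

namespace BG95Ctx

variable {p : ℕ} {A E : Subgroup G} {M W : Subgroup G} {s : ℕ}

/-- Two elements of `E` with distinct nontrivial centralizers in `W`. -/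
theorem stepA (c : BG95Ctx p A E) (hD : BG95Datum G) (hFr : BG95Frob G) (d : BG95Dat M s W)
    (hCM : centralizer (A : Set G) ≤ M) (hsp : s ≠ p) :
    ∃ e ∈ E, ∃ f ∈ E, e ∉ centralizer (W : Set G) ∧ f ∉ centralizer (W : Set G) ∧
      W ⊓ centralizer ({e} : Set G) ≠ ⊥ ∧ W ⊓ centralizer ({f} : Set G) ≠ ⊥ ∧
      W ⊓ centralizer ({e} : Set G) ≠ W ⊓ centralizer ({f} : Set G) := by
  by_contra hcon
  push_neg at hcon
  by_cases hex : ∃ e ∈ E, e ∉ centralizer (W : Set G) ∧ W ⊓ centralizer ({e} : Set G) ≠ ⊥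
  · obtain ⟨e, heE, heW, heX⟩ := hex
    have hle : W ≤ W ⊓ centralizer ({e} : Set G) := by
      apply bg95_gen c.hp c.hEab c.hEp c.hEcard (c.card_ell d) (c.hEW d hCM) (c.hcopEW d hsp)
      intro b hbE hbL
      have hbW : b ∉ centralizer (W : Set G) := fun h => hbL ⟨hbE, h⟩
      by_cases hb0 : W ⊓ centralizer ({b} : Set G) = ⊥
      · rw [hb0]; exact bot_le
      · exact (hcon e heE b hbE heW hbW heX hb0).ge
    have h1 := (Subgroup.card_le_of_le hle).trans (c.card_cent hD hFr d hCM hsp heE heW)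
    exact absurd d.lt_card (not_lt.mpr h1)
  · push_neg at hex
    have hle : W ≤ ⊥ := by
      apply bg95_gen c.hp c.hEab c.hEp c.hEcard (c.card_ell d) (c.hEW d hCM) (c.hcopEW d hsp)
      intro b hbE hbL
      have hbW : b ∉ centralizer (W : Set G) := fun h => hbL ⟨hbE, h⟩
      rw [hex b hbE hbW]
    have h1 : Nat.card ↥W ≤ 1 := by
      have := Subgroup.card_le_of_le hle
      simpa using this
    have h2 := d.lt_card
    have h3 := d.hs.one_lt
    omega

/-- A maximal subgroup `M' ≠ M` containing `C(A)` such that `A` does not centralize `W ∩ M'` has a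
datum for a prime different from `p` and `s`. -/
theorem exists_dat (c : BG95Ctx p A E) (hD : BG95Datum G) (d : BG95Dat M s W)
    (hCM : centralizer (A : Set G) ≤ M) (hsp : s ≠ p) {M' : Subgroup G} (hM' : IsCoatom M')
    (hCM' : centralizer (A : Set G) ≤ M') (hne : M' ≠ M) {a x : G} (ha : a ∈ A) (hxW : x ∈ W)
    (hxM : x ∈ M') (hax : a * x ≠ x * a) :
    ∃ (s' : ℕ) (W' : Subgroup G), BG95Dat M' s' W' ∧ s' ≠ p ∧ s' ≠ s := by
  have hAM' : A ≤ M' := c.hAcent.trans hCM'
  by_cases hr : ∀ q : ℕ, q.Prime → PRankLE q 2 ↥(fittingOf M')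
  · exact absurd (c.F5 d hCM hsp hM' hAM' hne hr ha hxW hxM) hax
  · push_neg at hr
    obtain ⟨s', hs', hF⟩ := hr
    obtain ⟨W', d'⟩ := hD M' hM' s' hs' hF
    refine ⟨s', W', d', ?_, ?_⟩
    · rintro rfl; exact hF (c.hB2 M' hM')
    · rintro rfl
      have h1 : pCoreOf s' M' ≤ M := c.F2 d hCM hsp (Helper23.f81_isPGroup_pCoreOf s' M')
        (hAM'.trans (Helper23.f81_le_normalizer_pCoreOf s' M'))
      exact hne (Helper23.uq_eq_of_coatom_le d.hM hM'.1 (d'.core M d.hM.1 h1))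

/-- The main line: a datum `(M, s, W)` with `C(A) ≤ M` and `s ≠ p` is contradictory. -/
theorem beta (c : BG95Ctx p A E) (hD : BG95Datum G) (hFr : BG95Frob G) (hEnd : BG95End G)
    (d : BG95Dat M s W) (hCM : centralizer (A : Set G) ≤ M) (hsp : s ≠ p) : False := by
  haveI := Fact.mk c.hp
  obtain ⟨e, heE, f, hfE, heW, hfW, heX, hfX, hXne⟩ := c.stepA hD hFr d hCM hsp
  have heA := c.hEA heE
  have hfA := c.hEA hfE
  have he1 : e ≠ 1 := by rintro rfl; exact heW (one_mem _)
  have hf1 : f ≠ 1 := by rintro rfl; exact hfW (one_mem _)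
  have hX₁c := c.card_cent hD hFr d hCM hsp heE heW
  have hX₂c := c.card_cent hD hFr d hCM hsp hfE hfW
  have hX₁p : IsPGroup s ↥(W ⊓ centralizer ({e} : Set G)) := d.isPGroup.to_le inf_le_left
  have hX₂p : IsPGroup s ↥(W ⊓ centralizer ({f} : Set G)) := d.isPGroup.to_le inf_le_left
  obtain ⟨w₁, hw₁, hw₁1⟩ := bg95_exists_ne_one heX
  obtain ⟨w₂, hw₂, hw₂1⟩ := bg95_exists_ne_one hfX
  have hzw₁ : zpowers w₁ = W ⊓ centralizer ({e} : Set G) :=
    bg95_eq_of_le_of_card_le d.hs hX₁p (zpowers_le.mpr hw₁) (zpowers_ne_bot.mpr hw₁1) hX₁c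
  have hzw₂ : zpowers w₂ = W ⊓ centralizer ({f} : Set G) :=
    bg95_eq_of_le_of_card_le d.hs hX₂p (zpowers_le.mpr hw₂) (zpowers_ne_bot.mpr hw₂1) hX₂c
  have hfw₁ : f * w₁ ≠ w₁ * f := by
    intro h
    have h1 : w₁ ∈ W ⊓ centralizer ({f} : Set G) := by
      refine Subgroup.mem_inf.mpr ⟨hw₁.1, ?_⟩
      rw [Subgroup.mem_centralizer_iff]
      intro g hg
      rw [Set.mem_singleton_iff] at hg
      subst hg
      exact h
    have h2 : zpowers w₁ = W ⊓ centralizer ({f} : Set G) :=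
      bg95_eq_of_le_of_card_le d.hs hX₂p (zpowers_le.mpr h1) (zpowers_ne_bot.mpr hw₁1) hX₂c
    exact hXne (hzw₁.symm.trans h2)
  have hew₂ : e * w₂ ≠ w₂ * e := by
    intro h
    have h1 : w₂ ∈ W ⊓ centralizer ({e} : Set G) := by
      refine Subgroup.mem_inf.mpr ⟨hw₂.1, ?_⟩
      rw [Subgroup.mem_centralizer_iff]
      intro g hg
      rw [Set.mem_singleton_iff] at hg
      subst hg
      exact h
    have h2 : zpowers w₂ = W ⊓ centralizer ({e} : Set G) :=
      bg95_eq_of_le_of_card_le d.hs hX₁p (zpowers_le.mpr h1) (zpowers_ne_bot.mpr hw₂1) hX₁c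
    exact hXne (h2.symm.trans hzw₂)
  have hew₁ : e * w₁ = w₁ * e := Subgroup.mem_centralizer_iff.mp hw₁.2 e rfl
  have hfw₂ : f * w₂ = w₂ * f := Subgroup.mem_centralizer_iff.mp hw₂.2 f rfl
  -- the maximal subgroups
  obtain ⟨Me, hMe, heMe⟩ := Helper23.uq_exists_coatom_ge (c.cent_ne_top he1)
  obtain ⟨Mf, hMf, hfMf⟩ := Helper23.uq_exists_coatom_ge (c.cent_ne_top hf1)
  have hCMe : centralizer (A : Set G) ≤ Me := (c.cent_le heA).trans heMe
  have hCMf : centralizer (A : Set G) ≤ Mf := (c.cent_le hfA).trans hfMf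
  have hAMe : A ≤ Me := c.hAcent.trans hCMe
  have hAMf : A ≤ Mf := c.hAcent.trans hCMf
  have hMeM : Me ≠ M := by rintro rfl; exact heW (c.good_mem hD hFr d hCM hsp heE heMe)
  have hMfM : Mf ≠ M := by rintro rfl; exact hfW (c.good_mem hD hFr d hCM hsp hfE hfMf)
  have hw₁Me : w₁ ∈ Me := heMe hw₁.2
  have hw₂Mf : w₂ ∈ Mf := hfMf hw₂.2
  obtain ⟨se, We, de, hsep, hses⟩ := c.exists_dat hD d hCM hsp hMe hCMe hMeM hfA hw₁.1 hw₁Me hfw₁
  obtain ⟨sf, Wf, df, hsfp, hsfs⟩ := c.exists_dat hD d hCM hsp hMf hCMf hMfM heA hw₂.1 hw₂Mf hew₂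
  have heWe : e ∈ centralizer (We : Set G) := c.good_mem hD hFr de hCMe hsep heE heMe
  have hfWf : f ∈ centralizer (Wf : Set G) := c.good_mem hD hFr df hCMf hsfp hfE hfMf
  have hle : E ⊓ centralizer (We : Set G) = zpowers e := by
    symm
    apply Subgroup.eq_of_le_of_card_ge (zpowers_le.mpr (Subgroup.mem_inf.mpr ⟨heE, heWe⟩))
    rw [bg95_zpowers_card c.hp he1 (c.hEp e heE)]
    exact c.card_ell de
  have hlf : E ⊓ centralizer (Wf : Set G) = zpowers f := by
    symm
    apply Subgroup.eq_of_le_of_card_ge (zpowers_le.mpr (Subgroup.mem_inf.mpr ⟨hfE, hfWf⟩))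
    rw [bg95_zpowers_card c.hp hf1 (c.hEp f hfE)]
    exact c.card_ell df
  have hfWe : f ∉ centralizer (We : Set G) := by
    intro h
    have h1 : f ∈ zpowers e := by rw [← hle]; exact ⟨hfE, h⟩
    obtain ⟨k, hk⟩ := Subgroup.mem_zpowers_iff.mp h1
    apply hfw₁
    rw [← hk]
    exact (Commute.zpow_left (show Commute e w₁ from hew₁) k).eq
  have hMeMf : Me ≠ Mf := by
    rintro rfl
    exact hfWe (c.good_mem hD hFr de hCMe hsep hfE hfMf)
  have hsesf : se ≠ sf := by
    rintro rfl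
    have h1 : pCoreOf se Mf ≤ Me := c.F2 de hCMe hsep (Helper23.f81_isPGroup_pCoreOf se Mf)
      (hAMf.trans (Helper23.f81_le_normalizer_pCoreOf se Mf))
    exact hMeMf (Helper23.uq_eq_of_coatom_le hMe hMf.1 (df.core Me hMe.1 h1)).symm
  -- the subgroup `Y = C_{We}(f)`
  have hYc : Nat.card ↥(We ⊓ centralizer ({f} : Set G)) ≤ se :=
    c.card_cent hD hFr de hCMe hsep hfE hfWe
  have hf_conj : f * w₁ * f⁻¹ ∈ zpowers w₁ := by
    rw [hzw₁]
    exact (Subgroup.mem_normalizer_iff.mp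
      (bg95_le_normalizer_inf_cent c.hEab (c.hEW d hCM) heE hfE) w₁).mp hw₁
  have hY : We ⊓ centralizer ({f} : Set G) ≠ ⊥ := by
    intro hbot
    have h3 := hFr p se s c.hp de.hs d.hs (Ne.symm hsep) (Ne.symm hses) We de.hexp de.hcard f w₁
      (de.hMW (hAMe hfA)) (de.hMW hw₁Me) (c.hEp f hfE) (d.hexp w₁ hw₁.1) hf_conj hfw₁
      (by rw [hbot]; exact bot_le)
    have h4 : centralizer ({w₁} : Set G) ≤ Me :=
      de.hT _ inf_le_left h3 _ (c.cent_ne_top hw₁1) inf_le_right
    exact hMeM (Helper23.uq_eq_of_coatom_le hMe d.hM.1 (d.hx w₁ hw₁.1 hw₁1 Me hMe.1 h4)).symm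
  obtain ⟨y, hy, hy1⟩ := bg95_exists_ne_one hY
  have hzy : zpowers y = We ⊓ centralizer ({f} : Set G) :=
    bg95_eq_of_le_of_card_le de.hs (de.isPGroup.to_le inf_le_left) (zpowers_le.mpr hy)
      (zpowers_ne_bot.mpr hy1) hYc
  have hyMf : y ∈ Mf := hfMf hy.2
  have hey : e * y = y * e := (Subgroup.mem_centralizer_iff.mp heWe y hy.1).symm
  have hfy : Commute f y := Subgroup.mem_centralizer_iff.mp hy.2 f rfl
  -- some element of `E` moves `y`
  have hb₀ : ∃ b₀ ∈ E, b₀ * y ≠ y * b₀ := by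
    by_contra hcon
    push_neg at hcon
    have hle' : We ≤ zpowers y := by
      apply bg95_gen c.hp c.hEab c.hEp c.hEcard (c.card_ell de) (c.hEW de hCMe)
        (c.hcopEW de hsep)
      intro b hbE hbL
      have hbW : b ∉ centralizer (We : Set G) := fun h => hbL ⟨hbE, h⟩
      have hc := c.card_cent hD hFr de hCMe hsep hbE hbW
      have hyb : y ∈ We ⊓ centralizer ({b} : Set G) := by
        refine Subgroup.mem_inf.mpr ⟨hy.1, ?_⟩
        rw [Subgroup.mem_centralizer_iff]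
        intro g hg
        rw [Set.mem_singleton_iff] at hg
        subst hg
        exact hcon g hbE
      exact (bg95_eq_of_le_of_card_le de.hs (de.isPGroup.to_le inf_le_left)
        (zpowers_le.mpr hyb) (zpowers_ne_bot.mpr hy1) hc).ge
    have h1 := Subgroup.card_le_of_le hle'
    rw [hzy] at h1
    exact absurd de.lt_card (not_lt.mpr (h1.trans hYc))
  obtain ⟨b₀, hb₀E, hb₀y⟩ := hb₀
  -- `E = C_E(w₂) ⟨e⟩`
  have hEw₂ : E ≤ normalizer (zpowers w₂ : Set G) := by
    rw [hzw₂]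
    exact bg95_le_normalizer_inf_cent c.hEab (c.hEW d hCM) hfE
  have hH₂ : p ^ 2 ≤ Nat.card ↥(E ⊓ centralizer ({w₂} : Set G)) :=
    bg95_card_cent_prime c.hp d.hs hsp c.hEab c.hEp c.hEcard hw₂1 (d.hexp w₂ hw₂.1) hEw₂
  have heH₂ : e ∉ E ⊓ centralizer ({w₂} : Set G) := fun h =>
    hew₂ (Subgroup.mem_centralizer_iff.mp h.2 w₂ rfl).symm
  have hsup : (E ⊓ centralizer ({w₂} : Set G)) ⊔ zpowers e = E := by
    have hsle : (E ⊓ centralizer ({w₂} : Set G)) ⊔ zpowers e ≤ E :=
      sup_le inf_le_left (zpowers_le.mpr heE)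
    apply Subgroup.eq_of_le_of_card_ge hsle
    have hpg : IsPGroup p ↥((E ⊓ centralizer ({w₂} : Set G)) ⊔ zpowers e) := c.hEpg.to_le hsle
    obtain ⟨n, hn⟩ := hpg.exists_card_eq
    rw [c.hEcard, hn]
    apply Nat.pow_le_pow_right c.hp.pos
    by_contra hn3
    push_neg at hn3
    have h1 : Nat.card ↥((E ⊓ centralizer ({w₂} : Set G)) ⊔ zpowers e) ≤
        Nat.card ↥(E ⊓ centralizer ({w₂} : Set G)) := by
      rw [hn]
      exact (Nat.pow_le_pow_right c.hp.pos (by omega)).trans hH₂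
    have h2 := Subgroup.eq_of_le_of_card_ge
      (le_sup_left : E ⊓ centralizer ({w₂} : Set G) ≤ _) h1
    exact heH₂ (by rw [h2]; exact Subgroup.mem_sup_right (mem_zpowers e))
  have hb₀' : b₀ ∈ (E ⊓ centralizer ({w₂} : Set G)) ⊔ zpowers e := by rw [hsup]; exact hb₀E
  obtain ⟨b, hb, z, hz, hbz⟩ := Helper35.exists_mul_of_mem_sup_of_le_normalizer
    (bg95_le_normalizer_of_comm c.hEab (inf_le_left : E ⊓ centralizer ({w₂} : Set G) ≤ E)
      (zpowers_le.mpr heE)) hb₀'
  have hbE : b ∈ E := hb.1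
  have hby : b * y ≠ y * b := by
    intro h
    apply hb₀y
    obtain ⟨k, hk⟩ := Subgroup.mem_zpowers_iff.mp hz
    have hzy' : Commute z y := by
      rw [← hk]
      exact Commute.zpow_left (show Commute e y from hey) k
    rw [hbz]
    calc b * z * y = b * (z * y) := mul_assoc _ _ _
      _ = b * (y * z) := by rw [hzy'.eq]
      _ = b * y * z := (mul_assoc _ _ _).symm
      _ = y * b * z := by rw [h]
      _ = y * (b * z) := mul_assoc _ _ _
  have hbw₂ : b * w₂ = w₂ * b := (Subgroup.mem_centralizer_iff.mp hb.2 w₂ rfl).symm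
  have hb_conj : b * y * b⁻¹ ∈ zpowers y := by
    rw [hzy]
    exact (Subgroup.mem_normalizer_iff.mp
      (bg95_le_normalizer_inf_cent c.hEab (c.hEW de hCMe) hfE hbE) y).mp hy
  have he_conj : e * w₂ * e⁻¹ ∈ zpowers w₂ :=
    (Subgroup.mem_normalizer_iff.mp (hEw₂ heE) w₂).mp (mem_zpowers w₂)
  -- the endgame in `Mf`
  refine hEnd p sf s se c.hp df.hs d.hs de.hs (Ne.symm hsfp) (Ne.symm hsfs) hsesf Wf df.hexp
    df.hcard e b w₂ y (df.hMW (hAMf heA)) (df.hMW (hAMf (c.hEA hbE))) (df.hMW hw₂Mf)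
    (df.hMW hyMf) (c.hEab e heE b hbE) (c.hEp e heE) (c.hEp b hbE) ?_ (d.hexp w₂ hw₂.1) hbw₂
    he_conj hew₂ ?_ (de.hexp y hy.1) hey hb_conj hby ?_
  · intro i j hij
    have hmemE : e ^ i * b ^ j ∈ E := E.mul_mem (E.pow_mem heE i) (E.pow_mem hbE j)
    apply c.card_cent hD hFr df hCMf hsfp hmemE
    intro hcen
    have h1 : e ^ i * b ^ j ∈ zpowers f := by rw [← hlf]; exact ⟨hmemE, hcen⟩
    obtain ⟨k, hk⟩ := Subgroup.mem_zpowers_iff.mp h1
    have hbj : Commute (b ^ j) y := by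
      have h2 : b ^ j = (e ^ i)⁻¹ * f ^ k := by rw [hk]; group
      rw [h2]
      exact (Commute.inv_left (Commute.pow_left (show Commute e y from hey) i)).mul_left
        (Commute.zpow_left hfy k)
    have hpj : p ∣ j := by
      by_contra hpj
      exact hby (bg95_pow_commute c.hp (c.hEp b hbE) hpj hbj)
    have hbj1 : b ^ j = 1 := by
      obtain ⟨m, rfl⟩ := hpj
      rw [pow_mul, c.hEp b hbE, one_pow]
    have hei : Commute (e ^ i) w₂ := by
      have h2 : e ^ i = f ^ k := by rw [hk, hbj1, mul_one]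
      rw [h2]
      exact Commute.zpow_left (show Commute f w₂ from hfw₂) k
    have hpi : p ∣ i := by
      by_contra hpi
      exact hew₂ (bg95_pow_commute c.hp (c.hEp e heE) hpi hei)
    exact hij ⟨hpi, hpj⟩
  · rcases bg95_card_le_or df.hs (df.isPGroup.to_le
      (inf_le_left : Wf ⊓ centralizer ({w₂} : Set G) ≤ Wf)) with h | h
    · exact h
    · exfalso
      have h4 : centralizer ({w₂} : Set G) ≤ Mf :=
        df.hT _ inf_le_left h _ (c.cent_ne_top hw₂1) inf_le_right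
      exact hMfM (Helper23.uq_eq_of_coatom_le hMf d.hM.1
        (d.hx w₂ hw₂.1 hw₂1 Mf hMf.1 h4)).symm
  · rcases bg95_card_le_or df.hs (df.isPGroup.to_le
      (inf_le_left : Wf ⊓ centralizer ({y} : Set G) ≤ Wf)) with h | h
    · exact h
    · exfalso
      have h4 : centralizer ({y} : Set G) ≤ Mf :=
        df.hT _ inf_le_left h _ (c.cent_ne_top hy1) inf_le_right
      have h5 : Mf ≤ Me := de.hx y hy.1 hy1 Mf hMf.1 h4
      exact hMeMf (Helper23.uq_eq_of_coatom_le hMf hMe.1 h5)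

end BG95Ctx

end Cfsg.Agent.Helper1
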