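/-
helper1: CALL S1351C (helper49), pieces MW, MS, PM, MP (doubled): elementary facts on
`W = Z E` in the (STAR) context.
-/
import Cfsg.Agent.Helper49.BGCDefs2
import Cfsg.Agent.Helper35.HallCoprime
import Cfsg.Agent.Helper23.Trans
import Cfsg.Agent.S1426

set_option autoImplicit false

namespace Cfsg.Agent.Helper1

open Cfsg Subgroup Cfsg.Agent.Helper49

universe u

variable {G : Type u} [Group G] [Finite G]

/-- MW (pure). `W = Z E` elementwise (`Z` centralizes `E`). -/
theorem starc_mem_W {M E : Subgroup G} (w : G) :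
    w ∈ starW M E ↔ ∃ z ∈ starZ M E, ∃ e ∈ E, w = z * e := by
  have hcomm : ∀ z ∈ starZ M E, ∀ e ∈ E, e * z = z * e := by
    intro z hz e he
    have hz' : z ∈ centralizer (E : Set G) := (Subgroup.mem_inf.mp hz).2
    exact (Subgroup.mem_centralizer_iff.mp hz') e he
  constructor
  · intro hw
    let T : Subgroup G :=
      { carrier := {w | ∃ z ∈ starZ M E, ∃ e ∈ E, w = z * e}
        one_mem' := ⟨1, Subgroup.one_mem _, 1, Subgroup.one_mem _, by simp⟩
        mul_mem' := by
          rintro _ _ ⟨z, hz, e, he, rfl⟩ ⟨z', hz', e', he', rfl⟩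
          refine ⟨z * z', Subgroup.mul_mem _ hz hz', e * e', Subgroup.mul_mem _ he he', ?_⟩
          calc z * e * (z' * e') = z * (e * z') * e' := by group
            _ = z * (z' * e) * e' := by rw [hcomm z' hz' e he]
            _ = z * z' * (e * e') := by group
        inv_mem' := by
          rintro _ ⟨z, hz, e, he, rfl⟩
          refine ⟨z⁻¹, Subgroup.inv_mem _ hz, e⁻¹, Subgroup.inv_mem _ he, ?_⟩
          calc (z * e)⁻¹ = e⁻¹ * z⁻¹ := by group
            _ = z⁻¹ * e⁻¹ := hcomm z⁻¹ (Subgroup.inv_mem _ hz) e⁻¹ (Subgroup.inv_mem _ he) }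
    have hle : starW M E ≤ T := by
      unfold starW
      refine sup_le ?_ ?_
      · intro z hz; exact ⟨z, hz, 1, Subgroup.one_mem _, by simp⟩
      · intro e he; exact ⟨1, Subgroup.one_mem _, e, he, by simp⟩
    exact hle hw
  · rintro ⟨z, hz, e, he, rfl⟩
    unfold starW
    exact Subgroup.mul_mem _ ((le_sup_left : starZ M E ≤ starZ M E ⊔ E) hz)
      ((le_sup_right : E ≤ starZ M E ⊔ E) he)

/-- MS. `M = M_σ W`. -/
theorem starc_sup_M {M E P : Subgroup G} {p : ℕ} (c : StarCtx M E P p) :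
    ∀ m ∈ M, ∃ n ∈ sigmaCore M, ∃ w ∈ starW M E, m = n * w := by
  intro m hm
  obtain ⟨a, ha, b, hb, rfl⟩ := c.compl.2.2.2 m hm
  have haM : a ∈ M := c.compl.1 ha
  have haN := Cfsg.Agent.Helper23.le_normalizer_piCoreOf (sigma M) M haM
  have haW : a ∈ starW M E := by
    unfold starW
    exact (le_sup_right : E ≤ starZ M E ⊔ E) ha
  exact ⟨a * b * a⁻¹, (mem_normalizer_iff.mp haN b).mp hb, a, haW, by group⟩

/-- PM. A prime of `|W|` is in `σ(M)` or is the order of a subgroup of `E`. -/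
theorem starc_prime_mem {M E P : Subgroup G} {p : ℕ} (c : StarCtx M E P p)
    (hmem : ∀ w : G, w ∈ starW M E ↔ ∃ z ∈ starZ M E, ∃ e ∈ E, w = z * e) :
    ∀ q : ℕ, q.Prime → q ∣ Nat.card (starW M E) →
      q ∈ sigma M ∨ ∃ Y : Subgroup G, Y ≤ E ∧ Nat.card Y = q := by
  intro q hq hqW
  have hZσ : starZ M E ≤ sigmaCore M := inf_le_left
  have hEN : E ≤ normalizer ((starZ M E : Subgroup G) : Set G) := by
    intro e he
    apply Subgroup.centralizer_le_normalizer
    rw [Subgroup.mem_centralizer_iff]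
    intro z hz
    have hz' : z ∈ centralizer (E : Set G) := (Subgroup.mem_inf.mp hz).2
    exact ((Subgroup.mem_centralizer_iff.mp hz') e he).symm
  have hinf : starZ M E ⊓ E = ⊥ := by
    rw [eq_bot_iff]
    intro x hx
    have h1 : x ∈ E ⊓ sigmaCore M := ⟨hx.2, hZσ hx.1⟩
    rwa [c.compl.2.2.1] at h1
  have hcard : Nat.card (starW M E) = Nat.card (starZ M E) * Nat.card E := by
    unfold starW
    exact Cfsg.Agent.Helper35.card_sup_of_le_normalizer hEN hinf
  rw [hcard] at hqW
  rcases (Nat.Prime.dvd_mul hq).mp hqW with h1 | h1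
  · left
    exact Cfsg.Agent.Helper23.mem_of_dvd_card_piCoreOf (sigma M) M hq
      (h1.trans (Subgroup.card_dvd_of_le hZσ))
  · right
    haveI := Fact.mk hq
    obtain ⟨x, hx⟩ := exists_prime_orderOf_dvd_card' q h1
    refine ⟨Subgroup.zpowers (x : G), ?_, ?_⟩
    · rw [Subgroup.zpowers_le]; exact x.2
    · rw [Nat.card_zpowers, Subgroup.orderOf_coe, hx]

/-- MP. `M_σ` is not contained in `W`. -/
theorem starc_proper_M (hG : IsMinSimpleOddOrder G) {M E P : Subgroup G} {p : ℕ}
    (c : StarCtx M E P p)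
    (hmem : ∀ w : G, w ∈ starW M E ↔ ∃ z ∈ starZ M E, ∃ e ∈ E, w = z * e)
    (hZne : starZ M E ≠ ⊥) : ¬ sigmaCore M ≤ starW M E := by
  intro hle
  have hZσ : starZ M E ≤ sigmaCore M := inf_le_left
  have hσZ : sigmaCore M ≤ starZ M E := by
    intro n hn
    obtain ⟨z, hz, e, he, rfl⟩ := (hmem n).mp (hle hn)
    have he' : e ∈ E ⊓ sigmaCore M := by
      refine ⟨he, ?_⟩
      have h1 : e = z⁻¹ * (z * e) := by group
      rw [h1]
      exact Subgroup.mul_mem _ (Subgroup.inv_mem _ (hZσ hz)) hn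
    rw [c.compl.2.2.1, Subgroup.mem_bot] at he'
    rw [he', mul_one]; exact hz
  have hcen : sigmaCore M ≤ centralizer (E : Set G) := hσZ.trans inf_le_right
  have h26 := (Cfsg.Agent.S1426.result hG M c.coatom E c.compl).2.1
  have hbot : ⁅sigmaCore M, E⁆ = ⊥ := Subgroup.commutator_eq_bot_iff_le_centralizer.mpr hcen
  rw [hbot] at h26
  apply hZne
  rw [eq_bot_iff, h26]
  exact hZσ

end Cfsg.Agent.Helper1
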