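import Mathlib
import Cfsg.Agent.Helper2.BG15bMain

/-! CALL S1376 (C9), piece G1: `K* ⊓ (Q ⊓ C(D)) = ⊥` in the setting of S1437 (from inside its proof). -/

set_option autoImplicit false

namespace Cfsg.Agent.Helper1

open Cfsg Subgroup

universe u

variable {G : Type u} [Group G] [Finite G]

/-- A `q`-subgroup of `S` lies in a normal subgroup `Q` of `S` of index prime to `q`. -/
theorem c9_disj_le_aux {S Q K : Subgroup G} {q : ℕ} (hq : q.Prime) (hQS : Q ≤ S)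
    (hQn : S ≤ normalizer (Q : Set G)) (hQi : ¬ q ∣ Q.relIndex S) (hKS : K ≤ S)
    (hK : IsPGroup q K) : K ≤ Q := by
  haveI : (Q.subgroupOf S).Normal := (Subgroup.normal_subgroupOf_iff_le_normalizer hQS).mpr hQn
  intro k hk
  obtain ⟨n, hn⟩ := hK ⟨k, hk⟩
  have hk1 : k ^ q ^ n = 1 := by
    have := congrArg Subtype.val hn
    simpa using this
  set k' : ↥S := ⟨k, hKS hk⟩
  have hk' : k' ^ q ^ n = 1 := Subtype.ext (by simpa using hk1)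
  have h1 : (QuotientGroup.mk k' : ↥S ⧸ Q.subgroupOf S) ^ q ^ n = 1 := by
    rw [← QuotientGroup.mk_pow, hk']; rfl
  have h2 : (QuotientGroup.mk k' : ↥S ⧸ Q.subgroupOf S) ^ (Q.relIndex S) = 1 := by
    have : Nat.card (↥S ⧸ Q.subgroupOf S) = Q.relIndex S := by
      rw [Subgroup.relIndex, Subgroup.index_eq_card]
    rw [← this]
    exact pow_card_eq_one'
  have hcop : (q ^ n).Coprime (Q.relIndex S) :=
    Nat.Coprime.pow_left n ((Nat.Prime.coprime_iff_not_dvd hq).mpr hQi)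
  have h3 : (QuotientGroup.mk k' : ↥S ⧸ Q.subgroupOf S) = 1 := by
    have ho1 := orderOf_dvd_of_pow_eq_one h1
    have ho2 := orderOf_dvd_of_pow_eq_one h2
    have := Nat.eq_one_of_dvd_coprimes hcop ho1 ho2
    exact orderOf_eq_one_iff.mp this
  have h4 : k' ∈ Q.subgroupOf S := (QuotientGroup.eq_one_iff k').mp h3
  exact Subgroup.mem_subgroupOf.mp h4

/-- G1 (DISJ). -/
theorem c9_disj (hG : IsMinSimpleOddOrder G) {M K U : Subgroup G} (hM : IsCoatom M)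
    (hKU : IsSigmaDecomposition M K U) (hne : fittingHallOf M ≠ sigmaCore M) {Q D : Subgroup G}
    (hQσ : Q ≤ sigmaCore M) (hQn : M ≤ normalizer (Q : Set G))
    (hQq : IsPGroup (Nat.card ↥(sigmaCore M ⊓ centralizer (K : Set G))) Q)
    (hQi : ¬ Nat.card ↥(sigmaCore M ⊓ centralizer (K : Set G)) ∣ Q.relIndex (sigmaCore M))
    (hD : IsComplIn Q D (sigmaCore M)) :
    (sigmaCore M ⊓ centralizer (K : Set G)) ⊓ (Q ⊓ centralizer (D : Set G)) = ⊥ := by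
  classical
  obtain ⟨hU, hK1⟩ := Cfsg.Agent.Helper2.bg15b_KU hG hM hKU hne
  have hprime := Cfsg.Agent.S1373.result hG M hM K U hKU hK1 hU
  have h55 := Cfsg.Agent.S1355.result hG M hM
  have h64 := Cfsg.Agent.S1364.result hG M hM K U hKU hK1
  have hSM : sigmaCore M ≤ M := Cfsg.Agent.Helper23.piCoreOf_le (sigma M) M
  have hSn : M ≤ normalizer (sigmaCore M : Set G) :=
    Cfsg.Agent.Helper23.le_normalizer_piCoreOf (sigma M) M
  have hKM : K ≤ M := hKU.hall.1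
  have hnn : ¬ Group.IsNilpotent ↥(sigmaCore M) := fun h =>
    hne (le_antisymm h55.2.1 (Cfsg.Agent.Helper31.bgc_sigmaCore_le_fittingHall hG hM h))
  obtain ⟨Q', hQ'F, hQ'S, hQ'n, hQ'q, hQ'i, hKsQ'⟩ :=
    Cfsg.Agent.Helper62.bg15b_exists_Q hG hM hKU hK1 hU
  -- the two normal Sylow subgroups coincide
  have hQQ' : Q' = Q :=
    le_antisymm (c9_disj_le_aux hprime hQσ (hSM.trans hQn) hQi hQ'S hQ'q)
      (c9_disj_le_aux hprime hQ'S (hSM.trans hQ'n) hQ'i hQσ hQq)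
  subst hQQ'
  have hKsQ := hKsQ'
  have hKs1 : sigmaCore M ⊓ centralizer (K : Set G) ≠ ⊥ := h64.2.1
  have hQ1 : Q' ≠ ⊥ := fun h => hKs1 (le_bot_iff.mp (h ▸ hKsQ))
  obtain ⟨D₀, hD₀, hKD⟩ := Cfsg.Agent.Helper47.bg15b_exists_D hG hM hKU hQ'S hprime hQ'q hQ'i hQ1
  have hD₀n := Cfsg.Agent.Helper20.bg15b_D0_nilpotent hG hM hKU hK1 hKsQ hD₀ hKD
  have hcj : ∀ D : Subgroup G, IsComplIn Q' D (sigmaCore M) →
      ∃ u ∈ sigmaCore M, D = D₀.map (MulAut.conj u).toMonoidHom :=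
    fun D hD => Cfsg.Agent.Helper91.bg15b_compl_conj hG hM hprime hQ'q hQ'i hD hD₀
  have hnc : ¬ Q' ≤ centralizer (D₀ : Set G) := fun h =>
    hnn (Cfsg.Agent.Helper91.bg15b_nilpotent_of_comm hprime hQ'q hD₀n hD₀ h)
  have hQ₁ne : Q' ⊓ centralizer (D₀ : Set G) ≠ Q' := fun h => hnc (inf_eq_left.mp h)
  have hD1 : D₀ ≠ ⊥ := by
    rintro rfl
    apply hnc
    intro x _
    rw [Subgroup.mem_centralizer_iff]
    intro y hy
    have hy1 : y = 1 := Subgroup.mem_bot.mp hy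
    rw [hy1, one_mul, mul_one]
  have hD₀M : D₀ ≤ M := hD₀.2.1.trans hSM
  have hD₀Q : D₀ ≤ normalizer (Q' : Set G) := hD₀M.trans hQ'n
  have hKQ : K ≤ normalizer (Q' : Set G) := hKM.trans hQ'n
  have hD₀Q₁ : D₀ ≤ normalizer ((Q' ⊓ centralizer (D₀ : Set G) : Subgroup G) : Set G) :=
    fun d hd => Cfsg.Agent.Helper78.bg15b_norm_inf_cent (hD₀Q hd) (le_normalizer hd)
  have hKQ₁ : K ≤ normalizer ((Q' ⊓ centralizer (D₀ : Set G) : Subgroup G) : Set G) :=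
    fun k hk => Cfsg.Agent.Helper78.bg15b_norm_inf_cent (hKQ hk) (hKD hk)
  have hcnt : ∀ Y K₀ : Subgroup G, Y ≤ Q' →
      (D₀ ≤ normalizer (Y : Set G) ∧ K ≤ normalizer (Y : Set G)) → K₀ ≤ K → K₀ ≠ ⊥ →
      Nat.card ↥(Y ⊓ (Q' ⊓ centralizer (D₀ : Set G)) ⊓ (sigmaCore M ⊓ centralizer (K : Set G))) ^
          Nat.card K₀ * Nat.card Y =
        Nat.card ↥(Y ⊓ (sigmaCore M ⊓ centralizer (K : Set G))) ^ Nat.card K₀ *
          Nat.card ↥(Y ⊓ (Q' ⊓ centralizer (D₀ : Set G))) :=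
    fun Y K₀ hYQ hYn hK₀ hK₀1 =>
      Cfsg.Agent.Helper91.bg15b_count hG hM hKU hK1 hprime hQ'q hQ'i hKsQ hD₀ hD1 hKD Y K₀ hYQ hYn
        hK₀ hK₀1
  obtain ⟨hdisj, hcard, hKp⟩ := Cfsg.Agent.Helper92.bg15b_core_card hprime hKsQ inf_le_left hK1
    hQ₁ne (fun Y : Subgroup G => D₀ ≤ normalizer (Y : Set G) ∧ K ≤ normalizer (Y : Set G))
    ⟨hD₀Q, hKQ⟩ hcnt
  have hdich := Cfsg.Agent.Helper92.bg15b_core_dich hprime hKsQ inf_le_left hK1 hQ₁ne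
    (fun Y : Subgroup G => D₀ ≤ normalizer (Y : Set G) ∧ K ≤ normalizer (Y : Set G))
    ⟨hD₀Q, hKQ⟩ hcnt hdisj hcard
  have hfr := Cfsg.Agent.Helper10.bg15b_frat hprime hQ'q inf_le_left hQ₁ne (fun N hN h1 h2 =>
    hdich N ⟨fun d hd => hN d (hD₀Q hd) (hD₀Q₁ hd), fun k hk => hN k (hKQ hk) (hKQ₁ hk)⟩ h1 h2)
  have hQQ₁ := Cfsg.Agent.Helper78.bg15b_norm_of_comm
    (inf_le_left : Q' ⊓ centralizer (D₀ : Set G) ≤ Q') (fun a ha b hb => (hfr a ha b hb).2)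
  obtain ⟨hMn, hceq⟩ := Cfsg.Agent.Helper78.bg15b_M_norm hD₀ hQ'n hSn hSM hcj hQQ₁
  rw [hceq D hD]
  exact hdisj

end Cfsg.Agent.Helper1
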