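import Cfsg.Agent.Helper1.C9Defs
import Cfsg.Agent.S1351
import Cfsg.Agent.S1352

/-! CALL S1376 (C9), piece LDEC. -/

set_option autoImplicit false

namespace Cfsg.Agent.Helper1

open Cfsg Subgroup

universe u

variable {G : Type u} [Group G] [Finite G]

/-- LDEC.  `KL := N_σ ⊓ C(K)` is a Hall `κ(L)`-subgroup of `L`, cyclic (S1351), so S1352 gives `UL`. -/
theorem c9_Ldec (hG : IsMinSimpleOddOrder G) {M N K U L : Subgroup G} {x : G}
    (h : C9 M N K U L x) :
    ∃ UL : Subgroup G, IsSigmaDecomposition L (sigmaCore N ⊓ centralizer (K : Set G)) UL :=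
  (Cfsg.Agent.S1352.result hG L h.hL _ ((Cfsg.Agent.S1351.result hG L h.hL).2 _ h.hKstH)
    h.hKstH).1

end Cfsg.Agent.Helper1
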