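import Cfsg.Agent.Helper1.C9Defs
import Cfsg.Agent.S1351
import Cfsg.Agent.S1352
import Cfsg.Agent.S1355
import Cfsg.Agent.S1364
import Cfsg.Agent.S1366
import Cfsg.Agent.S1375
import Cfsg.Agent.S1414
import Cfsg.Agent.S1418
import Cfsg.Agent.S1429
import Cfsg.Agent.S1435
import Cfsg.Agent.S1437
import Cfsg.Agent.Helper22.C9DEC
import Cfsg.Agent.Helper47.C9RSY
import Cfsg.Agent.Helper61.C9BAS
import Cfsg.Agent.Helper59.C9NIL
import Cfsg.Agent.Helper59.C9TA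
import Cfsg.Agent.Helper73.C9TB
import Cfsg.Agent.Helper49.C9TD
import Cfsg.Agent.Helper47.C9TE
import Cfsg.Agent.Helper47.C9TF
import Cfsg.Agent.Helper1.C9G1
import Cfsg.Agent.Helper50.C9G2
import Cfsg.Agent.Helper51.C9G3
import Cfsg.Agent.Helper73.C9G4
import Cfsg.Agent.Helper20.C9G5
import Cfsg.Agent.Helper10.C9KQ
import Cfsg.Agent.Helper10.C9FHN
import Cfsg.Agent.Helper1.C9LDEC
import Cfsg.Agent.Helper92.C9SYL
import Cfsg.Agent.Helper55.C9REG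
import Cfsg.Agent.Helper73.C9BETA
import Cfsg.Agent.Helper10.C9DN
import Cfsg.Agent.Helper55.C9AB
import Cfsg.Agent.Helper10.C9CYC
import Cfsg.Agent.Helper3.C9FC
import Cfsg.Agent.Helper25.C9TI
import Cfsg.Agent.Helper25.C9SN

/-!
# S1376 = B&G Corollary 15.9: assembly of the CALL S1376 (C9) pieces
-/

set_option autoImplicit false

namespace Cfsg.Agent.Helper1

open Cfsg Subgroup

universe u

variable {G : Type u} [Group G] [Finite G]

/-! ### ASSEMBLY (helper1) -/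

theorem c9_setting (hG : IsMinSimpleOddOrder G) {M N : Subgroup G} (hM : IsCoatom M)
    (hN : IsCoatom N) {x : G} (hx : x ∈ sigmaCore M) (hx1 : x ≠ 1)
    (hxM : ¬ centralizer ({x} : Set G) ≤ M) (hxN : centralizer ({x} : Set G) ≤ N)
    (hkN : (kappa N).Nonempty) : ∃ K U L : Subgroup G, C9 M N K U L x := by
  obtain ⟨K, U, hKU, hK1, hU1, hUK⟩ := Cfsg.Agent.Helper22.c9_dec hG hM hN hx hx1 hxM hxN hkN
  obtain ⟨L, ⟨hL, hKst, hKstH⟩, -⟩ := Cfsg.Agent.S1366.result hG N hN K U hKU hK1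
  obtain ⟨r, hr, R, hrU, hNR⟩ := Cfsg.Agent.Helper47.c9_R hG hM hN hx hx1 hxM hxN hKU hK1 hUK
  obtain ⟨h1, h2, h3, -, h5, h6⟩ :=
    Cfsg.Agent.S1435.result hG N hN K U hKU hK1 hU1 L hL hKst hKstH r hrU R M hM hNR
  exact ⟨K, U, L, ⟨hM, hN, hL, hKU, hK1, hU1, hKst, hKstH, hx, hx1, hxM, hxN, h1, h2, h3, h5, h6⟩⟩

theorem c9_tau2 (hG : IsMinSimpleOddOrder G) {M N K U L : Subgroup G} {x : G}
    (h : C9 M N K U L x) : tau2 M = ∅ := by
  obtain ⟨hML, hKE, hKL, hKp, hKσ, hEσ, hEp, hσ1⟩ := Cfsg.Agent.Helper61.c9_basic hG h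
  have hk2 : Nat.card K ∉ tau2 M := fun hk => by
    obtain ⟨A', hA'⟩ := Cfsg.Agent.Helper59.c9_exA hG h hk
    exact Cfsg.Agent.Helper47.c9_kA hG h hML hk hA' (Cfsg.Agent.Helper49.c9_sylab hG h hk hA')
  by_contra hne
  obtain ⟨r, hr⟩ := Set.nonempty_iff_ne_empty.mpr hne
  have hrk : r ≠ Nat.card K := fun e => hk2 (e ▸ hr)
  have hrp : r.Prime := hr.1
  obtain ⟨A, hA⟩ := Cfsg.Agent.Helper59.c9_exA hG h hr
  obtain ⟨hrL, hAL⟩ := Cfsg.Agent.Helper73.c9_sigL hG h hML hr hA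
  have hab := Cfsg.Agent.Helper49.c9_sylab hG h hr hA
  have hAr : IsPGroup r A := IsPGroup.of_card (n := 2) hA.2.2
  haveI := Fact.mk hrp
  have hCA : centralizer (A : Set G) ≤ M :=
    ((Cfsg.Agent.S1418.result hG M h.hM (M ⊓ L) h.hE r hr A hA).2.1.1).trans inf_le_left
  by_cases hF : fittingHallOf L = sigmaCore L
  · exact Cfsg.Agent.Helper47.c9_nilcase hG h hML hr hrk hA hAL (hF ▸ Cfsg.Agent.Helper10.c9_fittingHall_nil L)
  · obtain ⟨UL, hLdec⟩ := Cfsg.Agent.Helper1.c9_Ldec hG h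
    obtain ⟨hUL, -, hKLp, hKsp, -, -, Q, hQF, hQn, hQq, hQi, hall⟩ :=
      Cfsg.Agent.S1437.result hG L h.hL _ UL hLdec hF
    have hKeq : sigmaCore L ⊓ centralizer
        ((sigmaCore N ⊓ centralizer (K : Set G) : Subgroup G) : Set G) = K := h.hKst.symm
    rw [hKeq] at hKsp hQq hQi
    have hQσ : Q ≤ sigmaCore L := hQF.trans (Cfsg.Agent.S1355.result hG L h.hL).2.1
    have hσL : sigmaCore L ≤ L := by
      intro y hy
      obtain ⟨z, -, rfl⟩ := hy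
      exact z.2
    have hcopA : (Nat.card A).Coprime (Nat.card K) := by
      rw [hA.2.2]
      exact Nat.Coprime.pow_left 2 ((Nat.coprime_primes hrp hKp).mpr hrk)
    have hStop : sigmaCore L ≠ ⊤ := fun e => h.hL.1 (top_le_iff.mp (e ▸ hσL))
    obtain ⟨D, hD, hAD⟩ := Cfsg.Agent.Helper50.c9_exD hG hStop hKp hQσ (hσL.trans hQn) hQq hQi hAL hcopA
    obtain ⟨hDnil, hLn₀, hlt, hcard, hcomm, hmin⟩ := hall D hD
    rw [hKeq] at hcard
    have hDC : D ≤ centralizer (A : Set G) := Cfsg.Agent.Helper51.c9_cent hrp hDnil hAD hAr hab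
    have hDL : D ≤ L := hD.2.1.trans hσL
    have hDE : D ≤ M ⊓ L := le_inf (hDC.trans hCA) hDL
    have hKQ : K ≤ Q := Cfsg.Agent.Helper10.c9_le_Q hKp hQσ (hσL.trans hQn) hQi hKL (IsPGroup.of_card (n := 1) (by rw [pow_one]))
    have hKn := Cfsg.Agent.Helper73.c9_Knorm hG h hk2 hQq hKQ hQn
    have hdisj := Cfsg.Agent.Helper1.c9_disj hG h.hL hLdec hF hQσ hQn (hKeq.symm ▸ hQq) (hKeq.symm ▸ hQi) hD
    rw [hKeq] at hdisj
    have hLle : L ≤ (sigmaCore N ⊓ centralizer (K : Set G)) ⊔ (Q ⊔ D) := by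
      intro l hl
      obtain ⟨a, ha, b, hb, rfl⟩ := hLdec.compl.2.2.2 l hl
      rw [hUL, Subgroup.mem_bot] at ha
      subst ha
      rw [one_mul]
      have hσQD : sigmaCore L ≤ Q ⊔ D := by
        intro y hy
        obtain ⟨q, hq, d, hd, rfl⟩ := hD.2.2.2 y hy
        exact Subgroup.mul_mem _ (Subgroup.mem_sup_left hq) (Subgroup.mem_sup_right hd)
      exact (sup_le_sup_left hσQD _) hb
    have hKLK : sigmaCore N ⊓ centralizer (K : Set G) ≤ centralizer (K : Set G) := inf_le_right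
    exact Cfsg.Agent.Helper20.c9_Gfin h.hK1 hKp hKLp.two_le hKQ hLle hLdec.hall.1 hLn₀
      (fun a ha b hb => (hcomm a ha b hb).2) hmin hcard hdisj
      (hDE.trans hKn) hDL hKLK

theorem c9_main (hG : IsMinSimpleOddOrder G) (M : Subgroup G) (hM : IsCoatom M) (x : G)
    (hx : x ∈ sigmaCore M) (hx1 : x ≠ 1) (hxM : ¬ centralizer ({x} : Set G) ≤ M)
    (N : Subgroup G) (hN : IsCoatom N) (hxN : centralizer ({x} : Set G) ≤ N)
    (hkN : (kappa N).Nonempty) :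
    kappa M = ∅ ∧ (∃ E : Subgroup ↥M, IsFrobeniusComplement E ∧ IsCyclic E) ∧
      ¬ IsTISubset (fittingHallOf M : Set G) := by
  obtain ⟨K, U, L, h⟩ := c9_setting hG hM hN hx hx1 hxM hxN hkN
  obtain ⟨hML, hKE, hKL, hKp, hKσ, hEσ, hEp, hσ1⟩ := Cfsg.Agent.Helper61.c9_basic hG h
  have hnil := Cfsg.Agent.Helper59.c9_sigma_nil hG h
  have ht := c9_tau2 hG h
  obtain ⟨hσn, hcop, hσM'⟩ := Cfsg.Agent.Helper25.c9_sigma_facts hG h
  have hsyl := fun s hs hsM hsσ P hPM hP => Cfsg.Agent.Helper92.c9_syl hG h ht (s := s) hs hsM hsσ P hPM hP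
  obtain ⟨hreg, hcycS⟩ := Cfsg.Agent.Helper55.c9_reg (E := M ⊓ L) (H := sigmaCore M) inf_le_left hEp hsyl
  have hβ := Cfsg.Agent.Helper73.c9_beta hG h hnil
  have hder : Group.IsNilpotent ↥⁅M, M⁆ := by
    apply Cfsg.Agent.Helper10.c9_nil_of_compl
    intro s hs hsd
    have hsM : s ∣ Nat.card M := by
      have h1 : Nat.card ↥⁅M, M⁆ ∣ Nat.card M :=
        Subgroup.card_dvd_of_le (Cfsg.Agent.S1355.result hG M hM).2.2.2.1.le
      exact hsd.trans h1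
    exact ((Cfsg.Agent.S1414.result hG M hM).2.2.2.2 s hs hsM (hβ s hs hsM)).1
  have hab := Cfsg.Agent.Helper55.c9_abel (E := M ⊓ L) (H := sigmaCore M) inf_le_left hσM' hder hσ1 hcop hreg
  have hE1 : M ⊓ L ≠ ⊥ := fun e => h.hK1 (le_bot_iff.mp (e ▸ hKE))
  refine ⟨h.hκ, ⟨(M ⊓ L).subgroupOf M, Cfsg.Agent.Helper3.c9_frobc h.hE hσn hE1 hσ1 hreg, ?_⟩, Cfsg.Agent.Helper25.c9_notTI hG h hnil⟩
  have e : ↥((M ⊓ L).subgroupOf M) ≃* ↥(M ⊓ L) := Subgroup.subgroupOfEquivOfLe inf_le_left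
  have hcyc : IsCyclic ↥(M ⊓ L) :=
    Cfsg.Agent.Helper10.c9_cyc (fun a b => Subtype.ext (hab a a.2 b b.2)) hcycS
  exact isCyclic_of_surjective e.symm.toMonoidHom e.symm.surjective

end Cfsg.Agent.Helper1
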