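import Cfsg.Agent.Helper1.CNSolv
import Cfsg.Agent.S0664
import Cfsg.Agent.S3081
import Cfsg.Agent.Helper11.ZJLocal
import Cfsg.Agent.Helper24.HallHigman
import Cfsg.Agent.Helper99.QdStable

/-!
# Minimal simple CN-groups of odd order (Feit–Hall–Thompson), part 1

`cnodd_no_bad_subgroup`: in a minimal simple CN-group of odd order, a proper subgroup `L` with
`O_r(L) ≠ 1` has a normal Sylow `r`-subgroup.  Consequently no subgroup is a three-step group
(`cnodd_not_three_step`).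

The proof: a counterexample `L` with Sylow `r`-subgroup `P` of largest possible order is a
three-step group for `r` (`cnodd_three_step_of_bad`); Glauberman's ZJ-theorem (`S0664`) gives
`L ≤ N = N_G(Z(J(P)))`, maximality makes `P` a Sylow subgroup of `G`, `N` controls strong fusion in
`P` (`S3081`), so `P = P ∩ G' ≤ N'` by the focal subgroup theorem; but `N` is again a three-step
group and has a normal subgroup of index `r`.
-/

set_option autoImplicit false
open scoped Pointwise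

namespace Cfsg.Agent.Helper1

universe u

open scoped commutatorElement

/-- A finite group of odd order has no section isomorphic to `Qd(r)`. -/
theorem cnodd_qd_free_of_odd {X : Type*} [Group X] [Finite X] (hodd : Odd (Nat.card X)) (r : ℕ)
    [Fact r.Prime] (hr : r ≠ 2) :
    ¬ ∃ (K R : Subgroup X) (_ : (R.subgroupOf K).Normal),
      Nonempty ((K ⧸ R.subgroupOf K) ≃* ↥(Cfsg.qd r)) := by
  rintro ⟨K, R, hR, ⟨e⟩⟩
  haveI : Fact (Nat.Prime 2) := ⟨Nat.prime_two⟩
  have hz2 : (Cfsg.Agent.Helper99.qdN r * Cfsg.Agent.Helper99.qdN r) ^ 2 = 1 := by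
    rw [pow_two]; exact Cfsg.Agent.Helper99.qd_F3 r
  have hz1 : Cfsg.Agent.Helper99.qdN r * Cfsg.Agent.Helper99.qdN r ≠ 1 := by
    intro h
    apply Cfsg.Agent.Helper99.qd_F4 r hr
    rw [h, one_mul, mul_one]
  have ho : orderOf (Cfsg.Agent.Helper99.qdN r * Cfsg.Agent.Helper99.qdN r) = 2 :=
    orderOf_eq_prime hz2 hz1
  have ho' : orderOf (e.symm (Cfsg.Agent.Helper99.qdN r * Cfsg.Agent.Helper99.qdN r)) = 2 := by
    rw [← ho]; exact MulEquiv.orderOf_eq e.symm _
  have h2 : 2 ∣ Nat.card (K ⧸ R.subgroupOf K) := ho' ▸ orderOf_dvd_natCard _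
  have h3 : Nat.card (K ⧸ R.subgroupOf K) ∣ Nat.card K := Subgroup.card_quotient_dvd_card _
  have h4 : Nat.card K ∣ Nat.card X := Subgroup.card_subgroup_dvd_card K
  have h5 := (h2.trans h3).trans h4
  rw [Nat.odd_iff] at hodd; omega

theorem cnodd_ne_two {X : Type*} [Group X] [Finite X] (hodd : Odd (Nat.card X)) (r : ℕ)
    [Fact r.Prime] (S : Subgroup X) (hSr : IsPGroup r S) (hS : S ≠ ⊥) : r ≠ 2 := by
  rintro rfl
  have h1 : 2 ∣ Nat.card S := by
    obtain ⟨k, hk⟩ := IsPGroup.iff_card.mp hSr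
    rw [hk]
    cases k with
    | zero =>
      exfalso; rw [pow_zero] at hk; exact hS (Subgroup.card_eq_one.mp hk)
    | succ k => exact dvd_pow_self 2 (Nat.succ_ne_zero k)
  have h2 := h1.trans (Subgroup.card_subgroup_dvd_card S)
  rw [Nat.odd_iff] at hodd; omega

/-- A solvable CN-group with `O_r ≠ 1` and a non-normal Sylow `r`-subgroup is a three-step group
for `r`. -/
theorem cnodd_three_step_of_bad {L : Type u} [Group L] [Finite L] [Group.IsSolvable L]
    (hCN : Cfsg.IsCNGroup L) (r : ℕ) [Fact r.Prime] (hcore : Cfsg.pCore r L ≠ ⊥) (S : Sylow r L)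
    (hS : ¬ (S : Subgroup L).Normal) : Cfsg.IsThreeStepGroup r L := by
  haveI : Nontrivial L := by
    by_contra h
    rw [not_nontrivial_iff_subsingleton] at h
    exact hcore (Subsingleton.elim _ _)
  have hnoSyl : ∀ (q : ℕ) [Fact q.Prime] (T : Sylow q L), (T : Subgroup L).Normal →
      (T : Subgroup L) = ⊥ := by
    intro q _ T hT
    by_contra hT1
    by_cases hqr : q = r
    · subst hqr
      haveI := Sylow.unique_of_normal T hT
      exact hS (Subsingleton.elim T S ▸ hT)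
    · have hQ : Cfsg.pCore q L ≠ ⊥ :=
        fun h => hT1 (eq_bot_iff.mpr (h ▸ le_pCore' hT T.isPGroup'))
      exact hS (cn_normal_sylow_of_two_cores hCN r q (Ne.symm hqr) hcore hQ S)
  obtain ⟨p, hp, h3⟩ := cn_three_step hCN hnoSyl
  haveI : Fact p.Prime := ⟨hp⟩
  by_cases hpr : p = r
  · subst hpr; exact h3
  · exact absurd (cn_normal_sylow_of_two_cores hCN r p (Ne.symm hpr) hcore h3.1 S) hS

/-- A solvable three-step group (for any number `p`) has, for some prime `r`, `O_r ≠ 1` and no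
normal Sylow `r`-subgroup. -/
theorem cnodd_bad_of_three_step {X : Type u} [Group X] [Finite X] [Group.IsSolvable X] (p : ℕ)
    (h : Cfsg.IsThreeStepGroup p X) :
    ∃ r : ℕ, r.Prime ∧ Cfsg.pCore r X ≠ ⊥ ∧ ∀ S : Sylow r X, ¬ (S : Subgroup X).Normal := by
  obtain ⟨hK1, A, hA1, hAc, hAodd, hAcop, hKAn, hKAtop, ⟨n, hn⟩, hfpf, hfrob⟩ := h
  haveI hKn := pCore_normal' p X
  obtain ⟨R, hRn, hRK, hR1, hmin⟩ := exists_minNormal (Cfsg.pCore p X) hK1
  haveI := hRn
  obtain ⟨hRc, r, hr, hexp⟩ := minNormal_elemAbelian R hR1 hmin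
  haveI : Fact r.Prime := ⟨hr⟩
  have hRp : IsPGroup r R := fun x => ⟨1, by rw [pow_one]; exact Subtype.ext (hexp x x.2)⟩
  have hcore : Cfsg.pCore r X ≠ ⊥ := fun h => hR1 (eq_bot_iff.mpr (h ▸ le_pCore' hRn hRp))
  have hrp : r ∣ p := by
    obtain ⟨x, hxR, hx1⟩ := exists_ne_one_of_ne_bot hR1
    have hox : orderOf x = r := orderOf_eq_prime (hexp x hxR) hx1
    obtain ⟨k, hk⟩ := (pCore_isPGroup' p X) ⟨x, hRK hxR⟩
    have h1 : x ^ p ^ k = 1 := congrArg Subtype.val hk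
    have h2 : r ∣ p ^ k := hox ▸ orderOf_dvd_of_pow_eq_one h1
    exact hr.dvd_of_dvd_pow h2
  refine ⟨r, hr, hcore, fun S hSn => ?_⟩
  have hSp : IsPGroup p (S : Subgroup X) := by
    intro g
    obtain ⟨k, hk⟩ := S.isPGroup' g
    obtain ⟨c, hc⟩ := hrp
    refine ⟨k, ?_⟩
    rw [hc, mul_pow, pow_mul, hk, one_pow]
  have hSK : (S : Subgroup X) ≤ Cfsg.pCore p X ⊔ A := (le_pCore' hSn hSp).trans le_sup_left
  have h1 : (Cfsg.pCore p X ⊔ A).index ∣ (S : Subgroup X).index := Subgroup.index_dvd_of_le hSK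
  have h2 : ¬ r ∣ (S : Subgroup X).index := S.not_dvd_index
  have hn0 : n ≠ 0 := by
    rintro rfl
    rw [pow_zero] at hn
    exact hKAtop (Subgroup.index_eq_one.mp hn)
  have h3 : r ∣ (Cfsg.pCore p X ⊔ A).index := by rw [hn]; exact hrp.trans (dvd_pow_self p hn0)
  exact h2 (h3.trans h1)

/-- One step: a "bad" subgroup `L` lies in the bad subgroup `N_G(Z(J(P)))`. -/
theorem cnodd_bad_step {G : Type u} [Group G] [Finite G] (hG : Cfsg.IsMinSimpleOddOrder G)
    (hCN : Cfsg.IsCNGroup G) (r : ℕ) [Fact r.Prime] (L : Subgroup G) (hL : L ≠ ⊤)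
    (hcore : Cfsg.pCore r ↥L ≠ ⊥) (S : Sylow r ↥L) (hS : ¬ (S : Subgroup ↥L).Normal)
    (N : Subgroup G)
    (hN : N = Subgroup.normalizer
        (Cfsg.centerThompsonAOf ((S : Subgroup ↥L).map L.subtype) : Set G)) :
    N ≠ ⊤ ∧ L ≤ N ∧ Cfsg.pCore r ↥N ≠ ⊥ ∧ ∀ T : Sylow r ↥N, ¬ (T : Subgroup ↥N).Normal := by
  obtain ⟨hodd, hsimp, hnc, hsolv⟩ := hG
  haveI := hsimp
  haveI : Group.IsSolvable ↥L := hsolv L hL
  have hCNL : Cfsg.IsCNGroup ↥L := Cfsg.Agent.Helper25.isCNGroup_subgroup hCN L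
  have hoddL : Odd (Nat.card L) := Odd.of_dvd_nat hodd (Subgroup.card_subgroup_dvd_card L)
  have hr := (Fact.out : r.Prime)
  have hS1 : (S : Subgroup ↥L) ≠ ⊥ := by
    intro h; apply hS; rw [h]; infer_instance
  have hr2 : r ≠ 2 := cnodd_ne_two hoddL r (S : Subgroup ↥L) S.isPGroup' hS1
  have hfree := cnodd_qd_free_of_odd hoddL r hr2
  have hc : Subgroup.centralizer (Cfsg.pCore r ↥L : Set ↥L) ≤ Cfsg.pCore r ↥L := by
    apply Cfsg.Agent.Helper24.centralizer_pCore_le r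
    intro D hD hcop
    by_contra hD1
    haveI := hD
    obtain ⟨R, hRn, hRD, hR1, hmin⟩ := exists_minNormal D hD1
    haveI := hRn
    obtain ⟨-, q, hq, hexp⟩ := minNormal_elemAbelian R hR1 hmin
    haveI : Fact q.Prime := ⟨hq⟩
    have hRq : IsPGroup q R := fun x => ⟨1, by rw [pow_one]; exact Subtype.ext (hexp x x.2)⟩
    have hQ : Cfsg.pCore q ↥L ≠ ⊥ := fun h => hR1 (eq_bot_iff.mpr (h ▸ le_pCore' hRn hRq))
    have hqr : r ≠ q := by
      rintro rfl
      obtain ⟨x, hxR, hx1⟩ := exists_ne_one_of_ne_bot hR1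
      have hox : orderOf x = r := orderOf_eq_prime (hexp x hxR) hx1
      have h1 : r ∣ Nat.card D := hox ▸ (Subgroup.orderOf_dvd_natCard D (hRD hxR))
      exact hr.one_lt.ne' (Nat.Coprime.eq_one_of_dvd hcop.symm h1)
    exact hS (cn_normal_sylow_of_two_cores hCNL r q hqr hcore hQ S)
  have hWn : (Cfsg.centerThompsonAOf (S : Subgroup ↥L)).Normal :=
    Cfsg.Agent.S0664.result hr2 hfree hc S
  have hmap : (Cfsg.centerThompsonAOf (S : Subgroup ↥L)).map L.subtype =
      Cfsg.centerThompsonAOf ((S : Subgroup ↥L).map L.subtype) :=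
    Cfsg.Agent.Helper11.map_centerThompsonAOf_eq L.subtype (S : Subgroup ↥L)
      (fun x _ hx => Subtype.ext hx)
  have hPL : (S : Subgroup ↥L).map L.subtype ≤ L := Subgroup.map_subtype_le _
  have hPr : IsPGroup r ((S : Subgroup ↥L).map L.subtype) := S.isPGroup'.map _
  have hP1 : (S : Subgroup ↥L).map L.subtype ≠ ⊥ := by
    intro h
    exact hS1 ((Subgroup.map_eq_bot_iff_of_injective _ L.subtype_injective).mp h)
  have hW1 : Cfsg.centerThompsonAOf ((S : Subgroup ↥L).map L.subtype) ≠ ⊥ :=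
    Cfsg.Agent.Helper11.centerThompsonAOf_ne_bot _ hPr hP1
  have hWP : Cfsg.centerThompsonAOf ((S : Subgroup ↥L).map L.subtype) ≤
      (S : Subgroup ↥L).map L.subtype := Cfsg.Agent.Helper11.centerThompsonAOf_le _
  have hLN : L ≤ N := by
    rw [hN]
    intro l hl
    apply Subgroup.mem_normalizer_fintype
    intro w hw
    rw [SetLike.mem_coe, ← hmap] at hw ⊢
    obtain ⟨w', hw', rfl⟩ := hw
    exact ⟨⟨l, hl⟩ * w' * ⟨l, hl⟩⁻¹, hWn.conj_mem w' hw' ⟨l, hl⟩, rfl⟩
  have hNtop : N ≠ ⊤ := by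
    intro h
    rw [hN] at h
    have hWnG : (Cfsg.centerThompsonAOf ((S : Subgroup ↥L).map L.subtype)).Normal :=
      Subgroup.normalizer_eq_top_iff.mp h
    rcases Subgroup.Normal.eq_bot_or_eq_top hWnG with h1 | h1
    · exact hW1 h1
    · have hPtop : (S : Subgroup ↥L).map L.subtype = ⊤ := top_le_iff.mp (h1 ▸ hWP)
      have hGr : IsPGroup r G := by
        intro g
        obtain ⟨k, hk⟩ := hPr ⟨g, hPtop ▸ Subgroup.mem_top g⟩
        exact ⟨k, congrArg Subtype.val hk⟩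
      haveI : Nontrivial G := IsSimpleGroup.toNontrivial
      haveI := hGr.center_nontrivial
      rcases Subgroup.Normal.eq_bot_or_eq_top
        (inferInstance : (Subgroup.center G).Normal) with h2 | h2
      · exact (Subgroup.nontrivial_iff_ne_bot _).mp inferInstance h2
      · apply hnc
        exact ⟨⟨fun a b => Subgroup.mem_center_iff.mp (h2 ▸ Subgroup.mem_top b) a⟩⟩
  have hWN : Cfsg.centerThompsonAOf ((S : Subgroup ↥L).map L.subtype) ≤ N := by
    rw [hN]; exact Subgroup.le_normalizer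
  have hcoreN : Cfsg.pCore r ↥N ≠ ⊥ := by
    have hn : ((Cfsg.centerThompsonAOf ((S : Subgroup ↥L).map L.subtype)).subgroupOf N).Normal := by
      rw [hN]; exact Subgroup.normal_in_normalizer
    have hp : IsPGroup r ((Cfsg.centerThompsonAOf ((S : Subgroup ↥L).map L.subtype)).subgroupOf
        N) := (hPr.to_le hWP).comap_subtype
    intro h
    have h1 := le_pCore' hn hp
    rw [h, le_bot_iff, Subgroup.subgroupOf_eq_bot] at h1
    exact hW1 (h1.eq_bot_of_le hWN)
  refine ⟨hNtop, hLN, hcoreN, ?_⟩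
  intro T hT
  apply hS
  haveI := Sylow.unique_of_normal T hT
  obtain ⟨T', hT'⟩ := (hPr.comap_subtype (K := N)).exists_le_sylow
  have hT'T : T' = T := Subsingleton.elim _ _
  rw [hT'T] at hT'
  have hQp : IsPGroup r ((((T : Subgroup ↥N).map N.subtype) ⊓ L).subgroupOf L) :=
    ((T.isPGroup'.map _).to_le inf_le_left).comap_subtype
  have hSQ : (S : Subgroup ↥L) ≤ (((T : Subgroup ↥N).map N.subtype) ⊓ L).subgroupOf L := by
    intro s hs
    rw [Subgroup.mem_subgroupOf]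
    refine Subgroup.mem_inf.mpr ⟨?_, s.2⟩
    have hsP : (s : G) ∈ (S : Subgroup ↥L).map L.subtype := ⟨s, hs, rfl⟩
    exact ⟨⟨(s : G), hLN s.2⟩, hT' (Subgroup.mem_subgroupOf.mpr hsP), rfl⟩
  have hQS := S.is_maximal' hQp hSQ
  rw [← hQS]
  constructor
  intro q hq l
  rw [Subgroup.mem_subgroupOf] at hq ⊢
  refine Subgroup.mem_inf.mpr ⟨?_, (l * q * l⁻¹).2⟩
  obtain ⟨t, ht, hteq⟩ := (Subgroup.mem_inf.mp hq).1
  refine ⟨⟨(l : G), hLN l.2⟩ * t * ⟨(l : G), hLN l.2⟩⁻¹, hT.conj_mem t ht _, ?_⟩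
  show (l : G) * (N.subtype t) * (l : G)⁻¹ = (l : G) * (q : G) * (l : G)⁻¹
  rw [hteq]

/-- In a minimal simple CN-group of odd order, a proper subgroup `L` with `O_r(L) ≠ 1` has a normal
Sylow `r`-subgroup. -/
theorem cnodd_no_bad_subgroup {G : Type u} [Group G] [Finite G]
    (hG : Cfsg.IsMinSimpleOddOrder G) (hCN : Cfsg.IsCNGroup G) (r : ℕ) [Fact r.Prime]
    (L : Subgroup G) (hL : L ≠ ⊤) (hcore : Cfsg.pCore r ↥L ≠ ⊥) (S : Sylow r ↥L) :
    (S : Subgroup ↥L).Normal := by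
  by_contra hS
  have hr := (Fact.out : r.Prime)
  have hne : {L : Subgroup G | L ≠ ⊤ ∧ Cfsg.pCore r ↥L ≠ ⊥ ∧
      ∃ S : Sylow r ↥L, ¬ (S : Subgroup ↥L).Normal}.Nonempty := ⟨L, hL, hcore, S, hS⟩
  obtain ⟨L₀, ⟨hL₀, hcore₀, S₀, hS₀⟩, hmax⟩ := Set.exists_max_image _
    (fun L : Subgroup G => (Nat.card L).factorization r) (Set.toFinite _) hne
  clear hne hS S hcore hL L
  obtain ⟨hNtop, hLN, hcoreN, hbadN⟩ := cnodd_bad_step hG hCN r L₀ hL₀ hcore₀ S₀ hS₀ _ rfl
  obtain ⟨hodd, hsimp, hnc, hsolv⟩ := hG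
  haveI := hsimp
  have hPr : IsPGroup r ((S₀ : Subgroup ↥L₀).map L₀.subtype) := S₀.isPGroup'.map _
  have hS1 : (S₀ : Subgroup ↥L₀) ≠ ⊥ := by
    intro h; apply hS₀; rw [h]; infer_instance
  have hP1 : (S₀ : Subgroup ↥L₀).map L₀.subtype ≠ ⊥ := by
    intro h
    exact hS1 ((Subgroup.map_eq_bot_iff_of_injective _ L₀.subtype_injective).mp h)
  have hr2 : r ≠ 2 := cnodd_ne_two hodd r _ hPr hP1
  generalize hPdef : (S₀ : Subgroup ↥L₀).map L₀.subtype = P at hNtop hLN hcoreN hbadN hPr hP1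
  generalize hNdef : Subgroup.normalizer (Cfsg.centerThompsonAOf P : Set G) = N
    at hNtop hLN hcoreN hbadN
  have hPN : P ≤ N := by
    rw [← hPdef]; exact (Subgroup.map_subtype_le _).trans hLN
  have hPcard : Nat.card P = r ^ (Nat.card L₀).factorization r := by
    rw [← hPdef, Subgroup.card_map_of_injective L₀.subtype_injective]
    exact S₀.card_eq_multiplicity
  have hfact : (Nat.card N).factorization r = (Nat.card L₀).factorization r := by
    apply le_antisymm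
    · exact hmax N ⟨hNtop, hcoreN, default, hbadN default⟩
    · have h1 : r ^ (Nat.card L₀).factorization r ∣ Nat.card N :=
        hPcard ▸ Subgroup.card_dvd_of_le hPN
      exact (hr.pow_dvd_iff_le_factorization Nat.card_pos.ne').mp h1
  have hPNcard : Nat.card (P.subgroupOf N) = r ^ (Nat.card N).factorization r := by
    rw [card_subgroupOf_of_le hPN, hPcard, hfact]
  obtain ⟨Pg, hPg⟩ := hPr.exists_le_sylow
  have hPgeq : (Pg : Subgroup G) = P := by
    by_contra hne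
    have hlt : P < (Pg : Subgroup G) := lt_of_le_of_ne hPg (Ne.symm hne)
    obtain ⟨x, hxPg, hxn, hxP⟩ :=
      Cfsg.Agent.Helper11.exists_mem_normalizer_not_mem_of_lt_pGroup Pg.isPGroup' hlt
    have hxN : x ∈ N := by
      rw [← hNdef]
      exact Cfsg.Agent.Helper11.normalizer_le_normalizer_centerThompsonAOf P hxn
    have hle : P ⊔ Subgroup.zpowers x ≤ (Pg : Subgroup G) :=
      sup_le hPg (by rw [Subgroup.zpowers_le]; exact hxPg)
    have hQp : IsPGroup r ((P ⊔ Subgroup.zpowers x).subgroupOf N) :=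
      (Pg.isPGroup'.to_le hle).comap_subtype
    have hPQ : ((Sylow.ofCard (P.subgroupOf N) hPNcard : Sylow r ↥N) : Subgroup ↥N) ≤
        (P ⊔ Subgroup.zpowers x).subgroupOf N := by
      rw [Sylow.coe_ofCard]
      intro y hy
      exact Subgroup.mem_subgroupOf.mpr
        ((le_sup_left : P ≤ P ⊔ Subgroup.zpowers x) (Subgroup.mem_subgroupOf.mp hy))
    have heq := (Sylow.ofCard (P.subgroupOf N) hPNcard : Sylow r ↥N).is_maximal' hQp hPQ
    have hx' : (⟨x, hxN⟩ : N) ∈ (P ⊔ Subgroup.zpowers x).subgroupOf N :=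
      Subgroup.mem_subgroupOf.mpr
        ((le_sup_right : Subgroup.zpowers x ≤ P ⊔ Subgroup.zpowers x) (Subgroup.mem_zpowers x))
    rw [heq, Sylow.coe_ofCard] at hx'
    exact hxP (Subgroup.mem_subgroupOf.mp hx')
  have hqd : ¬ Cfsg.Involves ↥(Cfsg.qd r) G := cnodd_qd_free_of_odd hodd r hr2
  have hctrl := (Cfsg.Agent.S3081.result hr2 Pg (Pg : Subgroup G)
    ⟨le_rfl, fun x hx g hg => hg⟩ hqd).1
  rw [hPgeq, hNdef] at hctrl
  have hcomm : commutator G = ⊤ := by
    rcases Subgroup.Normal.eq_bot_or_eq_top (inferInstance : (commutator G).Normal) with h | h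
    · exfalso; apply hnc
      exact ⟨⟨fun a b => by
        have h1 : ⁅a, b⁆ ∈ commutator G :=
          Subgroup.commutator_mem_commutator (Subgroup.mem_top a) (Subgroup.mem_top b)
        rw [h, Subgroup.mem_bot] at h1
        exact commutatorElement_eq_one_iff_mul_comm.mp h1⟩⟩
    · exact h
  have hfocal : (Pg : Subgroup G).focalSubgroup = (Pg : Subgroup G) := by
    rw [← Subgroup.commutator_inf_eq_focalSubgroup, hcomm, top_inf_eq]
  have hPcommN : P ≤ ⁅N, N⁆ := by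
    rw [← hPgeq, ← hfocal, Subgroup.focalSubgroup_def, Subgroup.closure_le, hPgeq]
    rintro g ⟨hgP, x, hx, u, rfl⟩
    have hx' : x⁻¹ ∈ P := P.inv_mem hx
    have hconj : u * x⁻¹ * u⁻¹ ∈ P := by
      have h1 := P.mul_mem hx' hgP
      rw [commutatorElement_def] at h1
      have e : x⁻¹ * (x * u * x⁻¹ * u⁻¹) = u * x⁻¹ * u⁻¹ := by group
      rwa [e] at h1
    obtain ⟨-, hc⟩ := hctrl {x⁻¹} (Set.singleton_subset_iff.mpr hx')
    obtain ⟨n, hn, hneq⟩ := hc u (by rintro _ ⟨a, rfl, rfl⟩; exact hconj)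
    have h1 := hneq x⁻¹ rfl
    have h2 : ⁅x, u⁆ = ⁅x, n⁆ := by
      rw [commutatorElement_def, commutatorElement_def]
      calc x * u * x⁻¹ * u⁻¹ = x * (u * x⁻¹ * u⁻¹) := by group
        _ = x * (n * x⁻¹ * n⁻¹) := by rw [h1]
        _ = x * n * x⁻¹ * n⁻¹ := by group
    show ⁅x, u⁆ ∈ ⁅N, N⁆
    rw [h2]
    exact Subgroup.commutator_mem_commutator (hPN hx) hn
  haveI : Group.IsSolvable ↥N := hsolv N hNtop
  have hCNN : Cfsg.IsCNGroup ↥N := Cfsg.Agent.Helper25.isCNGroup_subgroup hCN N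
  obtain ⟨-, A, -, -, -, -, hKAn, hKAtop, ⟨n, hn⟩, -, -⟩ :=
    cnodd_three_step_of_bad hCNN r hcoreN (Sylow.ofCard (P.subgroupOf N) hPNcard)
      (hbadN _)
  haveI := hKAn
  have hQcard : Nat.card (↥N ⧸ (Cfsg.pCore r ↥N ⊔ A)) = r ^ n := by
    rw [← Subgroup.index_eq_card]; exact hn
  have hn0 : n ≠ 0 := by
    rintro rfl
    rw [pow_zero] at hn
    exact hKAtop (Subgroup.index_eq_one.mp hn)
  haveI : Nontrivial (↥N ⧸ (Cfsg.pCore r ↥N ⊔ A)) := by
    rw [← Finite.one_lt_card_iff_nontrivial, hQcard]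
    exact Nat.one_lt_pow hn0 hr.one_lt
  have hlt := Group.IsSolvable.commutator_lt_top_of_nontrivial (↥N ⧸ (Cfsg.pCore r ↥N ⊔ A))
  have hmaptop : (P.subgroupOf N).map (QuotientGroup.mk' (Cfsg.pCore r ↥N ⊔ A)) = ⊤ := by
    have h1 : ((P.subgroupOf N).map (QuotientGroup.mk' (Cfsg.pCore r ↥N ⊔ A))).index ∣
        (P.subgroupOf N).index := Subgroup.index_map_dvd _ (QuotientGroup.mk'_surjective _)
    have h2 : ((P.subgroupOf N).map (QuotientGroup.mk' (Cfsg.pCore r ↥N ⊔ A))).index ∣ r ^ n :=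
      hQcard ▸ Subgroup.index_dvd_card _
    have h3 : ¬ r ∣ (P.subgroupOf N).index := by
      have := (Sylow.ofCard (P.subgroupOf N) hPNcard : Sylow r ↥N).not_dvd_index
      rwa [Sylow.coe_ofCard] at this
    obtain ⟨j, -, hj⟩ := (Nat.dvd_prime_pow hr).mp h2
    cases j with
    | zero => rw [pow_zero] at hj; exact Subgroup.index_eq_one.mp hj
    | succ j => exact absurd ((hj ▸ dvd_pow_self r (Nat.succ_ne_zero j)).trans h1) h3
  have hle : (P.subgroupOf N).map (QuotientGroup.mk' (Cfsg.pCore r ↥N ⊔ A)) ≤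
      commutator (↥N ⧸ (Cfsg.pCore r ↥N ⊔ A)) := by
    rintro _ ⟨y, hy, rfl⟩
    have hyP : (y : G) ∈ P := Subgroup.mem_subgroupOf.mp hy
    have hyc : (y : G) ∈ ⁅N, N⁆ := hPcommN hyP
    have hmapc : (commutator ↥N).map N.subtype = ⁅N, N⁆ := by
      rw [commutator_def, Subgroup.map_commutator, ← MonoidHom.range_eq_map, Subgroup.range_subtype]
    rw [← hmapc] at hyc
    obtain ⟨y', hy', hy'eq⟩ := hyc
    have hyy : y' = y := Subtype.ext hy'eq
    subst hyy
    have h1 := Subgroup.mem_map_of_mem (QuotientGroup.mk' (Cfsg.pCore r ↥N ⊔ A)) hy'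
    rw [commutator_def, Subgroup.map_commutator] at h1
    rw [commutator_def]
    exact (Subgroup.commutator_mono le_top le_top) h1
  exact hlt.ne (top_le_iff.mp (hmaptop ▸ hle))

/-- In a minimal simple CN-group of odd order no subgroup is a three-step group. -/
theorem cnodd_not_three_step {G : Type u} [Group G] [Finite G]
    (hG : Cfsg.IsMinSimpleOddOrder G) (hCN : Cfsg.IsCNGroup G) (H : Subgroup G) (p : ℕ) :
    ¬ Cfsg.IsThreeStepGroup p ↥H := by
  intro h3
  by_cases hH : H = ⊤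
  · subst hH
    obtain ⟨hK1, A, -, -, -, -, -, hKAtop, -, -, -⟩ := h3
    haveI : IsSimpleGroup G := hG.2.1
    haveI : IsSimpleGroup ↥(⊤ : Subgroup G) := Subgroup.topEquiv.isSimpleGroup
    rcases Subgroup.Normal.eq_bot_or_eq_top (pCore_normal' p ↥(⊤ : Subgroup G)) with h | h
    · exact hK1 h
    · exact hKAtop (by rw [h, top_sup_eq])
  · haveI : Group.IsSolvable ↥H := hG.2.2.2 H hH
    obtain ⟨r, hr, hcore, hbad⟩ := cnodd_bad_of_three_step p h3
    haveI : Fact r.Prime := ⟨hr⟩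
    exact hbad default (cnodd_no_bad_subgroup hG hCN r H hH hcore default)

end Cfsg.Agent.Helper1
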