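import Cfsg.Agent.Helper1.SZGen
import Cfsg.Agent.Helper1.PPrimeCore
import Cfsg.Agent.Helper1.MinNormal
import Cfsg.Prelude.Def_SolvableStructure

/-!
# Carter subgroups of finite solvable groups

Existence and conjugacy of nilpotent self-normalising subgroups (`Cfsg.IsCarterSubgroup`) in a
finite solvable group, by induction on the order.
-/

set_option autoImplicit false
open Pointwise

namespace Cfsg.Agent.Helper1

universe u

section carter

variable {G : Type*} [Group G]

theorem mem_conj_smul_iff (H : Subgroup G) (g x : G) :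
    x ∈ MulAut.conj g • H ↔ g⁻¹ * x * g ∈ H := by
  rw [Subgroup.mem_pointwise_smul_iff_inv_smul_mem]
  simp [MulAut.smul_def, MulAut.conj_inv_apply]

/-- `C` is a Carter subgroup of the subgroup `K`. -/
def CarterIn (K C : Subgroup G) : Prop :=
  C ≤ K ∧ Group.IsNilpotent C ∧ K ⊓ Subgroup.normalizer (C : Set G) ≤ C

/-- Existence and conjugacy of Carter subgroups of the subgroup `K`. -/
def CarterRel (K : Subgroup G) : Prop :=
  (∃ C : Subgroup G, CarterIn K C) ∧
  ∀ C D : Subgroup G, CarterIn K C → CarterIn K D → ∃ g ∈ K, MulAut.conj g • C = D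

/-- Existence and conjugacy of Carter subgroups of a group. -/
def CarterP (G : Type*) [Group G] : Prop :=
  (∃ C : Subgroup G, Cfsg.IsCarterSubgroup C) ∧
  ∀ C D : Subgroup G, Cfsg.IsCarterSubgroup C → Cfsg.IsCarterSubgroup D →
    ∃ g : G, MulAut.conj g • C = D

theorem carterIn_of_isCarter {C : Subgroup G} (h : Cfsg.IsCarterSubgroup C) {K : Subgroup G}
    (hCK : C ≤ K) : CarterIn K C :=
  ⟨hCK, h.1, by rw [h.2]; exact inf_le_right⟩

theorem isCarter_of_carterIn_top {C : Subgroup G} (h : CarterIn ⊤ C) : Cfsg.IsCarterSubgroup C :=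
  ⟨h.2.1, le_antisymm (by simpa using h.2.2) Subgroup.le_normalizer⟩

theorem CarterIn.mono {K L C : Subgroup G} (h : CarterIn K C) (hCL : C ≤ L) (hLK : L ≤ K) :
    CarterIn L C :=
  ⟨hCL, h.2.1, (inf_le_inf_right _ hLK).trans h.2.2⟩

theorem CarterIn.conj {K C : Subgroup G} (h : CarterIn K C) {g : G} (hg : g ∈ K) :
    CarterIn K (MulAut.conj g • C) := by
  refine ⟨Subgroup.conj_smul_le_of_le h.1 ⟨g, hg⟩, ?_, ?_⟩
  · haveI := h.2.1
    exact Group.nilpotent_of_mulEquiv (Subgroup.equivSMul (MulAut.conj g) C)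
  · rintro x ⟨hxK', hxN'⟩
    have hxK : x ∈ K := hxK'
    have hxN : x ∈ Subgroup.normalizer ((MulAut.conj g • C : Subgroup G) : Set G) := hxN'
    rw [mem_conj_smul_iff]
    apply h.2.2
    refine ⟨K.mul_mem (K.mul_mem (K.inv_mem hg) hxK) hg, ?_⟩
    show g⁻¹ * x * g ∈ Subgroup.normalizer (C : Set G)
    rw [mem_normalizer_iff_conj_smul_eq] at hxN ⊢
    rw [map_mul, map_mul, mul_smul, mul_smul, hxN, ← mul_smul, ← map_mul, inv_mul_cancel, map_one,
      one_smul]

theorem isCarter_conj {C : Subgroup G} (h : Cfsg.IsCarterSubgroup C) (g : G) :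
    Cfsg.IsCarterSubgroup (MulAut.conj g • C) :=
  isCarter_of_carterIn_top ((carterIn_of_isCarter h le_top).conj (Subgroup.mem_top g))

theorem mem_map_subtype_iff (K : Subgroup G) (C₀ : Subgroup K) (h : K) :
    (h : G) ∈ C₀.map K.subtype ↔ h ∈ C₀ := by
  constructor
  · rintro ⟨a, ha, hah⟩
    have : a = h := Subtype.ext hah
    rwa [← this]
  · intro hh; exact ⟨h, hh, rfl⟩

theorem carterRel_of_carterP (K : Subgroup G) (h : CarterP K) : CarterRel K := by
  obtain ⟨⟨C₀, hC₀n, hC₀N⟩, hconj⟩ := h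
  constructor
  · refine ⟨C₀.map K.subtype, Subgroup.map_subtype_le _, ?_, ?_⟩
    · haveI := hC₀n
      exact Group.nilpotent_of_mulEquiv (C₀.equivMapOfInjective K.subtype K.subtype_injective)
    · rintro x ⟨hxK', hxN'⟩
      have hxK : x ∈ K := hxK'
      have hxN : x ∈ Subgroup.normalizer ((C₀.map K.subtype : Subgroup G) : Set G) := hxN'
      have hx' : (⟨x, hxK⟩ : K) ∈ Subgroup.normalizer (C₀ : Set K) := by
        rw [Subgroup.mem_set_normalizer_iff] at hxN ⊢
        intro h
        have h0 : (h : G) ∈ C₀.map K.subtype ↔ x * (h : G) * x⁻¹ ∈ C₀.map K.subtype := hxN (h : G)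
        have e1 := mem_map_subtype_iff K C₀ h
        have e2 := mem_map_subtype_iff K C₀ (⟨x, hxK⟩ * h * ⟨x, hxK⟩⁻¹)
        exact e1.symm.trans (h0.trans e2)
      rw [hC₀N] at hx'
      exact (mem_map_subtype_iff K C₀ ⟨x, hxK⟩).mpr hx'
  · intro C D hC hD
    have key : ∀ C : Subgroup G, CarterIn K C → Cfsg.IsCarterSubgroup (C.subgroupOf K) := by
      intro C hC
      refine ⟨?_, ?_⟩
      · haveI := hC.2.1
        exact Group.nilpotent_of_mulEquiv (Subgroup.subgroupOfEquivOfLe hC.1).symm
      · rw [← Subgroup.subgroupOf_normalizer_eq hC.1]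
        apply le_antisymm
        · intro y hy
          exact hC.2.2 ⟨y.2, hy⟩
        · intro y hy
          exact Subgroup.le_normalizer hy
    obtain ⟨k, hk⟩ := hconj _ _ (key C hC) (key D hD)
    exact ⟨k, k.2, conj_of_subgroupOf_conj hC.1 hD.1 k hk⟩

theorem isCarter_top [Group.IsNilpotent G] : Cfsg.IsCarterSubgroup (⊤ : Subgroup G) :=
  ⟨Group.nilpotent_of_mulEquiv Subgroup.topEquiv.symm, Subgroup.normalizer_eq_top _⟩

theorem eq_top_of_isCarter_of_nilpotent [Group.IsNilpotent G] {C : Subgroup G}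
    (h : Cfsg.IsCarterSubgroup C) : C = ⊤ :=
  normalizerCondition_iff_only_full_group_self_normalizing.mp
    Group.normalizerCondition_of_isNilpotent C h.2

/-- The image of a Carter subgroup in a quotient is a Carter subgroup, provided Carter subgroups
of the proper subgroup `C ⊔ N` are conjugate. -/
theorem isCarter_map_mk (N : Subgroup G) [N.Normal] {C : Subgroup G}
    (hC : Cfsg.IsCarterSubgroup C)
    (hconj : C ⊔ N ≠ ⊤ → ∀ D : Subgroup G, D ≤ C ⊔ N → Cfsg.IsCarterSubgroup D →
      ∃ g ∈ C ⊔ N, MulAut.conj g • C = D) :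
    Cfsg.IsCarterSubgroup (C.map (QuotientGroup.mk' N)) := by
  refine ⟨?_, le_antisymm ?_ Subgroup.le_normalizer⟩
  · haveI := hC.1
    exact Group.nilpotent_of_surjective _ ((QuotientGroup.mk' N).subgroupMap_surjective C)
  · intro xb hxb
    obtain ⟨x, rfl⟩ := QuotientGroup.mk'_surjective N xb
    have hx : x ∈ Subgroup.normalizer ((C ⊔ N : Subgroup G) : Set G) := by
      have h1 : x ∈ (Subgroup.normalizer
          ((C.map (QuotientGroup.mk' N) : Subgroup (G ⧸ N)) : Set (G ⧸ N))).comap
          (QuotientGroup.mk' N) := hxb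
      have h2 := Subgroup.le_normalizer_comap (QuotientGroup.mk' N) h1
      rwa [comap_map_mk'] at h2
    have hxCN : x ∈ C ⊔ N := by
      by_cases htop : C ⊔ N = ⊤
      · rw [htop]; trivial
      · have hle : MulAut.conj x • C ≤ C ⊔ N := by
          have h1 : MulAut.conj x • C ≤ MulAut.conj x • (C ⊔ N) :=
            Subgroup.pointwise_smul_le_pointwise_smul_iff.mpr le_sup_left
          rwa [mem_normalizer_iff_conj_smul_eq.mp hx] at h1
        obtain ⟨g, hg, hgC⟩ := hconj htop _ hle (isCarter_conj hC x)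
        have h3 : g⁻¹ * x ∈ Subgroup.normalizer (C : Set G) := by
          rw [mem_normalizer_iff_conj_smul_eq, map_mul, mul_smul, ← hgC, ← mul_smul, ← map_mul,
            inv_mul_cancel, map_one, one_smul]
        rw [hC.2] at h3
        have : x = g * (g⁻¹ * x) := by group
        rw [this]
        exact Subgroup.mul_mem _ hg (Subgroup.mem_sup_left h3)
    have : x ∈ (C.map (QuotientGroup.mk' N)).comap (QuotientGroup.mk' N) := by
      rw [comap_map_mk']; exact hxCN
    exact this

/-- Existence step: a Carter subgroup of `G` from one of `G ⧸ N`, `N` an abelian minimal normal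
subgroup. -/
theorem carter_exists_step [Finite G] (hnil : ¬ Group.IsNilpotent G)
    (hrel : ∀ K : Subgroup G, K ≠ ⊤ → CarterRel K)
    (N : Subgroup G) [N.Normal]
    (hNmin : ∀ M : Subgroup G, M.Normal → M ≤ N → M = ⊥ ∨ M = N)
    (hNc : ∀ a ∈ N, ∀ b ∈ N, a * b = b * a)
    (hq : ∃ Kb : Subgroup (G ⧸ N), Cfsg.IsCarterSubgroup Kb) :
    ∃ C : Subgroup G, Cfsg.IsCarterSubgroup C := by
  obtain ⟨Kb, hKb⟩ := hq
  set K := Kb.comap (QuotientGroup.mk' N) with hKdef
  have hmapK : K.map (QuotientGroup.mk' N) = Kb :=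
    Subgroup.map_comap_eq_self_of_surjective (QuotientGroup.mk'_surjective N) Kb
  have hNK : N ≤ K := by
    intro x hx
    show (QuotientGroup.mk' N) x ∈ Kb
    have h1 : (QuotientGroup.mk' N) x = 1 := (QuotientGroup.eq_one_iff x).mpr hx
    rw [h1]
    exact Kb.one_mem
  by_cases hKtop : K = ⊤
  · -- `G ⧸ N` is nilpotent: a non-normal maximal subgroup is a Carter subgroup
    have hKbtop : Kb = ⊤ := by
      rw [← hmapK, hKtop]
      exact Subgroup.map_top_of_surjective _ (QuotientGroup.mk'_surjective N)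
    have hQnil : Group.IsNilpotent (G ⧸ N) := by
      have h1 : Group.IsNilpotent (⊤ : Subgroup (G ⧸ N)) := hKbtop ▸ hKb.1
      exact Group.nilpotent_of_mulEquiv Subgroup.topEquiv
    have h3 : ¬ ∀ H : Subgroup G, IsCoatom H → H.Normal := fun h =>
      hnil ((Group.isNilpotent_of_finite_tfae.out 0 2).mpr h)
    push Not at h3
    obtain ⟨M, hMco, hMn⟩ := h3
    have hnormM : Subgroup.normalizer (M : Set G) = M := by
      by_contra hne
      have hlt : M < Subgroup.normalizer (M : Set G) :=
        lt_of_le_of_ne Subgroup.le_normalizer (Ne.symm hne)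
      exact hMn (Subgroup.normalizer_eq_top_iff.mp (hMco.2 _ hlt))
    have hNM : ¬ N ≤ M := by
      intro hNM
      set Mb := M.map (QuotientGroup.mk' N) with hMb
      have hcomap : Mb.comap (QuotientGroup.mk' N) = M := by
        rw [hMb, comap_map_mk', sup_eq_left.mpr hNM]
      have hMbtop : Mb ≠ ⊤ := by
        intro h
        apply hMco.1
        rw [← hcomap, h, Subgroup.comap_top]
      have hMbN : Subgroup.normalizer (Mb : Set (G ⧸ N)) = Mb := by
        apply le_antisymm _ Subgroup.le_normalizer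
        intro yb hyb
        obtain ⟨y, rfl⟩ := QuotientGroup.mk'_surjective N yb
        have h1 : y ∈ (Subgroup.normalizer (Mb : Set (G ⧸ N))).comap (QuotientGroup.mk' N) := hyb
        have h2 := Subgroup.le_normalizer_comap (QuotientGroup.mk' N) h1
        rw [hcomap, hnormM] at h2
        exact Subgroup.mem_map_of_mem _ h2
      exact hMbtop (normalizerCondition_iff_only_full_group_self_normalizing.mp
        Group.normalizerCondition_of_isNilpotent Mb hMbN)
    have hsup : M ⊔ N = ⊤ := by
      apply hMco.2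
      refine lt_of_le_of_ne le_sup_left ?_
      intro h
      apply hNM
      rw [h]; exact le_sup_right
    have hinfN : (M ⊓ N).Normal := by
      rw [← Subgroup.normalizer_eq_top_iff, eq_top_iff, ← hsup]
      apply sup_le
      · exact (le_inf Subgroup.le_normalizer
          (by rw [Subgroup.normalizer_eq_top N]; exact le_top)).trans
          Subgroup.inf_normalizer_le_normalizer_inf
      · intro n hn
        rw [Subgroup.mem_set_normalizer_iff]
        intro h
        have key : h ∈ N → n * h * n⁻¹ = h := by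
          intro hhN
          rw [hNc n hn h hhN]; group
        constructor
        · intro hh
          have hh' : h ∈ M ⊓ N := hh
          show n * h * n⁻¹ ∈ M ⊓ N
          rw [key hh'.2]; exact hh'
        · intro hh
          have hh' : n * h * n⁻¹ ∈ M ⊓ N := hh
          have hhN : h ∈ N := by
            have := N.mul_mem (N.mul_mem (N.inv_mem hn) hh'.2) hn
            simpa [mul_assoc] using this
          show h ∈ M ⊓ N
          rw [key hhN] at hh'; exact hh'
    have hinf : M ⊓ N = ⊥ := by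
      rcases hNmin (M ⊓ N) hinfN inf_le_right with h | h
      · exact h
      · exfalso; apply hNM; rw [← h]; exact inf_le_left
    refine ⟨M, ?_, hnormM⟩
    have hinj : Function.Injective ((QuotientGroup.mk' N).comp M.subtype) := by
      rw [injective_iff_map_eq_one]
      intro m hm
      have h1 : (m : G) ∈ N := (QuotientGroup.eq_one_iff (m : G)).mp hm
      have h2 : (m : G) ∈ M ⊓ N := ⟨m.2, h1⟩
      rw [hinf, Subgroup.mem_bot] at h2
      exact Subtype.ext h2
    exact Group.nilpotent_of_mulEquiv (MonoidHom.ofInjective hinj).symm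
  · -- `K` is proper: a Carter subgroup of `K` is one of `G`
    obtain ⟨C, hC⟩ := (hrel K hKtop).1
    refine ⟨C, hC.2.1, le_antisymm ?_ Subgroup.le_normalizer⟩
    have hCN : C ⊔ N = K := by
      by_contra hne
      have hLK : C ⊔ N ≤ K := sup_le hC.1 hNK
      have hLtop : C ⊔ N ≠ ⊤ := fun h => hKtop (top_le_iff.mp (h ▸ hLK))
      set Lb := (C ⊔ N).map (QuotientGroup.mk' N) with hLb
      have hcomapL : Lb.comap (QuotientGroup.mk' N) = C ⊔ N := by
        rw [hLb, comap_map_mk', sup_assoc, sup_idem]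
      have hLbKb : Lb ≤ Kb := by rw [← hmapK]; exact Subgroup.map_mono hLK
      have hKbnil : Group.IsNilpotent Kb := hKb.1
      have hnc : NormalizerCondition Kb := Group.normalizerCondition_of_isNilpotent
      have hlt : Lb.subgroupOf Kb < ⊤ := by
        rw [lt_top_iff_ne_top]
        intro h
        rw [Subgroup.subgroupOf_eq_top] at h
        apply hne
        apply le_antisymm hLK
        rw [← hcomapL, hKdef]
        exact Subgroup.comap_mono h
      have h2 := hnc _ hlt
      obtain ⟨yb, hybN, hybL⟩ := SetLike.exists_of_lt h2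
      rw [← Subgroup.subgroupOf_normalizer_eq hLbKb] at hybN
      have hybN' : (yb : G ⧸ N) ∈ Subgroup.normalizer (Lb : Set (G ⧸ N)) := hybN
      obtain ⟨y, hy⟩ := QuotientGroup.mk'_surjective N (yb : G ⧸ N)
      have hyK : y ∈ K := by
        show (QuotientGroup.mk' N) y ∈ Kb
        rw [hy]; exact yb.2
      have hyNL : y ∈ Subgroup.normalizer ((C ⊔ N : Subgroup G) : Set G) := by
        have h1 : y ∈ (Subgroup.normalizer (Lb : Set (G ⧸ N))).comap (QuotientGroup.mk' N) := by
          show (QuotientGroup.mk' N) y ∈ Subgroup.normalizer (Lb : Set (G ⧸ N))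
          rw [hy]; exact hybN'
        have h3 := Subgroup.le_normalizer_comap (QuotientGroup.mk' N) h1
        rwa [hcomapL] at h3
      have hyL : y ∉ C ⊔ N := by
        intro hyL
        apply hybL
        show (yb : G ⧸ N) ∈ Lb
        rw [← hy]; exact Subgroup.mem_map_of_mem _ hyL
      have hCy : CarterIn (C ⊔ N) (MulAut.conj y • C) := by
        refine (hC.conj hyK).mono ?_ hLK
        have h1 : MulAut.conj y • C ≤ MulAut.conj y • (C ⊔ N) :=
          Subgroup.pointwise_smul_le_pointwise_smul_iff.mpr le_sup_left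
        rwa [mem_normalizer_iff_conj_smul_eq.mp hyNL] at h1
      obtain ⟨g, hgL, hg⟩ := (hrel (C ⊔ N) hLtop).2 C _ (hC.mono le_sup_left hLK) hCy
      have h3 : g⁻¹ * y ∈ K ⊓ Subgroup.normalizer (C : Set G) := by
        refine ⟨K.mul_mem (K.inv_mem (hLK hgL)) hyK, ?_⟩
        show g⁻¹ * y ∈ Subgroup.normalizer (C : Set G)
        rw [mem_normalizer_iff_conj_smul_eq, map_mul, mul_smul, ← hg, ← mul_smul, ← map_mul,
          inv_mul_cancel, map_one, one_smul]
      apply hyL
      have : y = g * (g⁻¹ * y) := by group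
      rw [this]
      exact Subgroup.mul_mem _ hgL (Subgroup.mem_sup_left (hC.2.2 h3))
    intro x hx
    have hxK : x ∈ Subgroup.normalizer (K : Set G) := by
      rw [← hCN, mem_normalizer_iff_conj_smul_eq, Subgroup.smul_sup,
        mem_normalizer_iff_conj_smul_eq.mp hx, Subgroup.Normal.conj_smul_eq_self x N]
    have hxb : (QuotientGroup.mk' N) x ∈ Subgroup.normalizer (Kb : Set (G ⧸ N)) := by
      have := Subgroup.le_normalizer_map (QuotientGroup.mk' N) (Subgroup.mem_map_of_mem _ hxK)
      rwa [hmapK] at this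
    rw [hKb.2] at hxb
    exact hC.2.2 ⟨hxb, hx⟩

/-- Conjugacy step. -/
theorem carter_conj_step [Finite G] (hnil : ¬ Group.IsNilpotent G)
    (hrel : ∀ K : Subgroup G, K ≠ ⊤ → CarterRel K)
    (hquotC : ∀ (M : Subgroup G) [M.Normal], M ≠ ⊥ → ∀ C D : Subgroup G,
      Cfsg.IsCarterSubgroup C → Cfsg.IsCarterSubgroup D →
      ∃ g : G, (MulAut.conj g • C) ⊔ M = D ⊔ M)
    (N : Subgroup G) [N.Normal] (hN1 : N ≠ ⊥) (p : ℕ) [Fact p.Prime] (hNp : IsPGroup p N)
    (C D : Subgroup G) (hC : Cfsg.IsCarterSubgroup C) (hD : Cfsg.IsCarterSubgroup D) :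
    ∃ g : G, MulAut.conj g • C = D := by
  have hp : p.Prime := Fact.out
  obtain ⟨g, hg⟩ := hquotC N hN1 C D hC hD
  have hC'c : Cfsg.IsCarterSubgroup (MulAut.conj g • C) := isCarter_conj hC g
  suffices h : ∃ k : G, MulAut.conj k • (MulAut.conj g • C) = D by
    obtain ⟨k, hk⟩ := h
    exact ⟨k * g, by rw [map_mul, mul_smul]; exact hk⟩
  generalize MulAut.conj g • C = C' at hg hC'c
  by_cases hKtop : D ⊔ N = ⊤
  swap
  · obtain ⟨k, -, hk⟩ := (hrel _ hKtop).2 C' D
      (carterIn_of_isCarter hC'c (hg ▸ le_sup_left)) (carterIn_of_isCarter hD le_sup_left)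
    exact ⟨k, hk⟩
  have hC'top : C' ⊔ N = ⊤ := hg.trans hKtop
  -- a prime `q ≠ p` dividing `|G|`
  have hq : ∃ q : ℕ, q.Prime ∧ q ≠ p ∧ q ∣ Nat.card G := by
    by_contra hcon
    push Not at hcon
    apply hnil
    have hGp : IsPGroup p G := by
      apply IsPGroup.of_card (n := (Nat.card G).primeFactorsList.length)
      apply Nat.eq_prime_pow_of_unique_prime_dvd Nat.card_pos.ne'
      intro d hd hdG
      by_contra hdp
      exact hcon d hd hdp hdG
    exact hGp.isNilpotent
  obtain ⟨q, hq, hqp, hqG⟩ := hq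
  haveI : Fact q.Prime := ⟨hq⟩
  -- Sylow `q`-subgroups of Carter subgroups supplementing `N`
  have key : ∀ E : Subgroup G, Cfsg.IsCarterSubgroup E → E ⊔ N = ⊤ →
      ∃ R : Sylow q G, (R : Subgroup G) ≤ E ∧
        E ≤ Subgroup.normalizer ((R : Subgroup G) : Set G) := by
    intro E hE hEN
    have hEnil : Group.IsNilpotent E := hE.1
    obtain ⟨S⟩ : Nonempty (Sylow q E) := inferInstance
    have hSn : (S : Subgroup E).Normal := inferInstance
    have hcard : Nat.card ((S : Subgroup E).map E.subtype) = q ^ (Nat.card G).factorization q := by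
      rw [Subgroup.card_map_of_injective E.subtype_injective, Sylow.card_eq_multiplicity]
      congr 1
      have h1 : Nat.card G ∣ Nat.card N * Nat.card E := by
        have := card_sup_dvd N E
        rwa [sup_comm, hEN, Subgroup.card_top] at this
      have h2 : Nat.card E ∣ Nat.card G := Subgroup.card_subgroup_dvd_card E
      obtain ⟨a, ha⟩ := IsPGroup.iff_card.mp hNp
      rw [ha] at h1
      apply le_antisymm
      · exact (Nat.factorization_le_iff_dvd Nat.card_pos.ne' Nat.card_pos.ne').mpr h2 q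
      · have h3 := (Nat.factorization_le_iff_dvd Nat.card_pos.ne'
          (mul_ne_zero (pow_ne_zero _ hp.ne_zero) Nat.card_pos.ne')).mpr h1 q
        rw [Nat.factorization_mul (pow_ne_zero _ hp.ne_zero) Nat.card_pos.ne',
          Nat.Prime.factorization_pow hp] at h3
        simpa [Finsupp.single_apply, hqp.symm] using h3
    refine ⟨Sylow.ofCard _ hcard, ?_, ?_⟩
    · rw [Sylow.coe_ofCard]; exact Subgroup.map_subtype_le _
    · rw [Sylow.coe_ofCard]
      have h1 := Subgroup.le_normalizer_map (H := (S : Subgroup E)) E.subtype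
      rw [Subgroup.normalizer_eq_top, ← MonoidHom.range_eq_map, Subgroup.range_subtype] at h1
      exact h1
  obtain ⟨R₁, hR₁C, hCR₁⟩ := key C' hC'c hC'top
  obtain ⟨R₂, hR₂D, hDR₂⟩ := key D hD hKtop
  obtain ⟨x, hx⟩ := MulAction.exists_smul_eq G R₁ R₂
  have hx' : MulAut.conj x • (R₁ : Subgroup G) = (R₂ : Subgroup G) := by
    have h0 := Sylow.coe_subgroup_smul (g := x) (P := R₁)
    rw [hx] at h0
    exact h0.symm
  have hC''c : Cfsg.IsCarterSubgroup (MulAut.conj x • C') := isCarter_conj hC'c x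
  suffices h : ∃ k : G, MulAut.conj k • (MulAut.conj x • C') = D by
    obtain ⟨k, hk⟩ := h
    exact ⟨k * x, by rw [map_mul, mul_smul]; exact hk⟩
  have hR₂C'' : (R₂ : Subgroup G) ≤ MulAut.conj x • C' := by
    rw [← hx']; exact Subgroup.pointwise_smul_le_pointwise_smul_iff.mpr hR₁C
  have hC''R₂ : MulAut.conj x • C' ≤ Subgroup.normalizer ((R₂ : Subgroup G) : Set G) := by
    intro y hy
    rw [mem_conj_smul_iff] at hy
    have h1 := hCR₁ hy
    rw [mem_normalizer_iff_conj_smul_eq] at h1 ⊢
    have h2 : y * x = x * (x⁻¹ * y * x) := by group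
    rw [← hx', ← mul_smul, ← map_mul, h2, map_mul, mul_smul, h1]
  generalize MulAut.conj x • C' = C'' at hC''c hR₂C'' hC''R₂
  by_cases hHtop : Subgroup.normalizer ((R₂ : Subgroup G) : Set G) = ⊤
  swap
  · obtain ⟨k, -, hk⟩ := (hrel _ hHtop).2 C'' D
      (carterIn_of_isCarter hC''c hC''R₂) (carterIn_of_isCarter hD hDR₂)
    exact ⟨k, hk⟩
  haveI hR₂n : (R₂ : Subgroup G).Normal := Subgroup.normalizer_eq_top_iff.mp hHtop
  have hR₂1 : (R₂ : Subgroup G) ≠ ⊥ := by
    intro h
    have h1 := Sylow.card_eq_multiplicity R₂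
    rw [h, Subgroup.card_bot] at h1
    have h2 : 1 ≤ (Nat.card G).factorization q :=
      (Nat.Prime.dvd_iff_one_le_factorization hq Nat.card_pos.ne').mp hqG
    have h3 : 1 < q ^ (Nat.card G).factorization q := Nat.one_lt_pow (by omega) hq.one_lt
    omega
  obtain ⟨k, hk⟩ := hquotC (R₂ : Subgroup G) hR₂1 C'' D hC''c hD
  refine ⟨k, ?_⟩
  have h1 : (R₂ : Subgroup G) ≤ MulAut.conj k • C'' := by
    have h2 : MulAut.conj k • (R₂ : Subgroup G) ≤ MulAut.conj k • C'' :=
      Subgroup.pointwise_smul_le_pointwise_smul_iff.mpr hR₂C''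
    rwa [Subgroup.Normal.conj_smul_eq_self k (R₂ : Subgroup G)] at h2
  rw [sup_eq_left.mpr h1, sup_eq_left.mpr hR₂D] at hk
  exact hk

end carter

/-- Carter subgroups of finite solvable groups: existence and conjugacy. -/
theorem carter_aux (n : ℕ) : ∀ (G : Type u) [Group G] [Finite G] [Group.IsSolvable G],
    Nat.card G = n → CarterP G := by
  induction n using Nat.strong_induction_on with
  | _ n ih =>
  intro G _ _ _ hn
  have hrel : ∀ K : Subgroup G, K ≠ ⊤ → CarterRel K := by
    intro K hK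
    exact carterRel_of_carterP K (ih _ (by rw [← hn]; exact card_lt_of_ne_top K hK) K rfl)
  by_cases hnil : Group.IsNilpotent G
  · exact ⟨⟨⊤, isCarter_top⟩, fun C D hC hD => ⟨1, by
      rw [eq_top_of_isCarter_of_nilpotent hC, eq_top_of_isCarter_of_nilpotent hD, map_one,
        one_smul]⟩⟩
  have hquot : ∀ (M : Subgroup G) [M.Normal] (C : Subgroup G), Cfsg.IsCarterSubgroup C →
      Cfsg.IsCarterSubgroup (C.map (QuotientGroup.mk' M)) := by
    intro M _ C hC
    apply isCarter_map_mk M hC
    intro htop D hD hDc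
    exact (hrel _ htop).2 C D (carterIn_of_isCarter hC le_sup_left) (carterIn_of_isCarter hDc hD)
  have ihq : ∀ (M : Subgroup G) [M.Normal], M ≠ ⊥ → CarterP (G ⧸ M) := by
    intro M _ hM
    exact ih _ (by rw [← hn]; exact card_quotient_lt M hM) (G ⧸ M) rfl
  have hquotC : ∀ (M : Subgroup G) [M.Normal], M ≠ ⊥ → ∀ C D : Subgroup G,
      Cfsg.IsCarterSubgroup C → Cfsg.IsCarterSubgroup D →
      ∃ g : G, (MulAut.conj g • C) ⊔ M = D ⊔ M := by
    intro M _ hM C D hC hD
    obtain ⟨gb, hgb⟩ := (ihq M hM).2 _ _ (hquot M C hC) (hquot M D hD)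
    obtain ⟨g, rfl⟩ := QuotientGroup.mk'_surjective M gb
    refine ⟨g, ?_⟩
    rw [← map_conj_smul] at hgb
    have := congrArg (Subgroup.comap (QuotientGroup.mk' M)) hgb
    rwa [comap_map_mk', comap_map_mk'] at this
  have hGnt : (⊤ : Subgroup G) ≠ ⊥ := by
    intro h
    apply hnil
    have : Subsingleton G := by
      refine ⟨fun a b => ?_⟩
      have ha : a ∈ (⊤ : Subgroup G) := Subgroup.mem_top a
      have hb : b ∈ (⊤ : Subgroup G) := Subgroup.mem_top b
      rw [h, Subgroup.mem_bot] at ha hb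
      rw [ha, hb]
    exact Group.isNilpotent_of_subsingleton
  obtain ⟨N, hNn, -, hN1, hNmin⟩ := exists_minNormal (⊤ : Subgroup G) hGnt
  haveI := hNn
  obtain ⟨hNc, p, hp, hNp⟩ := minNormal_elemAbelian N hN1 hNmin
  haveI : Fact p.Prime := ⟨hp⟩
  have hNc' : ∀ a ∈ N, ∀ b ∈ N, a * b = b * a := by
    intro a ha b hb
    have := hNc.is_comm.comm ⟨a, ha⟩ ⟨b, hb⟩
    exact congrArg Subtype.val this
  have hNpg : IsPGroup p N := by
    intro x
    exact ⟨1, by rw [pow_one]; exact Subtype.ext (hNp x x.2)⟩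
  constructor
  · exact carter_exists_step hnil hrel N hNmin hNc' (ihq N hN1).1
  · intro C D hC hD
    exact carter_conj_step hnil hrel hquotC N hN1 p hNpg C D hC hD

end Cfsg.Agent.Helper1
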