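import Cfsg.Agent.Helper1.Fpf
import Mathlib.GroupTheory.PGroup

set_option autoImplicit false
open scoped IsMulCommutative

namespace Cfsg.Agent.Helper1

/-- In a finite abelian group, if `a ^ r = 1` has at most `r` solutions for every prime `r`
then `a ^ n = 1` has at most `n` solutions for every `n > 0`. -/
theorem card_pow_eq_one_le_of_prime {A : Type*} [CommGroup A] [Fintype A] [DecidableEq A]
    (h : ∀ r : ℕ, r.Prime → (Finset.univ.filter (fun a : A => a ^ r = 1)).card ≤ r) :
    ∀ n : ℕ, 0 < n → (Finset.univ.filter (fun a : A => a ^ n = 1)).card ≤ n := by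
  intro n
  induction n using Nat.strong_induction_on with
  | _ n ih =>
    intro hn
    by_cases h1 : n = 1
    · subst h1
      have : (Finset.univ.filter (fun a : A => a ^ 1 = 1)) = {1} := by
        ext a; simp
      rw [this]; simp
    · set r := n.minFac with hr
      have hrp : r.Prime := Nat.minFac_prime h1
      obtain ⟨m, hm⟩ : r ∣ n := Nat.minFac_dvd n
      have hm0 : 0 < m := by
        rcases Nat.eq_zero_or_pos m with h0 | h0
        · rw [h0, mul_zero] at hm; omega
        · exact h0
      have hmn : m < n := by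
        rw [hm]; exact lt_mul_of_one_lt_left hm0 hrp.one_lt
      have hfib : ∀ b ∈ Finset.image (fun a : A => a ^ r) (Finset.univ.filter (fun a : A => a ^ n = 1)),
          ((Finset.univ.filter (fun a : A => a ^ n = 1)).filter (fun a => a ^ r = b)).card ≤ r := by
        intro b hb
        obtain ⟨a₀, -, ha₀⟩ := Finset.mem_image.mp hb
        refine le_trans ?_ (h r hrp)
        apply Finset.card_le_card_of_injOn (fun a => a₀⁻¹ * a)
        · intro a ha
          simp only [Finset.coe_filter, Finset.mem_univ, true_and, Set.mem_ofPred_eq] at ha ⊢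
          rw [mul_pow, inv_pow, ha.2, ha₀, inv_mul_cancel]
        · intro a _ a' _ haa
          exact mul_left_cancel haa
      have h2 := Finset.card_le_mul_card_image (f := fun a : A => a ^ r)
        (Finset.univ.filter (fun a : A => a ^ n = 1)) r hfib
      have h3 : Finset.image (fun a : A => a ^ r) (Finset.univ.filter (fun a : A => a ^ n = 1))
          ⊆ Finset.univ.filter (fun a : A => a ^ m = 1) := by
        intro b hb
        obtain ⟨a, ha, rfl⟩ := Finset.mem_image.mp hb
        simp only [Finset.mem_filter, Finset.mem_univ, true_and] at ha ⊢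
        rw [← pow_mul, ← hm, ha]
      have h4 := Finset.card_le_card h3
      have h5 := ih m hmn hm0
      calc (Finset.univ.filter (fun a : A => a ^ n = 1)).card
          ≤ r * (Finset.image (fun a : A => a ^ r)
              (Finset.univ.filter (fun a : A => a ^ n = 1))).card := h2
        _ ≤ r * m := Nat.mul_le_mul_left r (h4.trans h5)
        _ = n := hm.symm

/-- A finite noncyclic abelian group contains two elements `x ≠ 1`, `y` of order dividing a
prime `r` with `y` not a power of `x`. -/
theorem exists_elementary_pair {A : Type*} [Group A] [Finite A] [IsMulCommutative A]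
    (h : ¬ IsCyclic A) :
    ∃ r : ℕ, r.Prime ∧ ∃ x y : A, x ^ r = 1 ∧ y ^ r = 1 ∧ x ≠ 1 ∧ ∀ t : ℕ, x ^ t * y ≠ 1 := by
  classical
  by_contra hcon
  push Not at hcon
  have : Fintype A := Fintype.ofFinite A
  apply h
  apply isCyclic_of_card_pow_eq_one_le
  apply card_pow_eq_one_le_of_prime
  intro r hr
  by_cases hx : ∃ x : A, x ^ r = 1 ∧ x ≠ 1
  · obtain ⟨x, hxr, hx1⟩ := hx
    have hsub : Finset.univ.filter (fun a : A => a ^ r = 1)
        ⊆ Finset.image (fun t => x ^ t) (Finset.range r) := by
      intro y hy
      simp only [Finset.mem_filter, Finset.mem_univ, true_and] at hy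
      obtain ⟨t, ht⟩ := hcon r hr x y hxr hy hx1
      have h1 : y = x ^ (t * (r - 1)) := by
        have h2 : x ^ t * x ^ (t * (r - 1)) = 1 := by
          rw [← pow_add]
          have : t + t * (r - 1) = r * t := by
            have := hr.one_lt
            obtain ⟨k, rfl⟩ : ∃ k, r = k + 1 := ⟨r - 1, by omega⟩
            simp; ring
          rw [this, pow_mul, hxr, one_pow]
        exact (mul_left_cancel (ht.trans h2.symm))
      rw [h1, pow_eq_pow_mod _ hxr]
      exact Finset.mem_image.mpr ⟨_, Finset.mem_range.mpr (Nat.mod_lt _ hr.pos), rfl⟩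
    calc (Finset.univ.filter (fun a : A => a ^ r = 1)).card
        ≤ (Finset.image (fun t => x ^ t) (Finset.range r)).card := Finset.card_le_card hsub
      _ ≤ (Finset.range r).card := Finset.card_image_le
      _ = r := Finset.card_range r
  · push Not at hx
    have hsub : Finset.univ.filter (fun a : A => a ^ r = 1) ⊆ {1} := by
      intro y hy
      simp only [Finset.mem_filter, Finset.mem_univ, true_and] at hy
      simp [hx y hy]
    calc (Finset.univ.filter (fun a : A => a ^ r = 1)).card ≤ ({1} : Finset A).card :=
          Finset.card_le_card hsub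
      _ = 1 := Finset.card_singleton 1
      _ ≤ r := hr.pos

/-- An element `x` with `x ^ r = 1` normalising a nontrivial `r`-group `V` centralises a
nontrivial element of `V`. -/
theorem exists_fixed_of_pgroup {G : Type*} [Group G] [Finite G] (r : ℕ) [Fact r.Prime]
    (V : Subgroup G) (x : G) (hx : x ∈ Subgroup.normalizer (V : Set G)) (hV : IsPGroup r V)
    (hV1 : V ≠ ⊥) (hxr : x ^ r = 1) : V ⊓ Subgroup.centralizer {x} ≠ ⊥ := by
  let P : Subgroup (Subgroup.normalizer (V : Set G)) := Subgroup.zpowers ⟨x, hx⟩
  have hP : IsPGroup r P := by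
    intro g
    refine ⟨1, ?_⟩
    obtain ⟨k, hk⟩ := Subgroup.mem_zpowers_iff.mp g.2
    apply Subtype.ext
    apply Subtype.ext
    rw [pow_one]
    have h1 : ((g : Subgroup.normalizer (V : Set G)) : G) = x ^ k := by
      rw [← hk]; simp
    simp only [Subgroup.coe_pow, Subgroup.coe_one]
    rw [h1, ← zpow_natCast, ← zpow_mul, mul_comm, zpow_mul, zpow_natCast, hxr, one_zpow]
  have hdvd : r ∣ Nat.card V := by
    obtain ⟨n, hn⟩ := IsPGroup.iff_card.mp hV
    rw [hn]
    rcases Nat.eq_zero_or_pos n with h0 | h0
    · exfalso; apply hV1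
      rw [← Subgroup.card_eq_one, hn, h0, pow_zero]
    · exact dvd_pow_self r h0.ne'
  have h1 : (1 : V) ∈ MulAction.fixedPoints P V := by
    intro g
    apply Subtype.ext
    show ((g : Subgroup.normalizer (V : Set G)) : G) * ((1 : V) : G) * ((g : Subgroup.normalizer (V : Set G)) : G)⁻¹ = ((1 : V) : G)
    simp
  obtain ⟨b, hb, hb1⟩ := hP.exists_fixed_point_of_prime_dvd_card_of_fixed_point V hdvd h1
  intro hbot
  have h2 : (b : G) ∈ V ⊓ Subgroup.centralizer {x} := by
    refine ⟨b.2, ?_⟩
    show (b : G) ∈ Subgroup.centralizer {x}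
    rw [Subgroup.mem_centralizer_singleton_iff]
    have h3 := hb ⟨⟨x, hx⟩, Subgroup.mem_zpowers _⟩
    have h4 : x * (b : G) * x⁻¹ = (b : G) := congrArg Subtype.val h3
    calc (b : G) * x = x * (b : G) * x⁻¹ * x := by rw [h4]
      _ = x * (b : G) := by group
  rw [hbot, Subgroup.mem_bot] at h2
  exact hb1 (Subtype.ext h2.symm)

end Cfsg.Agent.Helper1
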