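import Cfsg.Agent.Helper1.FpfPQ

set_option autoImplicit false
open scoped IsMulCommutative

namespace Cfsg.Agent.Helper1

/-- A fixed-point-free abelian group of automorphisms (acting on an abelian group) is cyclic. -/
theorem fpf_abelian_isCyclic {G : Type*} [Group G] [Finite G] (A V : Subgroup G) [IsMulCommutative V]
    (hV : V ≠ ⊥) (hAV : A ≤ Subgroup.normalizer (V : Set G))
    (hfpf : ∀ a ∈ A, a ≠ 1 → V ⊓ Subgroup.centralizer {a} = ⊥)
    [IsMulCommutative A] : IsCyclic A := by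
  by_contra hnc
  obtain ⟨r, hr, x, y, hxr, hyr, hx1, hxy⟩ := exists_elementary_pair hnc
  have : Fact r.Prime := ⟨hr⟩
  have hx1' : (x : G) ≠ 1 := fun h => hx1 (Subtype.ext h)
  have hxr' : (x : G) ^ r = 1 := congrArg Subtype.val hxr
  have hyr' : (y : G) ^ r = 1 := congrArg Subtype.val hyr
  have hcomm : (x : G) * (y : G) = (y : G) * (x : G) := congrArg Subtype.val (mul_comm' x y)
  have hpow : ∀ v ∈ V, v ^ r = 1 := by
    intro v hv
    refine pow_eq_one_of_fpf V (x : G) (y : G) (hAV x.2) (hAV y.2) hcomm r hr hxr' hyr'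
      (hfpf x x.2 hx1') ?_ v hv
    intro t _
    apply hfpf _ (A.mul_mem (A.pow_mem x.2 t) y.2)
    intro h
    exact hxy t (Subtype.ext h)
  have hVp : IsPGroup r V := by
    intro v
    refine ⟨1, ?_⟩
    apply Subtype.ext
    rw [pow_one]
    exact hpow v v.2
  exact exists_fixed_of_pgroup r V x (hAV x.2) hVp hV hxr' (hfpf x x.2 hx1')

/-- A nonabelian group of order `pq` has no fixed-point-free action on an abelian group. -/
theorem fpf_pq_false {G : Type*} [Group G] [Finite G] (A V : Subgroup G) [IsMulCommutative V]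
    (hV : V ≠ ⊥) (hAV : A ≤ Subgroup.normalizer (V : Set G))
    (hfpf : ∀ a ∈ A, a ≠ 1 → V ⊓ Subgroup.centralizer {a} = ⊥)
    (p q : ℕ) (hp : p.Prime) (hq : q.Prime) (hpq : p < q) (hcard : Nat.card A = p * q)
    (hnc : ¬ IsMulCommutative A) : False := by
  obtain ⟨x, y, s, hx, hy, hrel, hcop⟩ := exists_metacyclic_of_card_pq p q hp hq hpq hcard hnc
  have : Fact q.Prime := ⟨hq⟩
  have hx1 : (x : G) ≠ 1 := by
    intro h
    have : x = 1 := Subtype.ext h
    rw [this, orderOf_one] at hx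
    exact hp.one_lt.ne hx
  have hy1 : (y : G) ≠ 1 := by
    intro h
    have : y = 1 := Subtype.ext h
    rw [this, orderOf_one] at hy
    exact hq.one_lt.ne hy
  have hxp : (x : G) ^ p = 1 := by
    have : x ^ p = 1 := by rw [← hx]; exact pow_orderOf_eq_one x
    exact congrArg Subtype.val this
  have hyq : (y : G) ^ q = 1 := by
    have : y ^ q = 1 := by rw [← hy]; exact pow_orderOf_eq_one y
    exact congrArg Subtype.val this
  have hrel' : (x : G) * (y : G) = (y : G) ^ s * (x : G) := congrArg Subtype.val hrel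
  set X := conjEnd V ⟨x, hAV x.2⟩ with hXdef
  set Y := conjEnd V ⟨y, hAV y.2⟩ with hYdef
  have hXY : X * Y = Y ^ s * X := by
    rw [hXdef, hYdef, ← map_pow, ← map_mul, ← map_mul]
    congr 1
    exact Subtype.ext hrel'
  have hYq : Y ^ q = 1 := by
    rw [hYdef, ← map_pow]
    have : (⟨y, hAV y.2⟩ : Subgroup.normalizer (V : Set G)) ^ q = 1 := Subtype.ext hyq
    rw [this, map_one]
  have hXp : X ^ p = 1 := by
    rw [hXdef, ← map_pow]
    have : (⟨x, hAV x.2⟩ : Subgroup.normalizer (V : Set G)) ^ p = 1 := Subtype.ext hxp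
    rw [this, map_one]
  have hNQ : ∑ j ∈ Finset.range q, Y ^ j = 0 :=
    norm_eq_zero_of_fpf Y q hYq (conjEnd_fix V ⟨y, hAV y.2⟩ (hfpf y y.2 hy1))
  have hNP : ∑ k ∈ Finset.range p, X ^ k = 0 :=
    norm_eq_zero_of_fpf X p hXp (conjEnd_fix V ⟨x, hAV x.2⟩ (hfpf x x.2 hx1))
  have hq0 := natCast_eq_zero_of_metacyclic X Y s p q hq.pos hp.pos hXY hYq hNQ hNP hcop
  have hpow : ∀ v ∈ V, v ^ q = 1 := fun v hv => pow_eq_one_of_nsmul V q (fun m => by
    have := congrArg (fun f : AddMonoid.End (Additive V) => f m) hq0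
    simpa using this) v hv
  have hVq : IsPGroup q V := by
    intro v
    refine ⟨1, ?_⟩
    apply Subtype.ext
    rw [pow_one]
    exact hpow v v.2
  exact exists_fixed_of_pgroup q V y (hAV y.2) hVq hV hyq (hfpf y y.2 hy1)

end Cfsg.Agent.Helper1
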