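import Cfsg.Agent.Helper1.Fpf2
import Mathlib.GroupTheory.IndexNormal
import Mathlib.GroupTheory.Sylow

set_option autoImplicit false
open scoped IsMulCommutative

namespace Cfsg.Agent.Helper1

/-- From `X * Y = Y ^ s * X` one gets `X ^ k * Y ^ m = Y ^ (m * s ^ k) * X ^ k`. -/
theorem pow_mul_pow_of_rel {M : Type*} [Monoid M] (X Y : M) (s : ℕ) (hXY : X * Y = Y ^ s * X)
    (k m : ℕ) : X ^ k * Y ^ m = Y ^ (m * s ^ k) * X ^ k := by
  have h1 : ∀ n, X * Y ^ n = Y ^ (n * s) * X := by
    intro n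
    induction n with
    | zero => simp
    | succ n ih =>
      rw [pow_succ, ← mul_assoc, ih, mul_assoc, hXY, ← mul_assoc, ← pow_add]
      congr 2; ring
  induction k with
  | zero => simp
  | succ k ih =>
    rw [pow_succ', mul_assoc, ih, ← mul_assoc, h1, mul_assoc]
    congr 2; ring

/-- The ring identity behind the fixed-point-free action of a nonabelian group of order `pq`. -/
theorem natCast_eq_zero_of_metacyclic {R : Type*} [Semiring R] (X Y : R) (s p q : ℕ) (hq : 0 < q)
    (hp : 0 < p) (hXY : X * Y = Y ^ s * X) (hY : Y ^ q = 1)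
    (hNQ : ∑ j ∈ Finset.range q, Y ^ j = 0) (hNP : ∑ k ∈ Finset.range p, X ^ k = 0)
    (hcop : ∀ k, 1 ≤ k → k < p → Nat.Coprime q (1 + (q - 1) * s ^ k)) : (q : R) = 0 := by
  have h3 : ∀ k i, Y ^ i * X ^ k * Y ^ ((q - 1) * i) = Y ^ (i * (1 + (q - 1) * s ^ k)) * X ^ k := by
    intro k i
    rw [mul_assoc, pow_mul_pow_of_rel X Y s hXY, ← mul_assoc, ← pow_add]
    congr 2; ring
  have h4 : ∑ i ∈ Finset.range q, Y ^ i * (∑ k ∈ Finset.range p, X ^ k) * Y ^ ((q - 1) * i) = 0 := by
    rw [hNP]; simp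
  simp_rw [Finset.mul_sum, Finset.sum_mul] at h4
  rw [Finset.sum_comm] at h4
  simp_rw [h3, ← Finset.sum_mul] at h4
  rw [Finset.range_eq_Ico, Finset.sum_eq_sum_Ico_succ_bot hp] at h4
  have h5 : ∑ k ∈ Finset.Ico (0 + 1) p,
      (∑ i ∈ Finset.range q, Y ^ (i * (1 + (q - 1) * s ^ k))) * X ^ k = 0 := by
    apply Finset.sum_eq_zero
    intro k hk
    rw [Finset.mem_Ico] at hk
    rw [sum_pow_mul_of_coprime Y q hq hY _ (hcop k hk.1 hk.2), hNQ, zero_mul]
  rw [h5, add_zero] at h4
  have h6 : ∀ i, Y ^ (i * (1 + (q - 1) * s ^ 0)) = 1 := by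
    intro i
    have : 1 + (q - 1) * s ^ 0 = q := by rw [pow_zero, mul_one]; omega
    rw [this, mul_comm, pow_mul, hY, one_pow]
  simp_rw [h6] at h4
  simpa using h4

/-- In a group of order `pq` (`p ≠ q` primes), a subgroup containing elements of order `p`
and `q` is everything. -/
theorem eq_top_of_mem_of_mem {A : Type*} [Group A] [Finite A] (p q : ℕ) (hp : p.Prime)
    (hq : q.Prime) (hpq : p ≠ q) (hcard : Nat.card A = p * q) (x y : A) (hx : orderOf x = p)
    (hy : orderOf y = q) (H : Subgroup A) (hxH : x ∈ H) (hyH : y ∈ H) : H = ⊤ := by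
  have h1 : p ∣ Nat.card H := hx ▸ Subgroup.orderOf_dvd_natCard H hxH
  have h2 : q ∣ Nat.card H := hy ▸ Subgroup.orderOf_dvd_natCard H hyH
  have h3 : p * q ∣ Nat.card H :=
    Nat.Coprime.mul_dvd_of_dvd_of_dvd ((Nat.coprime_primes hp hq).mpr hpq) h1 h2
  apply Subgroup.eq_top_of_le_card
  rw [hcard]
  exact Nat.le_of_dvd Nat.card_pos h3

/-- The structure of a nonabelian group of order `pq`, `p < q`. -/
theorem exists_metacyclic_of_card_pq {A : Type*} [Group A] [Finite A] (p q : ℕ) (hp : p.Prime)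
    (hq : q.Prime) (hpq : p < q) (hcard : Nat.card A = p * q) (hnc : ¬ IsMulCommutative A) :
    ∃ (x y : A) (s : ℕ), orderOf x = p ∧ orderOf y = q ∧ x * y = y ^ s * x ∧
      ∀ k, 1 ≤ k → k < p → Nat.Coprime q (1 + (q - 1) * s ^ k) := by
  have hpf : Fact p.Prime := ⟨hp⟩
  have hqf : Fact q.Prime := ⟨hq⟩
  obtain ⟨x, hx⟩ := exists_prime_orderOf_dvd_card' (G := A) p (hcard ▸ dvd_mul_right p q)
  obtain ⟨y, hy⟩ := exists_prime_orderOf_dvd_card' (G := A) q (hcard ▸ dvd_mul_left q p)
  have hQcard : Nat.card (Subgroup.zpowers y) = q := by rw [Nat.card_zpowers, hy]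
  have hQidx : (Subgroup.zpowers y).index = p := by
    have h1 := (Subgroup.zpowers y).card_mul_index
    rw [hQcard, hcard, mul_comm p q] at h1
    exact Nat.eq_of_mul_eq_mul_left hq.pos h1
  have hmin : (Nat.card A).minFac = p := by
    rw [hcard]
    have h1 : (p * q).minFac ≤ p := Nat.minFac_le_of_dvd hp.two_le (dvd_mul_right p q)
    have h2 : (p * q).minFac.Prime := Nat.minFac_prime (by
      have := hp.one_lt; have := hq.one_lt; nlinarith)
    have h3 : (p * q).minFac ∣ p * q := Nat.minFac_dvd _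
    rcases (Nat.Prime.dvd_mul h2).mp h3 with h4 | h4
    · exact (Nat.prime_dvd_prime_iff_eq h2 hp).mp h4
    · have := (Nat.prime_dvd_prime_iff_eq h2 hq).mp h4
      omega
  have hQn : (Subgroup.zpowers y).Normal :=
    Subgroup.normal_of_index_eq_minFac_card (hQidx.trans hmin.symm)
  have h1 : x * y * x⁻¹ ∈ Subgroup.zpowers y := hQn.conj_mem y (Subgroup.mem_zpowers y) x
  rw [← mem_powers_iff_mem_zpowers, Submonoid.mem_powers_iff] at h1
  obtain ⟨s, hs⟩ := h1
  have hrel : x * y = y ^ s * x := by rw [hs]; group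
  refine ⟨x, y, s, hx, hy, hrel, ?_⟩
  intro k hk1 hkp
  by_contra hcop
  rw [Nat.Prime.coprime_iff_not_dvd hq, not_not] at hcop
  have h2 : y ^ (1 + (q - 1) * s ^ k) = 1 := by
    obtain ⟨c, hc⟩ := hcop
    rw [hc, pow_mul, ← hy, pow_orderOf_eq_one, one_pow]
  have h3 : y ^ (s ^ k) = y := by
    have h4 : y ^ (s ^ k) * y ^ ((q - 1) * s ^ k) = 1 := by
      rw [← pow_add]
      have : s ^ k + (q - 1) * s ^ k = q * s ^ k := by
        have := hq.one_lt
        obtain ⟨c, rfl⟩ : ∃ c, q = c + 1 := ⟨q - 1, by omega⟩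
        simp; ring
      rw [this, pow_mul, ← hy, pow_orderOf_eq_one, one_pow]
    have h5 : y * y ^ ((q - 1) * s ^ k) = 1 := by
      rw [← h2, pow_add, pow_one]
    exact mul_right_cancel (h4.trans h5.symm)
  have h6 : x ^ k * y = y * x ^ k := by
    have := pow_mul_pow_of_rel x y s hrel k 1
    rw [pow_one, one_mul, h3] at this
    exact this
  have h7 : x * y = y * x := by
    have hkc : Nat.Coprime k (orderOf x) := by
      rw [hx, Nat.coprime_comm, Nat.Prime.coprime_iff_not_dvd hp]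
      exact Nat.not_dvd_of_pos_of_lt (by omega) hkp
    obtain ⟨m, hm⟩ := exists_pow_eq_self_of_coprime hkc
    have h8 : Commute (x ^ k) y := h6
    have h9 : Commute ((x ^ k) ^ m) y := h8.pow_left m
    rw [hm] at h9
    exact h9
  have hne : p ≠ q := hpq.ne
  have hxc : x ∈ Subgroup.center A := by
    have h8 : Subgroup.centralizer {x} = ⊤ :=
      eq_top_of_mem_of_mem p q hp hq hne hcard x y hx hy _
        (Subgroup.mem_centralizer_singleton_iff.mpr rfl)
        (Subgroup.mem_centralizer_singleton_iff.mpr h7.symm)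
    rw [Subgroup.mem_center_iff]
    intro g
    have : g ∈ Subgroup.centralizer {x} := by rw [h8]; trivial
    exact Subgroup.mem_centralizer_singleton_iff.mp this
  have hyc : y ∈ Subgroup.center A := by
    have h8 : Subgroup.centralizer {y} = ⊤ :=
      eq_top_of_mem_of_mem p q hp hq hne hcard x y hx hy _
        (Subgroup.mem_centralizer_singleton_iff.mpr h7)
        (Subgroup.mem_centralizer_singleton_iff.mpr rfl)
    rw [Subgroup.mem_center_iff]
    intro g
    have : g ∈ Subgroup.centralizer {y} := by rw [h8]; trivial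
    exact Subgroup.mem_centralizer_singleton_iff.mp this
  have hct : Subgroup.center A = ⊤ :=
    eq_top_of_mem_of_mem p q hp hq hne hcard x y hx hy _ hxc hyc
  exact hnc (Subgroup.center_eq_top_iff.mp hct)

end Cfsg.Agent.Helper1
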