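import Cfsg.Agent.Helper1.FpfMain
import Cfsg.Agent.Helper35.CoprimeSylow

/-!
# Fixed-point-free action: subgroups of prime order of a `p`-subgroup are unique

Material for the structure of Frobenius complements: a `p`-group acting without fixed points has a
unique subgroup of order `p`.
-/

set_option autoImplicit false
open scoped IsMulCommutative

namespace Cfsg.Agent.Helper1

/-- An element `x` with `x ^ r = 1` normalising a subgroup `V` of order divisible by `r`
centralises a nontrivial element of `V`. -/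
theorem exists_fixed_of_dvd_card {G : Type*} [Group G] [Finite G] (r : ℕ) [Fact r.Prime]
    (V : Subgroup G) (x : G) (hx : x ∈ Subgroup.normalizer (V : Set G))
    (hdvd : r ∣ Nat.card V) (hxr : x ^ r = 1) : V ⊓ Subgroup.centralizer {x} ≠ ⊥ := by
  let P : Subgroup (Subgroup.normalizer (V : Set G)) := Subgroup.zpowers ⟨x, hx⟩
  have hP : IsPGroup r P := by
    intro g
    refine ⟨1, ?_⟩
    obtain ⟨k, hk⟩ := Subgroup.mem_zpowers_iff.mp g.2
    apply Subtype.ext
    apply Subtype.ext
    rw [pow_one]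
    have h1 : ((g : Subgroup.normalizer (V : Set G)) : G) = x ^ k := by
      rw [← hk]; simp
    simp only [Subgroup.coe_pow, Subgroup.coe_one]
    rw [h1, ← zpow_natCast, ← zpow_mul, mul_comm, zpow_mul, zpow_natCast, hxr, one_zpow]
  have h1 : (1 : V) ∈ MulAction.fixedPoints P V := by
    intro g
    apply Subtype.ext
    show ((g : Subgroup.normalizer (V : Set G)) : G) * ((1 : V) : G) * ((g : Subgroup.normalizer (V : Set G)) : G)⁻¹ = ((1 : V) : G)
    simp
  obtain ⟨b, hb, hb1⟩ := hP.exists_fixed_point_of_prime_dvd_card_of_fixed_point V hdvd h1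
  intro hbot
  have h2 : (b : G) ∈ V ⊓ Subgroup.centralizer {x} := by
    refine ⟨b.2, ?_⟩
    show (b : G) ∈ Subgroup.centralizer {x}
    rw [Subgroup.mem_centralizer_singleton_iff]
    have h3 := hb ⟨⟨x, hx⟩, Subgroup.mem_zpowers _⟩
    have h4 : x * (b : G) * x⁻¹ = (b : G) := congrArg Subtype.val h3
    calc (b : G) * x = x * (b : G) * x⁻¹ * x := by rw [h4]
      _ = x * (b : G) := by group
  rw [hbot, Subgroup.mem_bot] at h2
  exact hb1 (Subtype.ext h2.symm)

/-- The normaliser of `R` normalises `Z(R) = R ⊓ C(R)`. -/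
theorem mem_normalizer_inf_centralizer_self {G : Type*} [Group G] (R : Subgroup G) (g : G)
    (hg : g ∈ Subgroup.normalizer (R : Set G)) :
    g ∈ Subgroup.normalizer ((R ⊓ Subgroup.centralizer (R : Set G) : Subgroup G) : Set G) := by
  rw [Subgroup.mem_set_normalizer_iff] at hg ⊢
  have hg' : ∀ h : G, h ∈ R ↔ g * h * g⁻¹ ∈ R := hg
  intro h
  show h ∈ R ⊓ Subgroup.centralizer (R : Set G) ↔ g * h * g⁻¹ ∈ R ⊓ Subgroup.centralizer (R : Set G)
  rw [Subgroup.mem_inf, Subgroup.mem_inf, ← hg', Subgroup.mem_centralizer_iff,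
    Subgroup.mem_centralizer_iff]
  constructor
  · rintro ⟨h1, h2⟩
    refine ⟨h1, ?_⟩
    intro k hk
    have hk' : g⁻¹ * k * g ∈ R := by
      rw [hg' (g⁻¹ * k * g)]
      have : g * (g⁻¹ * k * g) * g⁻¹ = k := by group
      rw [this]; exact hk
    have h3 := h2 _ hk'
    calc k * (g * h * g⁻¹) = g * (g⁻¹ * k * g * h) * g⁻¹ := by group
      _ = g * (h * (g⁻¹ * k * g)) * g⁻¹ := by rw [h3]
      _ = g * h * g⁻¹ * k := by group
  · rintro ⟨h1, h2⟩
    refine ⟨h1, ?_⟩
    intro k hk
    have hk' : g * k * g⁻¹ ∈ R := (hg' k).mp hk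
    have h3 := h2 _ hk'
    calc k * h = g⁻¹ * (g * k * g⁻¹ * (g * h * g⁻¹)) * g := by group
      _ = g⁻¹ * (g * h * g⁻¹ * (g * k * g⁻¹)) * g := by rw [h3]
      _ = h * k := by group

/-- A `p`-group `Q` acting without fixed points on a nontrivial group `K` has at most one
subgroup of order `p`. -/
theorem fpf_eq_of_card_prime {G : Type*} [Group G] [Finite G] (K Q : Subgroup G)
    (hK : K ≠ ⊥) (hQK : Q ≤ Subgroup.normalizer (K : Set G))
    (hfpf : ∀ h ∈ Q, h ≠ 1 → K ⊓ Subgroup.centralizer {h} = ⊥) (p : ℕ) [Fact p.Prime]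
    (hQ : IsPGroup p Q) (A B : Subgroup G) (hA : A ≤ Q) (hB : B ≤ Q)
    (hAp : Nat.card A = p) (hBp : Nat.card B = p) : A = B := by
  have hp : p.Prime := Fact.out
  -- an element of order `p` in `A`
  have key : ∀ A : Subgroup G, A ≤ Q → Nat.card A = p →
      ∃ y ∈ A, y ≠ 1 ∧ y ^ p = 1 ∧ Subgroup.zpowers y = A := by
    intro A hA hAp
    have hnt : Nontrivial A := by
      rw [← Finite.one_lt_card_iff_nontrivial, hAp]; exact hp.one_lt
    obtain ⟨y, hy⟩ := exists_ne (1 : A)
    have hyp : (y : G) ^ p = 1 := by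
      have : y ^ p = 1 := by rw [← hAp]; exact pow_card_eq_one'
      exact congrArg Subtype.val this
    have hy1 : (y : G) ≠ 1 := fun h => hy (Subtype.ext h)
    refine ⟨y, y.2, hy1, hyp, ?_⟩
    apply Subgroup.eq_of_le_of_card_ge
    · rw [Subgroup.zpowers_le]; exact y.2
    · rw [Nat.card_zpowers, hAp]
      have h1 : orderOf (y : G) ∣ p := orderOf_dvd_of_pow_eq_one hyp
      rcases (Nat.dvd_prime hp).mp h1 with h | h
      · exact absurd (orderOf_eq_one_iff.mp h) hy1
      · exact h.ge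
  obtain ⟨x₀, hx₀A, hx₀1, hx₀p, -⟩ := key A hA hAp
  -- `p` does not divide `|K|`
  have hpK : ¬ p ∣ Nat.card K := by
    intro hdvd
    exact exists_fixed_of_dvd_card p K x₀ (hQK (hA hx₀A)) hdvd hx₀p (hfpf x₀ (hA hx₀A) hx₀1)
  have hcop : (Nat.card Q).Coprime (Nat.card K) := by
    obtain ⟨n, hn⟩ := IsPGroup.iff_card.mp hQ
    rw [hn]
    exact Nat.Coprime.pow_left n ((Nat.Prime.coprime_iff_not_dvd hp).mpr hpK)
  -- an invariant Sylow subgroup of `K`
  have hK1 : Nat.card K ≠ 1 := by
    intro h; exact hK (Subgroup.card_eq_one.mp h)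
  have hr : (Nat.card K).minFac.Prime := Nat.minFac_prime hK1
  have : Fact (Nat.card K).minFac.Prime := ⟨hr⟩
  have hsolv : Group.IsSolvable Q := by
    have : Group.IsNilpotent Q := hQ.isNilpotent
    exact IsNilpotent.to_isSolvable
  obtain ⟨R, hR, hQR⟩ := Cfsg.Agent.Helper35.exists_invariant_sylow hQK hcop (Or.inl hsolv)
    (Nat.card K).minFac
  have hRp : IsPGroup (Nat.card K).minFac R := Cfsg.Agent.Helper35.isPGroup_of_mem_sylowSet hR
  have hRnt : Nontrivial R := by
    rw [← Finite.one_lt_card_iff_nontrivial, hR.2]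
    apply Nat.one_lt_pow _ hr.one_lt
    have := (Nat.Prime.dvd_iff_one_le_factorization hr Nat.card_pos.ne').mp (Nat.minFac_dvd _)
    omega
  -- its centre
  set V : Subgroup G := R ⊓ Subgroup.centralizer (R : Set G) with hVdef
  have hVK : V ≤ K := inf_le_left.trans hR.1
  have hV1 : V ≠ ⊥ := by
    have hc := hRp.center_nontrivial
    obtain ⟨z, hz⟩ := exists_ne (1 : Subgroup.center R)
    intro hbot
    have hzV : ((z : R) : G) ∈ V := by
      refine ⟨(z : R).2, ?_⟩
      show ((z : R) : G) ∈ Subgroup.centralizer (R : Set G)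
      rw [Subgroup.mem_centralizer_iff]
      intro k hk
      have h1 := (Subgroup.mem_center_iff.mp z.2) ⟨k, hk⟩
      exact congrArg Subtype.val h1
    rw [hbot, Subgroup.mem_bot] at hzV
    exact hz (Subtype.ext (Subtype.ext hzV))
  have hVc : IsMulCommutative V := by
    refine ⟨⟨fun a b => Subtype.ext ?_⟩⟩
    have h1 : (b : G) ∈ Subgroup.centralizer (R : Set G) := b.2.2
    rw [Subgroup.mem_centralizer_iff] at h1
    exact h1 _ a.2.1
  have hQV : Q ≤ Subgroup.normalizer (V : Set G) := fun g hg =>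
    mem_normalizer_inf_centralizer_self R g (hQR hg)
  have hfV : ∀ h ∈ Q, h ≠ 1 → V ⊓ Subgroup.centralizer {h} = ⊥ := by
    intro h hh hh1
    rw [eq_bot_iff, ← hfpf h hh hh1]
    exact inf_le_inf_right _ hVK
  -- a central element of order `p`
  have hQnt : Nontrivial Q := ⟨⟨⟨x₀, hA hx₀A⟩, 1, fun h => hx₀1 (congrArg Subtype.val h)⟩⟩
  have hZnt : Nontrivial (Subgroup.center Q) := hQ.center_nontrivial
  have hZdvd : p ∣ Nat.card (Subgroup.center Q) := by
    obtain ⟨m, hm⟩ := IsPGroup.iff_card.mp (hQ.to_subgroup (Subgroup.center Q))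
    rw [hm]
    rcases Nat.eq_zero_or_pos m with h0 | h0
    · exfalso
      rw [h0, pow_zero] at hm
      have := Finite.one_lt_card_iff_nontrivial.mpr hZnt
      omega
    · exact dvd_pow_self p h0.ne'
  obtain ⟨z, hz⟩ := exists_prime_orderOf_dvd_card' p hZdvd
  set z' : G := ((z : Q) : G) with hz'def
  have hz'Q : z' ∈ Q := (z : Q).2
  have hz'o : orderOf z' = p := by
    rw [hz'def, Subgroup.orderOf_coe, Subgroup.orderOf_coe, hz]
  have hz'1 : z' ≠ 1 := by
    intro h
    rw [h, orderOf_one] at hz'o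
    exact hp.one_lt.ne hz'o
  have hz'p : z' ^ p = 1 := by rw [← hz'o]; exact pow_orderOf_eq_one z'
  have hz'c : ∀ q ∈ Q, z' * q = q * z' := by
    intro q hq
    have h1 := (Subgroup.mem_center_iff.mp z.2) ⟨q, hq⟩
    exact (congrArg Subtype.val h1).symm
  have hcardz : Nat.card (Subgroup.zpowers z') = p := by rw [Nat.card_zpowers, hz'o]
  -- every subgroup of order `p` is `⟨z'⟩`
  have claim : ∀ A : Subgroup G, A ≤ Q → Nat.card A = p → A = Subgroup.zpowers z' := by
    intro A hA hAp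
    obtain ⟨y, hyA, hy1, hyp, hyz⟩ := key A hA hAp
    by_contra hne
    have hxy : ∀ t : ℕ, z' ^ t * y ≠ 1 := by
      intro t ht
      apply hne
      have hy' : y ∈ Subgroup.zpowers z' := by
        have : y = (z' ^ t)⁻¹ := eq_inv_of_mul_eq_one_right ht
        rw [this]
        exact Subgroup.inv_mem _ (Subgroup.pow_mem _ (Subgroup.mem_zpowers z') t)
      apply Subgroup.eq_of_le_of_card_ge
      · rw [← hyz, Subgroup.zpowers_le]; exact hy'
      · rw [hcardz, hAp]
    have hpow : ∀ v ∈ V, v ^ p = 1 := by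
      intro v hv
      refine pow_eq_one_of_fpf V z' y (hQV hz'Q) (hQV (hA hyA)) (hz'c y (hA hyA)) p hp hz'p hyp
        (hfV z' hz'Q hz'1) ?_ v hv
      intro t _
      exact hfV _ (Q.mul_mem (Q.pow_mem hz'Q t) (hA hyA)) (hxy t)
    have hVp : IsPGroup p V := by
      intro v
      refine ⟨1, ?_⟩
      apply Subtype.ext
      rw [pow_one]
      exact hpow v v.2
    exact exists_fixed_of_pgroup p V z' (hQV hz'Q) hVp hV1 hz'p (hfV z' hz'Q hz'1)
  rw [claim A hA hAp, claim B hB hBp]

end Cfsg.Agent.Helper1
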