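import Cfsg.Agent.Helper11.FrobThm

/-!
# Nilpotency of Frobenius kernels, relative to Thompson's theorem

The reduction of "Frobenius kernels are nilpotent" to Thompson's theorem on fixed-point-free
automorphisms of prime order; the latter enters as a hypothesis.
-/

set_option autoImplicit false

namespace Cfsg.Agent.Helper1

/-- An element of prime order of a Frobenius complement induces a fixed-point-free automorphism
of prime order on the (nontrivial) kernel. -/
theorem frobenius_kernel_fpf_aut {G : Type*} [Group G] [Finite G] (H : Subgroup G)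
    (hH : Cfsg.IsFrobeniusComplement H) (N : Subgroup G) [N.Normal]
    (hc : Subgroup.IsComplement' N H) (hN : N ≠ ⊥) :
    ∃ (φ : N ≃* N) (p : ℕ), MonoidHom.FixedPointFree (φ : N →* N) ∧ p.Prime ∧ orderOf φ = p := by
  obtain ⟨hH1, -, hF⟩ := (Cfsg.Agent.Helper71.isFrobeniusComplement_iff H).mp hH
  have hcard : Nat.card H ≠ 1 := fun h => hH1 (Subgroup.card_eq_one.mp h)
  have hp : (Nat.card H).minFac.Prime := Nat.minFac_prime hcard
  have : Fact (Nat.card H).minFac.Prime := ⟨hp⟩
  obtain ⟨x, hx⟩ := exists_prime_orderOf_dvd_card' (Nat.card H).minFac (Nat.minFac_dvd (Nat.card H))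
  set p := (Nat.card H).minFac with hpdef
  have hx1 : (x : G) ≠ 1 := by
    intro h
    have : x = 1 := Subtype.ext h
    rw [this, orderOf_one] at hx
    exact hp.one_lt.ne hx
  have hxp : (x : G) ^ p = 1 := by
    have : x ^ p = 1 := by rw [← hx]; exact pow_orderOf_eq_one x
    exact congrArg Subtype.val this
  have hdisj : N ⊓ H = ⊥ := disjoint_iff.mp hc.disjoint
  have hfpf : MonoidHom.FixedPointFree ((MulAut.conjNormal (H := N) (x : G) : N ≃* N) : N →* N) := by
    intro n hn
    have h1 : (x : G) * (n : G) * (x : G)⁻¹ = (n : G) := by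
      have := congrArg Subtype.val hn
      rwa [MonoidHom.coe_coe, MulAut.conjNormal_apply] at this
    by_contra hn1
    have hnH : (n : G) ∉ H := by
      intro hnH
      have : (n : G) ∈ N ⊓ H := ⟨n.2, hnH⟩
      rw [hdisj, Subgroup.mem_bot] at this
      exact hn1 (Subtype.ext this)
    apply hx1
    apply hF (n : G) hnH (x : G) x.2
    have h2 : (n : G)⁻¹ * (x : G) * (n : G) = (x : G) := by
      calc (n : G)⁻¹ * (x : G) * (n : G)
          = (n : G)⁻¹ * ((x : G) * (n : G) * (x : G)⁻¹) * (x : G) := by group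
        _ = (x : G) := by rw [h1]; group
    rw [h2]; exact x.2
  refine ⟨MulAut.conjNormal (H := N) (x : G), p, hfpf, hp, ?_⟩
  have hpow : (MulAut.conjNormal (H := N) (x : G)) ^ p = 1 := by
    rw [← map_pow, hxp, map_one]
  rcases (Nat.dvd_prime hp).mp (orderOf_dvd_of_pow_eq_one hpow) with h | h
  · exfalso
    apply hN
    rw [Subgroup.eq_bot_iff_forall]
    intro n hn
    have h1 := orderOf_eq_one_iff.mp h
    have h2 := hfpf ⟨n, hn⟩ (by rw [MonoidHom.coe_coe, h1]; rfl)
    exact congrArg Subtype.val h2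
  · exact h

/-- Frobenius kernels are nilpotent, given Thompson's theorem for the kernel. -/
theorem frobenius_kernel_nilpotent_of_thompson {G : Type*} [Group G] [Finite G] (H : Subgroup G)
    (hH : Cfsg.IsFrobeniusComplement H)
    (hT : ∀ (N : Subgroup G) (φ : N ≃* N), MonoidHom.FixedPointFree (φ : N →* N) →
      ∀ p : ℕ, p.Prime → orderOf φ = p → Group.IsNilpotent N) :
    ∃ N : Subgroup G, (N : Set G) = Cfsg.frobeniusKernel H ∧ N.Normal ∧ Group.IsNilpotent N := by
  obtain ⟨N, hN, hNn, hc⟩ := Cfsg.Agent.Helper11.frobenius_kernel_subgroup H hH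
  refine ⟨N, hN, hNn, ?_⟩
  by_cases hN1 : N = ⊥
  · have : Subsingleton N := by rw [hN1]; infer_instance
    exact Group.isNilpotent_of_subsingleton
  · obtain ⟨φ, p, hφ, hp, hord⟩ := frobenius_kernel_fpf_aut H hH N hc hN1
    exact hT N φ hφ p hp hord

end Cfsg.Agent.Helper1
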