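import Mathlib
import Cfsg.Agent.Helper80.CharOrtho
import Cfsg.Agent.Helper79.Codegree
import Cfsg.Agent.Helper79.Linear
import Cfsg.Agent.Helper81.CharBasic

set_option autoImplicit false
open Cfsg

/-! CALL LM (helper21, row S4067) piece CHAR, by helper1. -/

namespace Cfsg.Agent.Helper1.LM

open scoped commutatorElement

theorem lmchar_arith (c L S N p m k g : ℕ) (h1 : L + S = g) (h2 : N * p ^ 2 ≤ S)
    (h3 : L + N = k) (h4 : m < k) (h5 : g = p * m) (h6 : c * L = g) (h7 : p + 1 ≤ c)
    (hp2 : 2 ≤ p) : False := by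
  obtain ⟨q, rfl⟩ : ∃ q, p = q + 1 := ⟨p - 1, by omega⟩
  have e1 : (q + 2) * L ≤ g := by rw [← h6]; exact Nat.mul_le_mul_right L (by omega)
  have e2 : q * ((q + 2) * L) ≤ q * g := Nat.mul_le_mul_left q e1
  have e3 : (m + 1) * (q + 1) ^ 2 ≤ (L + N) * (q + 1) ^ 2 := Nat.mul_le_mul_right _ (by omega)
  have e4 : (q + 1) * g = (q + 1) ^ 2 * m := by rw [h5]; ring
  nlinarith [e2, e3, e4, h1, h2]

theorem lm_char {G : Type*} [Group G] [Finite G] (hna : ¬ IsMulCommutative G)
    (hk : Nat.card G / (Nat.card G).minFac < Nat.card (ConjClasses G)) :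
    Nat.card (commutator G) = (Nat.card G).minFac := by
  classical
  let _ := Fintype.ofFinite G
  let _ := Fintype.ofFinite (IrrCharacter G)
  have hcard1 : Nat.card G ≠ 1 := by
    intro h1
    apply hna
    have : Subsingleton G := (Nat.card_eq_one_iff_unique.mp h1).1
    exact ⟨⟨fun a b => by rw [Subsingleton.elim a b]⟩⟩
  have hpp : (Nat.card G).minFac.Prime := Nat.minFac_prime hcard1
  have hpdvd : (Nat.card G).minFac ∣ Nat.card G := Nat.minFac_dvd _
  have hsplit := Agent.Helper79.sum_charDegree_sq_split (G := G)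
  have hkk := Agent.Helper80.card_irr_eq_card_conjClasses (G := G)
  have hlin := Agent.Helper79.card_linear_irr (G := G)
  have hdeg : ∀ χ : IrrCharacter G, ¬ charDegree (χ : G → ℂ) = 1 →
      (Nat.card G).minFac ≤ charDegree (χ : G → ℂ) := by
    intro χ hχ
    have h1 := Agent.Helper79.irr_charDegree_dvd_card χ
    have h2 := Agent.Helper81.charDegree_pos χ
    exact Nat.minFac_le_of_dvd (by omega) h1
  have hlow : (Finset.univ.filter
        (fun χ : IrrCharacter G => ¬ charDegree (χ : G → ℂ) = 1)).card * (Nat.card G).minFac ^ 2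
      ≤ ∑ χ ∈ Finset.univ.filter (fun χ : IrrCharacter G => ¬ charDegree (χ : G → ℂ) = 1),
          charDegree (χ : G → ℂ) ^ 2 := by
    rw [← smul_eq_mul]
    apply Finset.card_nsmul_le_sum
    intro χ hχ
    exact Nat.pow_le_pow_left (hdeg χ (Finset.mem_filter.mp hχ).2) 2
  have hcount : (Finset.univ.filter (fun χ : IrrCharacter G => charDegree (χ : G → ℂ) = 1)).card
      + (Finset.univ.filter (fun χ : IrrCharacter G => ¬ charDegree (χ : G → ℂ) = 1)).card
      = Fintype.card (IrrCharacter G) := by
    rw [Finset.card_filter_add_card_filter_not, Finset.card_univ]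
  have hL : (Finset.univ.filter (fun χ : IrrCharacter G => charDegree (χ : G → ℂ) = 1)).card
      = (commutator G).index := by
    rw [← hlin, Nat.card_eq_fintype_card, Fintype.card_subtype]
  have hcL : Nat.card (commutator G) * (commutator G).index = Nat.card G :=
    Subgroup.card_mul_index _
  have hcne1 : Nat.card (commutator G) ≠ 1 := by
    intro h1
    apply hna
    have hbot : commutator G = ⊥ := Subgroup.card_eq_one.mp h1
    refine ⟨⟨fun a b => ?_⟩⟩
    have hmem : ⁅a, b⁆ ∈ commutator G := by
      rw [commutator_def]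
      exact Subgroup.commutator_mem_commutator (Subgroup.mem_top a) (Subgroup.mem_top b)
    rw [hbot, Subgroup.mem_bot] at hmem
    exact commutatorElement_eq_one_iff_mul_comm.mp hmem
  have hcpos : 0 < Nat.card (commutator G) := Nat.card_pos
  have hcge : (Nat.card G).minFac ≤ Nat.card (commutator G) :=
    Nat.minFac_le_of_dvd (by omega) (Subgroup.card_subgroup_dvd_card _)
  by_contra hne
  have h7 : (Nat.card G).minFac + 1 ≤ Nat.card (commutator G) := by omega
  obtain ⟨m, hm⟩ := hpdvd
  have hk' : m < Nat.card (ConjClasses G) := by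
    have : Nat.card G / (Nat.card G).minFac = m := Nat.div_eq_of_eq_mul_right hpp.pos hm
    rw [this] at hk
    exact hk
  rw [← Nat.card_eq_fintype_card] at hsplit
  rw [hL] at hcount
  rw [hkk] at hcount
  exact lmchar_arith _ _ _ _ _ m _ _ hsplit hlow hcount hk' hm hcL h7 hpp.two_le

end Cfsg.Agent.Helper1.LM
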