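import Cfsg.Agent.Helper1.Tools2
import Mathlib.GroupTheory.Nilpotent
import Mathlib.GroupTheory.Subgroup.Centralizer
import Mathlib.Tactic.Group

set_option autoImplicit false
open Pointwise
open scoped commutatorElement

namespace Cfsg.Agent.Helper1

variable {G : Type*} [Group G]

/-- An element normalizing `A` and `B` normalizes `⁅A, B⁆`. -/
theorem mem_normalizer_commutator {A B : Subgroup G} {g : G}
    (hA : g ∈ Subgroup.normalizer (A : Set G)) (hB : g ∈ Subgroup.normalizer (B : Set G)) :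
    g ∈ Subgroup.normalizer ((⁅A, B⁆ : Subgroup G) : Set G) := by
  rw [mem_normalizer_iff_conj_smul_eq] at hA hB ⊢
  have h1 : MulAut.conj g • ⁅A, B⁆ = ⁅MulAut.conj g • A, MulAut.conj g • B⁆ :=
    Subgroup.map_commutator A B _
  rw [h1, hA, hB]

theorem commutator_le_of_le_normalizer {U P : Subgroup G}
    (h : P ≤ Subgroup.normalizer (U : Set G)) : ⁅U, P⁆ ≤ U := by
  rw [Subgroup.commutator_le]
  intro u hu x hx
  have h1 : x * u⁻¹ * x⁻¹ ∈ U :=
    (Subgroup.mem_set_normalizer_iff.mp (h hx) u⁻¹).mp (U.inv_mem hu)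
  have h2 : ⁅u, x⁆ = u * (x * u⁻¹ * x⁻¹) := by rw [commutatorElement_def]; group
  rw [h2]; exact U.mul_mem hu h1

/-- A `p`-group acting on a nontrivial `p`-group: `⁅U, P⁆ ≠ U`. -/
theorem commutator_ne_self_of_isPGroup [Finite G] {p : ℕ} [Fact p.Prime] {U P : Subgroup G}
    (hU : IsPGroup p U) (hP : IsPGroup p P) (hPU : P ≤ Subgroup.normalizer (U : Set G))
    (hU0 : U ≠ ⊥) : ⁅U, P⁆ ≠ U := by
  intro heq
  have hN : IsPGroup p (U ⊔ P : Subgroup G) := hU.to_sup_of_normal_left' hP hPU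
  have hnil : Group.IsNilpotent (U ⊔ P : Subgroup G) := hN.isNilpotent
  obtain ⟨n, hn⟩ := (Subgroup.isNilpotent_iff_lowerCentralSeries (U ⊔ P)).mp hnil
  have key : ∀ k, U ≤ (U ⊔ P).lowerCentralSeries k := by
    intro k
    induction k with
    | zero => exact le_sup_left
    | succ k ih =>
      rw [Subgroup.lowerCentralSeries_succ]
      calc U = ⁅U, P⁆ := heq.symm
        _ ≤ ⁅(U ⊔ P).lowerCentralSeries k, U ⊔ P⁆ := Subgroup.commutator_mono ih le_sup_right
  exact hU0 (le_bot_iff.mp (hn ▸ key n))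

/-- If a `p'`-group `Q` normalizes a `p`-group `U` and centralizes `⁅U, Q⁆`, it centralizes `U`. -/
theorem le_centralizer_of_commutator_centralized {p : ℕ} {U Q : Subgroup G}
    (hU : IsPGroup p U) (hQ : (Nat.card Q).Coprime p)
    (hQU : Q ≤ Subgroup.normalizer (U : Set G))
    (h : Q ≤ Subgroup.centralizer ((⁅U, Q⁆ : Subgroup G) : Set G)) :
    Q ≤ Subgroup.centralizer (U : Set G) := by
  intro x hx
  rw [Subgroup.mem_centralizer_iff]
  intro u hu
  have hxu : x * u * x⁻¹ ∈ U := (Subgroup.mem_set_normalizer_iff.mp (hQU hx) u).mp hu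
  have hcU : x * u * x⁻¹ * u⁻¹ ∈ U := U.mul_mem hxu (U.inv_mem hu)
  have hcW : x * u * x⁻¹ * u⁻¹ ∈ ⁅U, Q⁆ := by
    rw [Subgroup.commutator_comm]
    exact Subgroup.commutator_mem_commutator hx hu
  have hcx : (x * u * x⁻¹ * u⁻¹) * x = x * (x * u * x⁻¹ * u⁻¹) :=
    Subgroup.mem_centralizer_iff.mp (h hx) _ hcW
  have hpow : ∀ n : ℕ, x ^ n * u * (x ^ n)⁻¹ = (x * u * x⁻¹ * u⁻¹) ^ n * u := by
    intro n
    induction n with
    | zero => simp
    | succ n ih =>
      have hcomm : x * (x * u * x⁻¹ * u⁻¹) ^ n * x⁻¹ = (x * u * x⁻¹ * u⁻¹) ^ n := by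
        have h1 : Commute x (x * u * x⁻¹ * u⁻¹) := hcx.symm
        have h2 := h1.pow_right n
        rw [h2.eq]; group
      calc x ^ (n + 1) * u * (x ^ (n + 1))⁻¹
          = x * (x ^ n * u * (x ^ n)⁻¹) * x⁻¹ := by rw [pow_succ']; group
        _ = x * ((x * u * x⁻¹ * u⁻¹) ^ n * u) * x⁻¹ := by rw [ih]
        _ = (x * (x * u * x⁻¹ * u⁻¹) ^ n * x⁻¹) * (x * u * x⁻¹ * u⁻¹) * u := by group
        _ = (x * u * x⁻¹ * u⁻¹) ^ (n + 1) * u := by rw [hcomm, pow_succ]
  have h1 := hpow (orderOf x)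
  rw [pow_orderOf_eq_one] at h1
  have hc1 : (x * u * x⁻¹ * u⁻¹) ^ orderOf x = 1 := by
    simpa using h1.symm
  obtain ⟨k, hk⟩ := hU ⟨_, hcU⟩
  have hk' : (x * u * x⁻¹ * u⁻¹) ^ (p ^ k) = 1 := by
    have := congrArg Subtype.val hk
    simpa using this
  have hd1 := orderOf_dvd_of_pow_eq_one hc1
  have hd2 := orderOf_dvd_of_pow_eq_one hk'
  have hcop : (orderOf x).Coprime (p ^ k) :=
    Nat.Coprime.pow_right k (Nat.Coprime.coprime_dvd_left (Subgroup.orderOf_dvd_natCard Q hx) hQ)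
  have hone : orderOf (x * u * x⁻¹ * u⁻¹) = 1 := Nat.eq_one_of_dvd_coprimes hcop hd1 hd2
  rw [orderOf_eq_one_iff] at hone
  have h2 : x * u * x⁻¹ * u⁻¹ * (u * x) = u * x := by rw [hone, one_mul]
  rw [← h2]; group

/-- Thompson's `P × Q` lemma. -/
theorem thompson_PQ_aux [Finite G] (p : ℕ) [Fact p.Prime] (P Q : Subgroup G)
    (hP : IsPGroup p P) (hQ : (Nat.card Q).Coprime p)
    (hPQ : P ≤ Subgroup.centralizer (Q : Set G)) (n : ℕ) :
    ∀ U : Subgroup G, Nat.card U = n → IsPGroup p U → P ≤ Subgroup.normalizer (U : Set G) →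
      Q ≤ Subgroup.normalizer (U : Set G) →
      U ⊓ Subgroup.centralizer (P : Set G) ≤ Subgroup.centralizer (Q : Set G) →
      Q ≤ Subgroup.centralizer (U : Set G) := by
  induction n using Nat.strong_induction_on with
  | _ n ih =>
    intro U hn hU hPU hQU hC
    have hQP : Q ≤ Subgroup.normalizer (P : Set G) :=
      (Subgroup.le_centralizer_iff.mp hPQ).trans (Subgroup.centralizer_le_normalizer _)
    have hPQn : P ≤ Subgroup.normalizer (Q : Set G) :=
      hPQ.trans (Subgroup.centralizer_le_normalizer _)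
    have hWU : ⁅U, Q⁆ ≤ U := commutator_le_of_le_normalizer hQU
    have hlt : ∀ V : Subgroup G, V ≤ U → V ≠ U → Nat.card V < n := by
      intro V hVU hVne
      rw [← hn]
      exact lt_of_le_of_ne (Subgroup.card_le_of_le hVU)
        (fun h => hVne (Subgroup.eq_of_le_of_card_ge hVU h.ge))
    by_cases hW : ⁅U, Q⁆ = U
    · by_cases hU0 : U = ⊥
      · rw [hU0]
        intro x _
        rw [Subgroup.mem_centralizer_iff]
        intro u hu
        rw [SetLike.mem_coe, Subgroup.mem_bot] at hu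
        rw [hu, one_mul, mul_one]
      · have hVU : ⁅U, P⁆ ≤ U := commutator_le_of_le_normalizer hPU
        have hVne : ⁅U, P⁆ ≠ U := commutator_ne_self_of_isPGroup hU hP hPU hU0
        have hQV : Q ≤ Subgroup.centralizer ((⁅U, P⁆ : Subgroup G) : Set G) :=
          ih _ (hlt _ hVU hVne) ⁅U, P⁆ rfl (hU.to_le hVU)
            (fun x hx => mem_normalizer_commutator (hPU hx) (Subgroup.le_normalizer hx))
            (fun x hx => mem_normalizer_commutator (hQU hx) (hQP hx))
            ((inf_le_inf_right _ hVU).trans hC)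
        have h1 : ⁅⁅U, P⁆, Q⁆ = ⊥ :=
          Subgroup.commutator_eq_bot_iff_le_centralizer.mpr (Subgroup.le_centralizer_iff.mp hQV)
        have h2 : ⁅⁅P, Q⁆, U⁆ = ⊥ := by
          rw [Subgroup.commutator_eq_bot_iff_le_centralizer.mpr hPQ]
          exact Subgroup.commutator_bot_left U
        have h3 : ⁅⁅Q, U⁆, P⁆ = ⊥ := Subgroup.commutator_commutator_eq_bot_of_rotate h1 h2
        rw [Subgroup.commutator_comm Q U, hW] at h3
        have h4 : U ≤ Subgroup.centralizer (P : Set G) :=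
          Subgroup.commutator_eq_bot_iff_le_centralizer.mp h3
        exact Subgroup.le_centralizer_iff.mp ((le_inf le_rfl h4).trans hC)
    · have hQW : Q ≤ Subgroup.centralizer ((⁅U, Q⁆ : Subgroup G) : Set G) :=
        ih _ (hlt _ hWU hW) ⁅U, Q⁆ rfl (hU.to_le hWU)
          (fun x hx => mem_normalizer_commutator (hPU hx) (hPQn hx))
          (fun x hx => mem_normalizer_commutator (hQU hx) (Subgroup.le_normalizer hx))
          ((inf_le_inf_right _ hWU).trans hC)
      exact le_centralizer_of_commutator_centralized hU hQ hQU hQW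

end Cfsg.Agent.Helper1
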