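import Cfsg.Agent.Helper1.FpfSylow
import Cfsg.Agent.Helper1.Carter
import Cfsg.Agent.Helper19.ThompsonThesis
import Cfsg.Agent.Helper29.UniqueOrderP

/-!
# Solvable groups with disconnected prime graph

`NoMix A G`: no element of `G` has order `a * b` with primes `a ∈ A`, `b ∉ A`.  A finite solvable
group with this property, both kinds of primes dividing its order, is a Frobenius group or a
2-Frobenius group (Gruenberg-Kegel, solvable case): `frobenius_or_two_frobenius_aux`.
Tools: `frobenius_of_complement` (a normal subgroup with a complement acting without fixed points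
gives a Frobenius complement with that kernel), `frobenius_of_hall`,
`isCyclic_of_nilpotent_of_unique`, `exists_max_normal_pi`.
-/

set_option autoImplicit false
open scoped Pointwise

namespace Cfsg.Agent.Helper1

universe u

/-- No element has order `a * b` with primes `a ∈ A`, `b ∉ A`. -/
def NoMix (A : Set ℕ) (G : Type*) [Group G] : Prop :=
  ∀ a ∈ A, ∀ b ∉ A, a.Prime → b.Prime → ∀ g : G, orderOf g ≠ a * b

theorem NoMix.compl {A : Set ℕ} {G : Type*} [Group G] (h : NoMix A G) : NoMix Aᶜ G := by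
  intro a ha b hb hap hbp g hg
  exact h b (not_not.mp hb) a ha hbp hap g (by rw [hg, mul_comm])

theorem NoMix.subgroup {A : Set ℕ} {G : Type*} [Group G] (h : NoMix A G) (H : Subgroup G) :
    NoMix A H := by
  intro a ha b hb hap hbp g hg
  exact h a ha b hb hap hbp (g : G) (by rw [Subgroup.orderOf_coe, hg])

theorem orderOf_pow_cofactor {G : Type*} [Group G] [Finite G] (x : G) {a k : ℕ}
    (hk : orderOf x = a * k) : orderOf (x ^ k) = a := by
  have hpos : 0 < orderOf x := orderOf_pos x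
  have hk0 : k ≠ 0 := by
    rintro rfl
    rw [mul_zero] at hk
    omega
  have h1 := orderOf_pow_of_dvd (x := x) (n := k) hk0 (Dvd.intro_left _ hk.symm)
  rw [h1, hk, Nat.mul_div_cancel _ (Nat.pos_of_ne_zero hk0)]

theorem NoMix.of_surjective {A : Set ℕ} {G Q : Type*} [Group G] [Finite G] [Group Q]
    (h : NoMix A G) (f : G →* Q) (hf : Function.Surjective f) : NoMix A Q := by
  intro a ha b hb hap hbp q hq
  obtain ⟨g, rfl⟩ := hf q
  have hdvd : a * b ∣ orderOf g := hq ▸ orderOf_map_dvd f g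
  obtain ⟨k, hk⟩ := hdvd
  exact h a ha b hb hap hbp (g ^ k) (orderOf_pow_cofactor g hk)

/-- Commuting elements, one with all prime divisors of its order in `A`, the other with none. -/
theorem NoMix.eq_one_or {A : Set ℕ} {G : Type*} [Group G] [Finite G] (h : NoMix A G) {x y : G}
    (hc : Commute x y) (hx : ∀ p : ℕ, p.Prime → p ∣ orderOf x → p ∈ A)
    (hy : ∀ p : ℕ, p.Prime → p ∣ orderOf y → p ∉ A) : x = 1 ∨ y = 1 := by
  by_contra hcon
  push Not at hcon
  obtain ⟨hx1, hy1⟩ := hcon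
  have hox : orderOf x ≠ 1 := fun e => hx1 (orderOf_eq_one_iff.mp e)
  have hoy : orderOf y ≠ 1 := fun e => hy1 (orderOf_eq_one_iff.mp e)
  obtain ⟨a, hap, had⟩ := Nat.exists_prime_and_dvd hox
  obtain ⟨b, hbp, hbd⟩ := Nat.exists_prime_and_dvd hoy
  have haA := hx a hap had
  have hbA := hy b hbp hbd
  obtain ⟨k, hk⟩ := had
  obtain ⟨l, hl⟩ := hbd
  have h1 : orderOf (x ^ k) = a := orderOf_pow_cofactor x hk
  have h2 : orderOf (y ^ l) = b := orderOf_pow_cofactor y hl
  have hab : a ≠ b := fun e => hbA (e ▸ haA)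
  have hcop : (orderOf (x ^ k)).Coprime (orderOf (y ^ l)) := by
    rw [h1, h2]; exact (Nat.coprime_primes hap hbp).mpr hab
  have h3 := (hc.pow_pow k l).orderOf_mul_eq_mul_orderOf_of_coprime hcop
  rw [h1, h2] at h3
  exact h a haA b hbA hap hbp _ h3

/-- All prime divisors of `n` lie in `π`. -/
def PiNum (π : Set ℕ) (n : ℕ) : Prop := ∀ p : ℕ, p.Prime → p ∣ n → p ∈ π

theorem PiNum.of_dvd {π : Set ℕ} {m n : ℕ} (h : PiNum π n) (hd : m ∣ n) : PiNum π m :=
  fun p hp hpm => h p hp (hpm.trans hd)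

theorem PiNum.mul {π : Set ℕ} {m n : ℕ} (hm : PiNum π m) (hn : PiNum π n) : PiNum π (m * n) :=
  fun p hp hd => (hp.dvd_mul.mp hd).elim (hm p hp) (hn p hp)

theorem PiNum.coprime {π : Set ℕ} {m n : ℕ} (hm : PiNum π m) (hn : PiNum πᶜ n) : m.Coprime n :=
  Nat.coprime_of_dvd fun k hk hkm hkn => hn k hk hkn (hm k hk hkm)

theorem piNum_one (π : Set ℕ) : PiNum π 1 :=
  fun p hp hd => absurd (Nat.dvd_one.mp hd) hp.ne_one

theorem piNum_prime_pow {π : Set ℕ} {p : ℕ} (hp : p.Prime) (hpπ : p ∈ π) (n : ℕ) :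
    PiNum π (p ^ n) := by
  intro q hq hqd
  rw [(Nat.prime_dvd_prime_iff_eq hq hp).mp (hq.dvd_of_dvd_pow hqd)]
  exact hpπ

/-- A largest normal `π`-subgroup. -/
theorem exists_max_normal_pi (π : Set ℕ) (G : Type*) [Group G] [Finite G] :
    ∃ M : Subgroup G, M.Normal ∧ PiNum π (Nat.card M) ∧
      ∀ N : Subgroup G, N.Normal → PiNum π (Nat.card N) → N ≤ M := by
  obtain ⟨M, hM, hmax⟩ := wellFounded_gt.has_min
    {M : Subgroup G | M.Normal ∧ PiNum π (Nat.card M)}
    ⟨⊥, inferInstance, by rw [Subgroup.card_bot]; exact piNum_one π⟩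
  refine ⟨M, hM.1, hM.2, fun N hN hNπ => ?_⟩
  haveI := hM.1
  haveI := hN
  have h1 : (M ⊔ N).Normal := inferInstance
  have h2 : PiNum π (Nat.card (M ⊔ N : Subgroup G)) := (hM.2.mul hNπ).of_dvd (card_sup_dvd M N)
  have h3 := hmax (M ⊔ N) ⟨h1, h2⟩
  by_contra hle
  exact h3 (lt_of_le_of_ne le_sup_left (fun e => hle (e ▸ le_sup_right)))

/-- Modulo a largest normal `π`-subgroup there is no nontrivial normal `π`-subgroup. -/
theorem eq_bot_of_normal_pi_quot {π : Set ℕ} {G : Type*} [Group G] [Finite G] (M : Subgroup G)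
    [M.Normal] (hMπ : PiNum π (Nat.card M))
    (hmax : ∀ N : Subgroup G, N.Normal → PiNum π (Nat.card N) → N ≤ M)
    (N : Subgroup (G ⧸ M)) (hN : N.Normal) (hNπ : PiNum π (Nat.card N)) : N = ⊥ := by
  have h1 : (N.comap (QuotientGroup.mk' M)).Normal := hN.comap _
  have h2 : PiNum π (Nat.card (N.comap (QuotientGroup.mk' M))) := by
    rw [card_comap_mk']; exact hNπ.mul hMπ
  have h3 := hmax _ h1 h2
  rw [← Subgroup.map_comap_eq_self_of_surjective (QuotientGroup.mk'_surjective M) N, eq_bot_iff]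
  calc (N.comap (QuotientGroup.mk' M)).map (QuotientGroup.mk' M)
      ≤ M.map (QuotientGroup.mk' M) := Subgroup.map_mono h3
    _ = ⊥ := QuotientGroup.map_mk'_self M

/-- A nontrivial finite solvable group has a nontrivial normal subgroup of prime power order. -/
theorem exists_normal_pi_or (π : Set ℕ) (G : Type*) [Group G] [Finite G] [Group.IsSolvable G]
    [Nontrivial G] :
    ∃ N : Subgroup G, N.Normal ∧ N ≠ ⊥ ∧ (PiNum π (Nat.card N) ∨ PiNum πᶜ (Nat.card N)) := by
  obtain ⟨R, hRn, -, hR1, hmin⟩ := exists_minNormal (⊤ : Subgroup G) top_ne_bot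
  haveI := hRn
  obtain ⟨-, p, hp, hexp⟩ := minNormal_elemAbelian R hR1 (fun M hM hMR => hmin M hM hMR)
  haveI : Fact p.Prime := ⟨hp⟩
  have hpg : IsPGroup p R := fun x => ⟨1, by
    rw [pow_one]; exact Subtype.ext (hexp x x.2)⟩
  obtain ⟨n, hn⟩ := IsPGroup.iff_card.mp hpg
  refine ⟨R, hRn, hR1, ?_⟩
  rw [hn]
  by_cases hpπ : p ∈ π
  · exact Or.inl (piNum_prime_pow hp hpπ n)
  · exact Or.inr (piNum_prime_pow hp hpπ n)

/-- A normal subgroup `N` with a complement `C` acting on it without fixed points: `C` is a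
Frobenius complement with Frobenius kernel `N`. -/
theorem frobenius_of_complement {G : Type*} [Group G] [Finite G] (N C : Subgroup G) [hNn : N.Normal]
    (hc : Subgroup.IsComplement' N C) (hN : N ≠ ⊥) (hC : C ≠ ⊥)
    (hfpf : ∀ c ∈ C, ∀ n ∈ N, c * n = n * c → c = 1 ∨ n = 1) :
    Cfsg.IsFrobeniusComplement C ∧ Cfsg.frobeniusKernel C = (N : Set G) := by
  have hdisj : ∀ x, x ∈ N → x ∈ C → x = 1 :=
    fun x h1 h2 => Subgroup.disjoint_def.mp hc.disjoint h1 h2
  have hdecomp : ∀ g : G, ∃ n ∈ N, ∃ c ∈ C, g = n * c := by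
    intro g
    obtain ⟨⟨n, c⟩, hnc⟩ := hc.2 g
    exact ⟨n, n.2, c, c.2, hnc.symm⟩
  have key : ∀ x ∈ C, ∀ n ∈ N, n⁻¹ * x * n ∈ C → x = 1 ∨ n = 1 := by
    intro x hx n hn hy
    have h1 : x⁻¹ * (n⁻¹ * x * n) ∈ N := by
      have h0 : x⁻¹ * n⁻¹ * x ∈ N := by
        have := hNn.conj_mem n⁻¹ (N.inv_mem hn) x⁻¹
        simpa using this
      have h2 := N.mul_mem h0 hn
      have e : x⁻¹ * (n⁻¹ * x * n) = x⁻¹ * n⁻¹ * x * n := by group
      rw [e]; exact h2
    have h2 : x⁻¹ * (n⁻¹ * x * n) ∈ C := C.mul_mem (C.inv_mem hx) hy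
    have h3 := hdisj _ h1 h2
    apply hfpf x hx n hn
    have h4 : n⁻¹ * x * n = x := by
      calc n⁻¹ * x * n = x * (x⁻¹ * (n⁻¹ * x * n)) := by group
        _ = x := by rw [h3, mul_one]
    calc x * n = n * (n⁻¹ * x * n) := by group
      _ = n * x := by rw [h4]
  refine ⟨⟨hC, ?_, ?_⟩, ?_⟩
  · intro htop
    apply hN
    rw [eq_bot_iff]
    intro x hx
    exact Subgroup.mem_bot.mpr (hdisj x hx (htop ▸ Subgroup.mem_top x))
  · intro g hg
    rw [eq_bot_iff]
    rintro x ⟨hx1, hx2⟩
    have hx1' : x ∈ C := hx1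
    have hx2' : x ∈ MulAut.conj g • C := hx2
    rw [mem_conj_smul_iff] at hx2'
    obtain ⟨n, hn, c, hcC, rfl⟩ := hdecomp g
    have hn1 : n ≠ 1 := by
      rintro rfl
      apply hg
      simpa using hcC
    have h3 : n⁻¹ * x * n ∈ C := by
      have h4 : c * ((n * c)⁻¹ * x * (n * c)) * c⁻¹ ∈ C :=
        C.mul_mem (C.mul_mem hcC hx2') (C.inv_mem hcC)
      have e : c * ((n * c)⁻¹ * x * (n * c)) * c⁻¹ = n⁻¹ * x * n := by group
      rw [e] at h4; exact h4
    rcases key x hx1' n hn h3 with h | h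
    · exact Subgroup.mem_bot.mpr h
    · exact absurd h hn1
  · ext x
    show (x = 1 ∨ ∀ g : G, x ∉ MulAut.conj g • C) ↔ x ∈ N
    constructor
    · rintro (rfl | hx)
      · exact N.one_mem
      · by_contra hxN
        obtain ⟨n, hn, c, hcC, rfl⟩ := hdecomp x
        have hc1 : c ≠ 1 := by
          rintro rfl
          apply hxN
          simpa using hn
        let f : N → N := fun m =>
          ⟨(m : G) * (c * m * c⁻¹)⁻¹, N.mul_mem m.2 (N.inv_mem (hNn.conj_mem m m.2 c))⟩
        have hinj : Function.Injective f := by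
          intro m m' hmm
          have h1 : (m : G) * (c * m * c⁻¹)⁻¹ = (m' : G) * (c * m' * c⁻¹)⁻¹ :=
            congrArg Subtype.val hmm
          have h3 : (m' : G)⁻¹ * m = c * ((m' : G)⁻¹ * m) * c⁻¹ := by
            calc (m' : G)⁻¹ * m
                = (m' : G)⁻¹ * ((m : G) * (c * m * c⁻¹)⁻¹) * (c * m * c⁻¹) := by group
              _ = (m' : G)⁻¹ * ((m' : G) * (c * m' * c⁻¹)⁻¹) * (c * m * c⁻¹) := by rw [h1]
              _ = c * ((m' : G)⁻¹ * m) * c⁻¹ := by group
          have h2 : c * ((m' : G)⁻¹ * m) = ((m' : G)⁻¹ * m) * c := by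
            calc c * ((m' : G)⁻¹ * m) = (c * ((m' : G)⁻¹ * m) * c⁻¹) * c := by group
              _ = ((m' : G)⁻¹ * m) * c := by rw [← h3]
          rcases hfpf c hcC _ (N.mul_mem (N.inv_mem m'.2) m.2) h2 with h | h
          · exact absurd h hc1
          · apply Subtype.ext
            have e : (m : G) = m' * ((m' : G)⁻¹ * m) := by group
            rw [e, h, mul_one]
        obtain ⟨m, hm⟩ := (Finite.injective_iff_surjective.mp hinj) ⟨n, hn⟩
        have hm' : (m : G) * (c * m * c⁻¹)⁻¹ = n := congrArg Subtype.val hm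
        apply hx (m : G)
        rw [mem_conj_smul_iff, ← hm']
        have e : (m : G)⁻¹ * ((m : G) * (c * m * c⁻¹)⁻¹ * c) * m = c := by group
        rw [e]; exact hcC
    · intro hxN
      by_cases hx1 : x = 1
      · exact Or.inl hx1
      · right
        intro g hg
        rw [mem_conj_smul_iff] at hg
        apply hx1
        have h1 : g⁻¹ * x * g ∈ N := by
          have := hNn.conj_mem x hxN g⁻¹
          simpa using this
        have h2 := hdisj _ h1 hg
        calc x = g * (g⁻¹ * x * g) * g⁻¹ := by group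
          _ = 1 := by rw [h2]; group

/-- A proper nontrivial normal Hall `A`-subgroup of a group with `NoMix A` is a Frobenius kernel. -/
theorem frobenius_of_hall {A : Set ℕ} {G : Type*} [Group G] [Finite G] (hA : NoMix A G)
    (N : Subgroup G) [N.Normal] (hN : N ≠ ⊥) (hN' : N ≠ ⊤)
    (hNA : PiNum A (Nat.card N)) (hI : PiNum Aᶜ N.index) :
    ∃ C : Subgroup G, Cfsg.IsFrobeniusComplement C ∧ Cfsg.frobeniusKernel C = (N : Set G) := by
  have hcop : (Nat.card N).Coprime N.index := hNA.coprime hI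
  obtain ⟨C, hC⟩ := Subgroup.exists_right_complement'_of_coprime hcop
  have hCcard : Nat.card C = N.index := card_eq_index_of_isComplement' hC
  refine ⟨C, frobenius_of_complement N C hC hN ?_ ?_⟩
  · intro hbot
    rw [hbot, Subgroup.card_bot] at hCcard
    exact hN' (Subgroup.index_eq_one.mp hCcard.symm)
  · intro c hc n hn hcomm
    have hcomm' : Commute n c := hcomm.symm
    rcases hA.eq_one_or hcomm' (fun p hp hd => hNA p hp (hd.trans (N.orderOf_dvd_natCard hn)))
      (fun p hp hd => hI p hp (hd.trans (hCcard ▸ C.orderOf_dvd_natCard hc))) with h | h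
    · exact Or.inr h
    · exact Or.inl h

theorem card_map_of_forall_eq_one {G Q : Type*} [Group G] [Group Q] (f : G →* Q) (S : Subgroup G)
    (h : ∀ x ∈ S, f x = 1 → x = 1) : Nat.card (S.map f) = Nat.card S := by
  have hinj : Function.Injective (f.subgroupMap S) := by
    rw [injective_iff_map_eq_one]
    intro x hx
    exact Subtype.ext (h x x.2 (congrArg Subtype.val hx))
  exact (Nat.card_congr (Equiv.ofBijective _ ⟨hinj, f.subgroupMap_surjective S⟩)).symm

/-- If `X` has `NoMix A`, `f : X → Y` is onto with nontrivial kernel an `A`-group, and `Y` is a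
nilpotent `A'`-group, then `Y` has at most one subgroup of each prime order. -/
theorem unique_prime_subgroup_of_noMix {A : Set ℕ} {X Y : Type*} [Group X] [Finite X] [Group Y]
    (hA : NoMix A X) (f : X →* Y) (hf : Function.Surjective f) (hker : f.ker ≠ ⊥)
    (hkerA : PiNum A (Nat.card f.ker)) (hY : PiNum Aᶜ (Nat.card Y))
    (hnil : Group.IsNilpotent Y) (p : ℕ) (hp : p.Prime)
    (S T : Subgroup Y) (hS : Nat.card S = p) (hT : Nat.card T = p) : S = T := by
  have : Finite Y := Finite.of_surjective f hf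
  haveI : Fact p.Prime := ⟨hp⟩
  have hpY : p ∣ Nat.card Y := hS ▸ Subgroup.card_subgroup_dvd_card S
  have hpA : p ∉ A := hY p hp hpY
  let P : Sylow p X := default
  have hPelem : ∀ h ∈ (P : Subgroup X), ∀ q : ℕ, q.Prime → q ∣ orderOf h → q ∉ A := by
    intro h hh q hq hqd
    obtain ⟨n, hn⟩ := IsPGroup.iff_card.mp P.isPGroup'
    have h1 : q ∣ p ^ n := hn ▸ hqd.trans ((P : Subgroup X).orderOf_dvd_natCard hh)
    rw [(Nat.prime_dvd_prime_iff_eq hq hp).mp (hq.dvd_of_dvd_pow h1)]
    exact hpA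
  have hkerelem : ∀ n ∈ f.ker, ∀ q : ℕ, q.Prime → q ∣ orderOf n → q ∈ A :=
    fun n hn q hq hqd => hkerA q hq (hqd.trans (f.ker.orderOf_dvd_natCard hn))
  have hPker : ∀ x ∈ (P : Subgroup X), f x = 1 → x = 1 := by
    intro x hx hfx
    have hxk : x ∈ f.ker := MonoidHom.mem_ker.mpr hfx
    rcases hA.eq_one_or (Commute.refl x) (hkerelem x hxk) (hPelem x hx) with h | h <;> exact h
  let Pb : Sylow p Y := Sylow.mapSurjective hf P
  have hPb : (Pb : Subgroup Y) = (P : Subgroup X).map f := Sylow.coe_mapSurjective hf P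
  have h03 : Group.IsNilpotent Y ↔
      ∀ (p : ℕ) (_hp : Fact p.Prime) (P : Sylow p Y), (↑P : Subgroup Y).Normal :=
    (Group.isNilpotent_of_finite_tfae (G := Y)).out 0 3
  have hPbn : (Pb : Subgroup Y).Normal := h03.mp hnil p inferInstance Pb
  have hle : ∀ S : Subgroup Y, Nat.card S = p → S ≤ (P : Subgroup X).map f := by
    intro S hS
    have hSp : IsPGroup p S := IsPGroup.of_card (n := 1) (by rw [hS, pow_one])
    obtain ⟨Q, hQ⟩ := hSp.exists_le_sylow
    haveI := Sylow.unique_of_normal Pb hPbn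
    have : Q = Pb := Subsingleton.elim _ _
    rw [← hPb, ← this]; exact hQ
  have hlift : ∀ S : Subgroup Y, Nat.card S = p →
      (((P : Subgroup X) ⊓ S.comap f).map f = S ∧ Nat.card ((P : Subgroup X) ⊓ S.comap f : Subgroup X) = p) := by
    intro S hS
    have h1 : ((P : Subgroup X) ⊓ S.comap f).map f = S := by
      apply le_antisymm
      · rintro _ ⟨x, hx, rfl⟩
        exact hx.2
      · intro y hy
        obtain ⟨x, hx, rfl⟩ := hle S hS hy
        exact ⟨x, ⟨hx, hy⟩, rfl⟩
    refine ⟨h1, ?_⟩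
    rw [← card_map_of_forall_eq_one f _
      (fun x (hx : x ∈ (P : Subgroup X) ⊓ S.comap f) hfx => hPker x hx.1 hfx), h1, hS]
  obtain ⟨hS1, hS2⟩ := hlift S hS
  obtain ⟨hT1, hT2⟩ := hlift T hT
  have heq : ((P : Subgroup X) ⊓ S.comap f) = ((P : Subgroup X) ⊓ T.comap f) := by
    apply fpf_eq_of_card_prime f.ker (P : Subgroup X) hker
      (by rw [Subgroup.normalizer_eq_top]; exact le_top) ?_ p P.isPGroup' _ _ inf_le_left inf_le_left
      hS2 hT2
    intro h hh hh1
    rw [eq_bot_iff]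
    rintro n ⟨hn1, hn2⟩
    have hn1' : n ∈ f.ker := hn1
    have hn2' : n ∈ Subgroup.centralizer ({h} : Set X) := hn2
    have hcomm : Commute n h := (Subgroup.mem_centralizer_iff.mp hn2' h rfl).symm
    rcases hA.eq_one_or hcomm (hkerelem n hn1') (hPelem h hh) with e | e
    · exact Subgroup.mem_bot.mpr e
    · exact absurd e hh1
  rw [← hS1, ← hT1, heq]

/-- A finite nilpotent group of odd order with at most one subgroup of each prime order is
cyclic. -/
theorem isCyclic_of_nilpotent_of_unique {Y : Type*} [Group Y] [Finite Y]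
    (hnil : Group.IsNilpotent Y) (hodd : Odd (Nat.card Y))
    (hU : ∀ p : ℕ, p.Prime → ∀ S T : Subgroup Y, Nat.card S = p → Nat.card T = p → S = T) :
    IsCyclic Y := by
  have hsyl : ∀ (p : ℕ) [Fact p.Prime] (P : Sylow p Y), IsCyclic P := by
    intro p _ P
    have hp : p.Prime := Fact.out
    obtain ⟨n, hn⟩ := IsPGroup.iff_card.mp P.isPGroup'
    by_cases hp2 : p = 2
    · have h1 : Nat.card P ∣ Nat.card Y := Subgroup.card_subgroup_dvd_card _
      have hn0 : n = 0 := by
        by_contra hn0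
        have h2 : 2 ∣ Nat.card Y := by
          refine Dvd.dvd.trans ?_ h1
          rw [hn, hp2]; exact dvd_pow_self 2 hn0
        exact (Nat.not_even_iff_odd.mpr hodd) (even_iff_two_dvd.mpr h2)
      rw [hn0, pow_zero] at hn
      haveI : Subsingleton P := (Nat.card_eq_one_iff_unique.mp hn).1
      infer_instance
    · exact Cfsg.Agent.Helper29.isCyclic_of_unique_subgroup_odd hp2 n hn
        (Cfsg.Agent.Helper29.unique_order_p_subgroup (hU p hp) (P : Subgroup Y))
  have hcomm : ∀ x y : Y, x * y = y * x := by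
    have h04 : Group.IsNilpotent Y ↔ Nonempty
        ((∀ p : (Nat.card Y).primeFactors, ∀ P : Sylow p Y, (↑P : Subgroup Y)) ≃* Y) :=
      (Group.isNilpotent_of_finite_tfae (G := Y)).out 0 4
    obtain ⟨e⟩ := h04.mp hnil
    intro x y
    have h1 : e.symm x * e.symm y = e.symm y * e.symm x := by
      funext p
      funext P
      haveI : Fact (p : ℕ).Prime := ⟨Nat.prime_of_mem_primeFactors p.2⟩
      haveI := hsyl p P
      haveI : IsMulCommutative (P : Subgroup Y) := IsCyclic.isMulCommutative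
      exact mul_comm' (e.symm x p P) (e.symm y p P)
    have h2 := congrArg e h1
    simpa using h2
  have hdvd : Nat.card Y ∣ Monoid.exponent Y := by
    have hexp0 : Monoid.exponent Y ≠ 0 := Monoid.exponent_ne_zero_of_finite
    rw [← Nat.factorization_prime_le_iff_dvd Nat.card_pos.ne' hexp0]
    intro p hp
    haveI : Fact p.Prime := ⟨hp⟩
    rw [← hp.pow_dvd_iff_le_factorization hexp0]
    let P : Sylow p Y := default
    haveI := hsyl p P
    obtain ⟨g, hg⟩ := IsCyclic.exists_generator (α := P)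
    have h1 : orderOf g = Nat.card P := orderOf_eq_card_of_forall_mem_zpowers hg
    rw [← P.card_eq_multiplicity, ← h1, ← Subgroup.orderOf_coe]
    exact Monoid.order_dvd_exponent (g : Y)
  letI : CommGroup Y := { (inferInstance : Group Y) with mul_comm := hcomm }
  exact IsCyclic.of_exponent_eq_card (Nat.dvd_antisymm Group.exponent_dvd_nat_card hdvd)

/-- Core of the solvable Gruenberg-Kegel theorem: if `Kb` is the largest normal `A'`-subgroup of
the solvable group `X` with `NoMix A`, and `Kb` has at most one subgroup of each prime order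
as soon as it is nilpotent, then `X / Kb` is an `A`-group. -/
theorem index_piNum_of_core {A : Set ℕ} {X : Type u} [Group X] [Finite X] [Group.IsSolvable X]
    (hA : NoMix A X) (Kb : Subgroup X) [hKbn : Kb.Normal] (hKb : Kb ≠ ⊥)
    (hKbA : PiNum Aᶜ (Nat.card Kb))
    (hmax : ∀ N : Subgroup X, N.Normal → PiNum Aᶜ (Nat.card N) → N ≤ Kb)
    (hU : Group.IsNilpotent Kb → ∀ p : ℕ, p.Prime → ∀ S T : Subgroup Kb,
      Nat.card S = p → Nat.card T = p → S = T) :
    PiNum A Kb.index := by
  by_cases htop : Kb = ⊤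
  · rw [htop, Subgroup.index_top]; exact piNum_one A
  have hnoB : ∀ N : Subgroup (X ⧸ Kb), N.Normal → PiNum Aᶜ (Nat.card N) → N = ⊥ :=
    fun N hN hNπ => eq_bot_of_normal_pi_quot Kb hKbA hmax N hN hNπ
  have hnt : Nontrivial (X ⧸ Kb) := by
    rw [← Finite.one_lt_card_iff_nontrivial, ← Subgroup.index_eq_card]
    exact Subgroup.one_lt_index_of_ne_top htop
  obtain ⟨N₁, hN₁n, hN₁, hN₁π⟩ := exists_normal_pi_or A (X ⧸ Kb)
  have hN₁A : PiNum A (Nat.card N₁) := by
    rcases hN₁π with h | h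
    · exact h
    · exact absurd (hnoB N₁ hN₁n h) hN₁
  have hN₁card : Nat.card N₁ ≠ 1 := fun h => hN₁ (Subgroup.card_eq_one.mp h)
  obtain ⟨a, hap, had⟩ := Nat.exists_prime_and_dvd hN₁card
  have haA : a ∈ A := hN₁A a hap had
  have haX : a ∣ Nat.card X := by
    have h1 : Nat.card N₁ ∣ Nat.card (X ⧸ Kb) := Subgroup.card_subgroup_dvd_card N₁
    have h2 : Nat.card (X ⧸ Kb) ∣ Nat.card X := ⟨Nat.card Kb, (card_quotient_mul_card Kb).symm⟩
    exact had.trans (h1.trans h2)
  haveI : Fact a.Prime := ⟨hap⟩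
  obtain ⟨d, hd⟩ := exists_prime_orderOf_dvd_card' a haX
  have hKelem : ∀ n ∈ Kb, ∀ p : ℕ, p.Prime → p ∣ orderOf n → p ∉ A := fun n hn p hp hpd =>
    hKbA p hp (hpd.trans (Subgroup.orderOf_dvd_natCard Kb hn))
  have hdelem : ∀ p : ℕ, p.Prime → p ∣ orderOf d → p ∈ A := by
    intro p hp hpd
    rw [hd] at hpd
    rw [(Nat.prime_dvd_prime_iff_eq hp hap).mp hpd]; exact haA
  have hd1 : d ≠ 1 := by
    rintro rfl
    rw [orderOf_one] at hd
    exact hap.ne_one hd.symm
  -- the fixed-point-free automorphism induced by `d`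
  let φ : Kb →* Kb := (MulAut.conjNormal d : MulAut Kb).toMonoidHom
  have hφ : ∀ n : Kb, ((φ n : Kb) : X) = d * n * d⁻¹ := fun n => MulAut.conjNormal_apply d n
  have hfpf : ∀ n : Kb, φ n = n → n = 1 := by
    intro n hn
    have hcomm : Commute d (n : X) := by
      have h1 : d * (n : X) * d⁻¹ = n := by rw [← hφ, hn]
      show d * (n : X) = (n : X) * d
      calc d * (n : X) = (d * (n : X) * d⁻¹) * d := by group
        _ = (n : X) * d := by rw [h1]
    rcases hA.eq_one_or hcomm hdelem (hKelem n n.2) with h | h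
    · exact absurd h hd1
    · exact Subtype.ext h
  have hiter : ∀ (k : ℕ) (n : Kb), (((⇑φ)^[k] n : Kb) : X) = d ^ k * n * (d ^ k)⁻¹ := by
    intro k
    induction k with
    | zero => intro n; simp
    | succ k ih =>
      intro n
      rw [Function.iterate_succ_apply', hφ, ih, pow_succ']
      group
  have hFP : Cfsg.Agent.Helper19.FP a φ := by
    refine ⟨hfpf, fun n => Subtype.ext ?_⟩
    rw [hiter, ← hd, pow_orderOf_eq_one]
    simp
  have hnil : Group.IsNilpotent Kb := Cfsg.Agent.Helper19.thompson_thesis hap φ hFP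
  have hU' := hU hnil
  -- `Kb` has odd order
  have hodd : Odd (Nat.card Kb) := by
    rw [← Nat.not_even_iff_odd]
    intro heven
    have h2 : 2 ∣ Nat.card Kb := even_iff_two_dvd.mp heven
    haveI : Fact (Nat.Prime 2) := ⟨Nat.prime_two⟩
    obtain ⟨z, hz⟩ := exists_prime_orderOf_dvd_card' 2 h2
    have hφinj : Function.Injective φ := (MulAut.conjNormal d : MulAut Kb).injective
    have hz' : orderOf (φ z) = 2 := by rw [orderOf_injective φ hφinj z, hz]
    have h3 : Subgroup.zpowers z = Subgroup.zpowers (φ z) :=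
      hU' 2 Nat.prime_two _ _ (by rw [Nat.card_zpowers, hz]) (by rw [Nat.card_zpowers, hz'])
    have h4 : φ z ∈ Subgroup.zpowers z := by rw [h3]; exact Subgroup.mem_zpowers _
    have hz2 : z ^ 2 = 1 := by rw [← hz]; exact pow_orderOf_eq_one z
    obtain ⟨k, hk⟩ := Subgroup.mem_zpowers_iff.mp h4
    have h5 : φ z = z := by
      rcases Int.emod_two_eq_zero_or_one k with h | h
      · exfalso
        have e : z ^ k = 1 := by
          obtain ⟨m, rfl⟩ : ∃ m, k = 2 * m := ⟨k / 2, by omega⟩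
          rw [zpow_mul, zpow_ofNat, hz2, one_zpow]
        rw [e] at hk
        rw [← hk, orderOf_one] at hz'
        exact absurd hz' (by norm_num)
      · have e : z ^ k = z := by
          obtain ⟨m, rfl⟩ : ∃ m, k = 2 * m + 1 := ⟨k / 2, by omega⟩
          rw [zpow_add, zpow_mul, zpow_ofNat, hz2, one_zpow, one_mul, zpow_one]
        rw [← hk, e]
    have h6 := hfpf z h5
    rw [h6, orderOf_one] at hz
    exact absurd hz (by norm_num)
  haveI hcyc : IsCyclic Kb := isCyclic_of_nilpotent_of_unique hnil hodd hU'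
  -- conjugations of `Kb` commute
  have hcent : ∀ x y : X, ∀ n ∈ Kb, x * y * n * y⁻¹ * x⁻¹ = y * x * n * x⁻¹ * y⁻¹ := by
    intro x y n hn
    obtain ⟨m, hm⟩ := MonoidHom.map_cyclic ((MulAut.conjNormal x : MulAut Kb).toMonoidHom)
    obtain ⟨k, hk⟩ := MonoidHom.map_cyclic ((MulAut.conjNormal y : MulAut Kb).toMonoidHom)
    have hx : ∀ n : Kb, x * (n : X) * x⁻¹ = ((n ^ m : Kb) : X) := by
      intro n; rw [← hm n]; exact (MulAut.conjNormal_apply x n).symm
    have hy : ∀ n : Kb, y * (n : X) * y⁻¹ = ((n ^ k : Kb) : X) := by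
      intro n; rw [← hk n]; exact (MulAut.conjNormal_apply y n).symm
    have e1 : x * y * n * y⁻¹ * x⁻¹ = x * (y * n * y⁻¹) * x⁻¹ := by group
    have e2 : y * x * n * x⁻¹ * y⁻¹ = y * (x * n * x⁻¹) * y⁻¹ := by group
    rw [e1, e2, hy ⟨n, hn⟩, hx ⟨n, hn⟩, hx, hy]
    congr 1
    rw [← zpow_mul, ← zpow_mul, mul_comm]
  -- the centraliser of `Kb` is an `A'`-group
  have hZπ : PiNum Aᶜ (Nat.card (Subgroup.centralizer (Kb : Set X))) := by
    intro p hp hpd hpA
    haveI : Fact p.Prime := ⟨hp⟩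
    obtain ⟨z, hz⟩ := exists_prime_orderOf_dvd_card' p hpd
    obtain ⟨n, hn, hn1⟩ : ∃ n ∈ Kb, n ≠ 1 := by
      by_contra hcon
      push Not at hcon
      exact hKb (eq_bot_iff.mpr fun n hn => Subgroup.mem_bot.mpr (hcon n hn))
    have hcomm : Commute (z : X) n := (Subgroup.mem_centralizer_iff.mp z.2 n hn).symm
    have hzelem : ∀ q : ℕ, q.Prime → q ∣ orderOf (z : X) → q ∈ A := by
      intro q hq hqd
      rw [Subgroup.orderOf_coe, hz] at hqd
      rw [(Nat.prime_dvd_prime_iff_eq hq hp).mp hqd]; exact hpA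
    rcases hA.eq_one_or hcomm hzelem (hKelem n hn) with h | h
    · rw [← Subgroup.orderOf_coe, h, orderOf_one] at hz
      exact hp.ne_one hz.symm
    · exact hn1 h
  have hZle : Subgroup.centralizer (Kb : Set X) ≤ Kb := hmax _ Subgroup.normal_centralizer hZπ
  have hcommQ : ∀ u v : X ⧸ Kb, u * v = v * u := by
    intro u v
    induction u using QuotientGroup.induction_on with
    | H x =>
    induction v using QuotientGroup.induction_on with
    | H y =>
    rw [← QuotientGroup.mk_mul, ← QuotientGroup.mk_mul, QuotientGroup.eq]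
    apply hZle
    rw [Subgroup.mem_centralizer_iff]
    intro n hn
    have h1 := hcent x y n hn
    calc n * ((x * y)⁻¹ * (y * x))
        = (x * y)⁻¹ * ((x * y * n * y⁻¹ * x⁻¹) * (y * x)) := by group
      _ = (x * y)⁻¹ * ((y * x * n * x⁻¹ * y⁻¹) * (y * x)) := by rw [h1]
      _ = (x * y)⁻¹ * (y * x) * n := by group
  intro p hp hpd
  by_contra hpA
  haveI : Fact p.Prime := ⟨hp⟩
  let P : Sylow p (X ⧸ Kb) := default
  have hPn : (P : Subgroup (X ⧸ Kb)).Normal := ⟨fun n hn g => by
    have e : g * n * g⁻¹ = n := by rw [hcommQ g n, mul_inv_cancel_right]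
    rw [e]; exact hn⟩
  have hPπ : PiNum Aᶜ (Nat.card (P : Subgroup (X ⧸ Kb))) := by
    obtain ⟨n, hn⟩ := IsPGroup.iff_card.mp P.isPGroup'
    rw [hn]
    exact piNum_prime_pow hp hpA n
  have hbot := hnoB P hPn hPπ
  exact P.ne_bot_of_dvd_card (by rwa [← Subgroup.index_eq_card]) hbot

/-- **Gruenberg-Kegel, solvable case** (one orientation): a finite solvable group with `NoMix A`,
a nontrivial normal `A`-subgroup and order divisible by a prime outside `A`, is a Frobenius group
or a 2-Frobenius group. -/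
theorem frobenius_or_two_frobenius_aux {G : Type u} [Group G] [Finite G] [Group.IsSolvable G]
    (A : Set ℕ) (hA : NoMix A G)
    (N₀ : Subgroup G) (hN₀n : N₀.Normal) (hN₀ : N₀ ≠ ⊥) (hN₀A : PiNum A (Nat.card N₀))
    (hb : ∃ b ∉ A, b.Prime ∧ b ∣ Nat.card G) :
    (∃ C : Subgroup G, Cfsg.IsFrobeniusComplement C) ∨
    (∃ (H K : Subgroup G) (_ : H.Normal), K.Normal ∧ H < K ∧
      (∃ C : Subgroup ↥K, Cfsg.IsFrobeniusComplement C ∧
        Cfsg.frobeniusKernel C = (H.subgroupOf K : Set ↥K)) ∧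
      (∃ C : Subgroup (G ⧸ H), Cfsg.IsFrobeniusComplement C ∧
        Cfsg.frobeniusKernel C = (K.map (QuotientGroup.mk' H) : Set (G ⧸ H)))) := by
  obtain ⟨M, hMn, hMA, hMmax⟩ := exists_max_normal_pi A G
  haveI := hMn
  have hM1 : M ≠ ⊥ := fun h => hN₀ (eq_bot_iff.mpr (h ▸ hMmax N₀ hN₀n hN₀A))
  obtain ⟨b, hbA, hbp, hbd⟩ := hb
  have hMtop : M ≠ ⊤ := by
    intro h
    have h1 : b ∣ Nat.card M := by rw [h, Subgroup.card_top]; exact hbd
    exact hbA (hMA b hbp h1)
  have hAq : NoMix A (G ⧸ M) :=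
    hA.of_surjective (QuotientGroup.mk' M) (QuotientGroup.mk'_surjective M)
  have hnoA : ∀ N : Subgroup (G ⧸ M), N.Normal → PiNum A (Nat.card N) → N = ⊥ :=
    fun N hN hNπ => eq_bot_of_normal_pi_quot M hMA hMmax N hN hNπ
  have hnt : Nontrivial (G ⧸ M) := by
    rw [← Finite.one_lt_card_iff_nontrivial, ← Subgroup.index_eq_card]
    exact Subgroup.one_lt_index_of_ne_top hMtop
  obtain ⟨Kb, hKbn, hKbB, hKbmax⟩ := exists_max_normal_pi Aᶜ (G ⧸ M)
  haveI := hKbn
  have hKb1 : Kb ≠ ⊥ := by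
    obtain ⟨N₁, hN₁n, hN₁, hN₁π⟩ := exists_normal_pi_or A (G ⧸ M)
    rcases hN₁π with h | h
    · exact absurd (hnoA N₁ hN₁n h) hN₁
    · intro hbot
      exact hN₁ (eq_bot_iff.mpr (hbot ▸ hKbmax N₁ hN₁n h))
  set K : Subgroup G := Kb.comap (QuotientGroup.mk' M) with hKdef
  have hKn : K.Normal := hKbn.comap _
  have hKmap : K.map (QuotientGroup.mk' M) = Kb :=
    Subgroup.map_comap_eq_self_of_surjective (QuotientGroup.mk'_surjective M) Kb
  have hMK : M ≤ K := by
    intro x hx
    show (QuotientGroup.mk' M x) ∈ Kb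
    have e : QuotientGroup.mk' M x = 1 := (QuotientGroup.eq_one_iff x).mpr hx
    rw [e]; exact Kb.one_mem
  have hKcard : Nat.card K = Nat.card Kb * Nat.card M := card_comap_mk' M Kb
  have hNcard : Nat.card (M.subgroupOf K) = Nat.card M := card_subgroupOf_of_le hMK
  have hNidx : (M.subgroupOf K).index = Nat.card Kb := by
    have h1 := Subgroup.card_mul_index (M.subgroupOf K)
    rw [hNcard, hKcard, mul_comm] at h1
    exact Nat.eq_of_mul_eq_mul_right Nat.card_pos h1
  have hNbot : M.subgroupOf K ≠ ⊥ := by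
    intro h
    rw [← Subgroup.card_eq_one, hNcard, Subgroup.card_eq_one] at h
    exact hM1 h
  -- the map `K → Kb`
  let f : K →* Kb := ((QuotientGroup.mk' M).comp K.subtype).codRestrict Kb (fun x => x.2)
  have hf : Function.Surjective f := by
    rintro ⟨y, hy⟩
    obtain ⟨g, rfl⟩ := QuotientGroup.mk'_surjective M y
    exact ⟨⟨g, hy⟩, rfl⟩
  have hfker : f.ker = M.subgroupOf K := by
    ext x
    rw [MonoidHom.mem_ker, Subgroup.mem_subgroupOf]
    constructor
    · intro h
      have h1 : QuotientGroup.mk' M (x : G) = 1 := congrArg Subtype.val h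
      exact (QuotientGroup.eq_one_iff _).mp h1
    · intro h
      apply Subtype.ext
      exact (QuotientGroup.eq_one_iff _).mpr h
  have hU : Group.IsNilpotent Kb → ∀ p : ℕ, p.Prime → ∀ S T : Subgroup Kb,
      Nat.card S = p → Nat.card T = p → S = T := by
    intro hnil p hp S T hS hT
    exact unique_prime_subgroup_of_noMix (hA.subgroup K) f hf (hfker ▸ hNbot)
      (by rw [hfker, hNcard]; exact hMA) hKbB hnil p hp S T hS hT
  have hcore : PiNum A Kb.index := index_piNum_of_core hAq Kb hKb1 hKbB hKbmax hU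
  by_cases hKbtop : Kb = ⊤
  · -- Frobenius
    left
    have hI : PiNum Aᶜ M.index := by
      rw [Subgroup.index_eq_card, ← Subgroup.card_top (G := G ⧸ M), ← hKbtop]
      exact hKbB
    obtain ⟨C, hC, -⟩ := frobenius_of_hall hA M hM1 hMtop hMA hI
    exact ⟨C, hC⟩
  · right
    have hlt : M < K := by
      refine lt_of_le_of_ne hMK (fun e => hKb1 ?_)
      rw [← hKmap, ← e]
      exact QuotientGroup.map_mk'_self M
    refine ⟨M, K, hMn, hKn, hlt, ?_, ?_⟩
    · have hNtop : M.subgroupOf K ≠ ⊤ := by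
        intro h
        exact hlt.ne (le_antisymm hMK (Subgroup.subgroupOf_eq_top.mp h))
      haveI : (M.subgroupOf K).Normal := inferInstance
      exact frobenius_of_hall (hA.subgroup K) (M.subgroupOf K) hNbot hNtop
        (by rw [hNcard]; exact hMA) (by rw [hNidx]; exact hKbB)
    · rw [hKmap]
      exact frobenius_of_hall hAq.compl Kb hKb1 hKbtop hKbB (by rw [compl_compl]; exact hcore)

end Cfsg.Agent.Helper1
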