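import Mathlib
import Cfsg.Agent.Helper44.SPCDefs
import Cfsg.Agent.Helper14.Forms2

/-!
helper1: CALL S2676 (helper44), piece SYMCLS (double): invertible symmetric matrices over a finite
field of odd characteristic form two congruence classes in every positive dimension.
-/

set_option autoImplicit false

namespace Cfsg.Agent.Helper1.SPCSYMCLS

open Matrix Cfsg.Agent.Helper21.JCent Cfsg.Agent.Helper44.UC Cfsg.Agent.Helper44.SPC

section aux

variable {F : Type*} [Field F] {κ : Type*} [Fintype κ] [DecidableEq κ]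

theorem congm_trans {A B C g h : Matrix κ κ F} (h1 : B = gᵀ * A * g) (h2 : C = hᵀ * B * h) :
    C = (g * h)ᵀ * A * (g * h) := by
  rw [h2, h1, Matrix.transpose_mul]; simp only [Matrix.mul_assoc]

theorem congm_symm {A B g : Matrix κ κ F} (hg : IsUnit g.det) (h1 : B = gᵀ * A * g) :
    A = (g⁻¹)ᵀ * B * g⁻¹ := by
  rw [h1]
  have h3 : g * g⁻¹ = 1 := Matrix.mul_nonsing_inv g hg
  have h4 : (g⁻¹)ᵀ * gᵀ = 1 := by rw [← Matrix.transpose_mul, h3, Matrix.transpose_one]
  calc A = 1 * A * 1 := by simp
    _ = ((g⁻¹)ᵀ * gᵀ) * A * (g * g⁻¹) := by rw [h3, h4]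
    _ = (g⁻¹)ᵀ * (gᵀ * A * g) * g⁻¹ := by simp only [Matrix.mul_assoc]

theorem conj_apply (S G : Matrix κ κ F) (j j' : κ) :
    (Sᵀ * G * S) j j' = (fun i => S i j) ⬝ᵥ G *ᵥ (fun i => S i j') := by
  rw [Matrix.dotProduct_mulVec]
  simp [Matrix.mul_apply, dotProduct, Matrix.vecMul]

theorem sq_iff {a b s : F} (hs : s ≠ 0) (h : b = s * a * s) : IsSquare b ↔ IsSquare a := by
  constructor
  · rintro ⟨r, hr⟩
    refine ⟨r / s, ?_⟩
    rw [div_mul_div_comm, ← hr, h]
    field_simp
  · rintro ⟨r, hr⟩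
    exact ⟨r * s, by rw [h, hr]; ring⟩

theorem sq_ratio [Fintype F] (hF : ringChar F ≠ 2) {a a' : F} (ha : a ≠ 0) (ha' : a' ≠ 0)
    (h : IsSquare a ↔ IsSquare a') : ∃ s : F, s ≠ 0 ∧ a' = s ^ 2 * a := by
  have hq : IsSquare (a' / a) := by
    rw [FiniteField.isSquare_iff hF (div_ne_zero ha' ha), div_pow]
    by_cases hsq : IsSquare a
    · rw [(FiniteField.isSquare_iff hF ha).mp hsq, (FiniteField.isSquare_iff hF ha').mp (h.mp hsq),
        div_one]
    · have h1 : a ^ (Fintype.card F / 2) = -1 := by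
        rcases FiniteField.pow_dichotomy hF ha with h1 | h1
        · exact absurd ((FiniteField.isSquare_iff hF ha).mpr h1) hsq
        · exact h1
      have h1' : a' ^ (Fintype.card F / 2) = -1 := by
        rcases FiniteField.pow_dichotomy hF ha' with h1 | h1
        · exact absurd (h.mpr ((FiniteField.isSquare_iff hF ha').mpr h1)) hsq
        · exact h1
      rw [h1, h1', div_self (neg_ne_zero.mpr one_ne_zero)]
  obtain ⟨s, hs⟩ := hq
  refine ⟨s, ?_, ?_⟩
  · rintro rfl
    rw [mul_zero] at hs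
    exact div_ne_zero ha' ha hs
  · rw [(div_eq_iff ha).mp hs]; ring

/-- Normal form: congruent to `diag(1, …, 1, a)` (the entry `a` at `k₀`). -/
theorem normal_form [Fintype F] (h2 : (2 : F) ≠ 0) (k₀ : κ) (β : Matrix κ κ F) (hs : βᵀ = β)
    (hu : IsUnit β.det) :
    ∃ (g : Matrix κ κ F) (a : F), IsUnit g.det ∧ a ≠ 0 ∧
      gᵀ * β * g = Matrix.diagonal (fun k => if k = k₀ then a else 1) := by
  classical
  obtain ⟨d, hd⟩ : ∃ d : ℕ, Fintype.card κ = d + 1 :=
    ⟨Fintype.card κ - 1, by have := Fintype.card_pos_iff.mpr ⟨k₀⟩; omega⟩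
  let σ₀ : κ ≃ Fin (d + 1) := Fintype.equivFinOfCardEq hd
  let σ : κ ≃ Fin (d + 1) := σ₀.trans (Equiv.swap (σ₀ k₀) (Fin.last d))
  have hσ0 : σ k₀ = Fin.last d := by simp [σ]
  set B : LinearMap.BilinForm F (κ → F) := Matrix.toBilin' β with hB
  have hBf : ∀ x y, B x y = x ⬝ᵥ β *ᵥ y := fun x y => Matrix.toBilin'_apply' β x y
  have hnd : B.Nondegenerate :=
    LinearMap.BilinForm.nondegenerate_toBilin'_of_det_ne_zero' β hu.ne_zero
  have hsym : B.IsSymm := by
    refine ⟨fun x y => ?_⟩
    try simp only [RingHom.id_apply]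
    rw [hBf, hBf, Matrix.dotProduct_mulVec, ← Matrix.mulVec_transpose, hs, dotProduct_comm]
  have hfin : Module.finrank F (κ → F) = d + 1 := by
    rw [Module.finrank_fintype_fun_eq_card, hd]
  obtain ⟨e, ho, h1, hl⟩ :=
    Cfsg.Agent.Helper14.exists_normal_basis h2 d (κ → F) B hnd hsym hfin
  let g : Matrix κ κ F := Matrix.of fun j k => e (σ k) j
  have hgB : ∀ k k', (gᵀ * β * g) k k' = B (e (σ k)) (e (σ k')) := by
    intro k k'
    rw [hBf, conj_apply]
    rfl
  have hdiag : gᵀ * β * g = Matrix.diagonal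
      (fun k => if k = k₀ then B (e (Fin.last d)) (e (Fin.last d)) else 1) := by
    ext k k'
    rw [hgB, Matrix.diagonal_apply]
    by_cases hkk : k = k'
    · subst hkk
      rw [if_pos rfl]
      by_cases hk : k = k₀
      · rw [if_pos hk, hk, hσ0]
      · rw [if_neg hk]
        exact h1 _ (fun h => hk (σ.injective (h.trans hσ0.symm)))
    · rw [if_neg hkk]
      exact ho _ _ (fun h => hkk (σ.injective h))
  refine ⟨g, B (e (Fin.last d)) (e (Fin.last d)), ?_, hl, hdiag⟩
  have hdet := congrArg Matrix.det hdiag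
  rw [Matrix.det_mul, Matrix.det_mul, Matrix.det_transpose, Matrix.det_diagonal] at hdet
  have hne : (∏ k, if k = k₀ then B (e (Fin.last d)) (e (Fin.last d)) else (1 : F)) ≠ 0 := by
    rw [Finset.prod_ne_zero_iff]
    intro k _
    split_ifs
    · exact hl
    · exact one_ne_zero
  rw [← hdet] at hne
  exact isUnit_iff_ne_zero.mpr (fun h0 => hne (by rw [h0]; ring))

end aux

/-- SYMCLS: invertible symmetric matrices over a finite field of odd characteristic: two
congruence classes (discriminant) in every positive dimension. -/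
theorem spc_symcls {F : Type*} [Field F] [Fintype F] (h2 : (2 : F) ≠ 0) {κ : Type*} [Fintype κ]
    [DecidableEq κ] (i : ℕ) (hi : Even i) :
    Nat.card (Quot (congRel (F := F) (ι := κ) i)) = if Fintype.card κ = 0 then 1 else 2 := by
  classical
  have hsymT : ∀ β : Matrix κ κ F, IsSymT i β ↔ IsUnit β.det ∧ βᵀ = β := by
    intro β; unfold IsSymT; rw [hi.neg_one_pow, one_smul]
  by_cases hκ : Fintype.card κ = 0
  · rw [if_pos hκ]
    have : IsEmpty κ := Fintype.card_eq_zero_iff.mp hκ
    rw [Nat.card_eq_one_iff_unique]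
    refine ⟨⟨?_⟩, ⟨Quot.mk _ ⟨1, (hsymT 1).mpr ⟨by simp, Matrix.transpose_one⟩⟩⟩⟩
    intro a b
    induction a using Quot.ind with
    | _ a =>
      induction b using Quot.ind with
      | _ b =>
        congr 1
        exact Subtype.ext (Subsingleton.elim _ _)
  · rw [if_neg hκ]
    obtain ⟨k₀⟩ : Nonempty κ := Fintype.card_pos_iff.mp (Nat.pos_of_ne_zero hκ)
    have hF : ringChar F ≠ 2 := by
      intro h
      apply h2
      have := ringChar.Nat.cast_ringChar (R := F)
      rw [h] at this
      exact_mod_cast this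
    let D : F → Matrix κ κ F := fun a => Matrix.diagonal (fun k => if k = k₀ then a else 1)
    have hDdet : ∀ a, (D a).det = a := by
      intro a
      simp [D, Matrix.det_diagonal]
    have hDsym : ∀ a, (D a)ᵀ = D a := fun a => Matrix.diagonal_transpose _
    have hDD : ∀ a s, D (s ^ 2 * a) = (D s)ᵀ * D a * D s := by
      intro a s
      rw [hDsym]
      simp only [D, Matrix.diagonal_mul_diagonal]
      congr 1
      funext k
      split_ifs
      · ring
      · ring
    have hsq : ∀ (β β' g : Matrix κ κ F), IsUnit g.det → β' = gᵀ * β * g →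
        (IsSquare β'.det ↔ IsSquare β.det) := by
      intro β β' g hg h
      apply sq_iff hg.ne_zero
      rw [h, Matrix.det_mul, Matrix.det_mul, Matrix.det_transpose]
    have hcong : ∀ β β' : {β : Matrix κ κ F // IsSymT i β},
        (IsSquare β.1.det ↔ IsSquare β'.1.det) → congRel i β β' := by
      intro β β' h
      obtain ⟨g, a, hg, ha, hga⟩ :=
        normal_form h2 k₀ β.1 ((hsymT _).mp β.2).2 ((hsymT _).mp β.2).1
      obtain ⟨g', a', hg', ha', hga'⟩ :=
        normal_form h2 k₀ β'.1 ((hsymT _).mp β'.2).2 ((hsymT _).mp β'.2).1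
      have h1 : IsSquare a ↔ IsSquare β.1.det := by
        have := hsq β.1 (D a) g hg hga.symm
        rwa [hDdet] at this
      have h1' : IsSquare a' ↔ IsSquare β'.1.det := by
        have := hsq β'.1 (D a') g' hg' hga'.symm
        rwa [hDdet] at this
      obtain ⟨s, hs0, hs⟩ := sq_ratio hF ha ha' (h1.trans (h.trans h1'.symm))
      have e1 : D a = gᵀ * β.1 * g := hga.symm
      have e2 : D a' = (D s)ᵀ * D a * D s := by rw [hs, hDD]
      have e3 : β'.1 = (g'⁻¹)ᵀ * D a' * g'⁻¹ := congm_symm hg' hga'.symm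
      refine ⟨g * D s * g'⁻¹, ?_, congm_trans (congm_trans e1 e2) e3⟩
      rw [Matrix.det_mul, Matrix.det_mul, hDdet]
      exact (hg.mul (isUnit_iff_ne_zero.mpr hs0)).mul
        ((Matrix.isUnit_nonsing_inv_det_iff).mpr hg')
    let f : Quot (congRel (F := F) (ι := κ) i) → Prop :=
      Quot.lift (fun β => IsSquare β.1.det)
        (fun β β' h => by
          obtain ⟨g, hg, h⟩ := h
          exact propext (hsq β.1 β'.1 g hg h).symm)
    have hinj : Function.Injective f := by
      intro q q'
      induction q using Quot.ind with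
      | _ b =>
        induction q' using Quot.ind with
        | _ b' =>
          intro h
          exact Quot.sound (hcong b b' (Iff.of_eq h))
    have hsurj : Function.Surjective f := by
      intro P
      by_cases hP : P
      · refine ⟨Quot.mk _ ⟨1, (hsymT 1).mpr ⟨by simp, Matrix.transpose_one⟩⟩, ?_⟩
        show IsSquare (1 : Matrix κ κ F).det = P
        rw [Matrix.det_one]
        exact propext ⟨fun _ => hP, fun _ => IsSquare.one⟩
      · obtain ⟨ε, hε⟩ := FiniteField.exists_nonsquare hF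
        have hε0 : ε ≠ 0 := by
          rintro rfl
          exact hε IsSquare.zero
        refine ⟨Quot.mk _ ⟨D ε, (hsymT _).mpr
          ⟨by rw [hDdet]; exact isUnit_iff_ne_zero.mpr hε0, hDsym ε⟩⟩, ?_⟩
        show IsSquare (D ε).det = P
        rw [hDdet]
        exact propext ⟨fun h => absurd h hε, fun h => absurd h hP⟩
    rw [Nat.card_congr (Equiv.ofBijective f ⟨hinj, hsurj⟩), Nat.card_eq_fintype_card,
      Fintype.card_prop]

end Cfsg.Agent.Helper1.SPCSYMCLS
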