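import Cfsg.Agent.Helper1.Tools2

set_option autoImplicit false
open Pointwise

namespace Cfsg.Agent.Helper1

universe u

section basics

variable {G : Type*} [Group G]

theorem isComplement'_of_card_eq_index [Finite G] {N H : Subgroup G}
    (hH : Nat.card H = N.index) (hcop : (Nat.card N).Coprime N.index) :
    Subgroup.IsComplement' N H :=
  Subgroup.isComplement'_of_coprime (by rw [hH, Subgroup.card_mul_index]) (by rw [hH]; exact hcop)

theorem card_eq_index_of_isComplement' {N H : Subgroup G} (h : Subgroup.IsComplement' N H) :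
    Nat.card H = N.index :=
  (h.symm.index_eq_card).symm

theorem isSolvable_of_le {R N : Subgroup G} (hRN : R ≤ N) [Group.IsSolvable N] :
    Group.IsSolvable R :=
  Group.isSolvable_of_isSolvable_injective (Subgroup.inclusion_injective hRN)

theorem isSolvable_map {Q : Type*} [Group Q] (f : G →* Q) (N : Subgroup G) [Group.IsSolvable N] :
    Group.IsSolvable (N.map f) :=
  Group.isSolvable_of_surjective (f.subgroupMap_surjective N)

theorem isSolvable_quot_map {Q : Type*} [Group Q] (f : G →* Q) (hf : Function.Surjective f)
    (N : Subgroup G) [N.Normal] [(N.map f).Normal] [Group.IsSolvable (G ⧸ N)] :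
    Group.IsSolvable (Q ⧸ N.map f) := by
  have hle : N ≤ (N.map f).comap f := Subgroup.le_comap_map f N
  have hs : Function.Surjective (QuotientGroup.map N (N.map f) f hle) := by
    intro q
    induction q using QuotientGroup.induction_on with
    | H z =>
      obtain ⟨x, rfl⟩ := hf z
      exact ⟨(x : G ⧸ N), QuotientGroup.map_mk N (N.map f) f hle x⟩
  exact Group.isSolvable_of_surjective hs

theorem isSolvable_quot_subgroupOf (N L : Subgroup G) [N.Normal] [Group.IsSolvable (G ⧸ N)] :
    Group.IsSolvable (L ⧸ N.subgroupOf L) := by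
  have hle : N.subgroupOf L ≤ N.comap L.subtype := le_rfl
  have hi : Function.Injective (QuotientGroup.map (N.subgroupOf L) N L.subtype hle) := by
    rw [injective_iff_map_eq_one]
    intro q
    induction q using QuotientGroup.induction_on with
    | H z =>
      intro hz
      rw [QuotientGroup.map_mk, QuotientGroup.eq_one_iff] at hz
      rw [QuotientGroup.eq_one_iff]
      exact hz
  exact Group.isSolvable_of_isSolvable_injective hi

/-- Images of complements of a normal Hall subgroup are complements. -/
theorem isComplement'_map [Finite G] {Q : Type*} [Group Q] (f : G →* Q)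
    (hf : Function.Surjective f) {N H : Subgroup G} [N.Normal]
    (hcop : (Nat.card N).Coprime N.index) (h : Subgroup.IsComplement' N H) :
    Subgroup.IsComplement' (N.map f) (H.map f) := by
  have hn : (N.map f).Normal := Subgroup.Normal.map inferInstance f hf
  apply Subgroup.isComplement'_of_disjoint_and_mul_eq_univ
  · apply Subgroup.disjoint_of_coprime_natCard
    refine Nat.Coprime.coprime_dvd_left (Subgroup.card_map_dvd N f) ?_
    refine Nat.Coprime.coprime_dvd_right (Subgroup.card_map_dvd H f) ?_
    rw [card_eq_index_of_isComplement' h]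
    exact hcop
  · rw [← Subgroup.normal_mul, ← Subgroup.map_sup, h.sup_eq_top,
      Subgroup.map_top_of_surjective f hf, Subgroup.coe_top]

theorem coprime_map [Finite G] {Q : Type*} [Group Q] (f : G →* Q)
    (hf : Function.Surjective f) {N : Subgroup G}
    (hcop : (Nat.card N).Coprime N.index) :
    (Nat.card (N.map f)).Coprime (N.map f).index :=
  Nat.Coprime.coprime_dvd_left (Subgroup.card_map_dvd N f)
    (Nat.Coprime.coprime_dvd_right (Subgroup.index_map_dvd N hf) hcop)

theorem card_quotient_lt [Finite G] (R : Subgroup G) (hR : R ≠ ⊥) :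
    Nat.card (G ⧸ R) < Nat.card G := by
  have hq := card_quotient_mul_card R
  have hR1 : 1 < Nat.card R := (Subgroup.one_lt_card_iff_ne_bot R).mpr hR
  have : 0 < Nat.card (G ⧸ R) := Nat.card_pos
  nlinarith

theorem card_lt_of_ne_top [Finite G] (L : Subgroup G) (hL : L ≠ ⊤) :
    Nat.card L < Nat.card G := by
  have h1 := Subgroup.card_mul_index L
  have h2 : 1 < L.index := Subgroup.one_lt_index_of_ne_top hL
  have : 0 < Nat.card L := Nat.card_pos
  nlinarith

end basics

/-- Schur–Zassenhaus conjugacy, normal Hall subgroup solvable. -/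
theorem sz_conj_solvable_aux (k : ℕ) : ∀ (G : Type u) [Group G] [Finite G] (N : Subgroup G)
    [N.Normal] [Group.IsSolvable N], Nat.card G = k → (Nat.card N).Coprime N.index →
    ∀ H K : Subgroup G, Subgroup.IsComplement' N H → Subgroup.IsComplement' N K →
    ∃ g : G, MulAut.conj g • H = K := by
  induction k using Nat.strong_induction_on with
  | _ k ih =>
    intro G _ _ N _ _ hk hcop H K hH hK
    by_cases hN : N = ⊥
    · subst hN
      rw [Subgroup.isComplement'_bot_left] at hH hK
      exact ⟨1, by rw [map_one, one_smul, hH, hK]⟩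
    · obtain ⟨R, hRn, hRN, hR0, hRmin⟩ := exists_minNormal N hN
      have hRs : Group.IsSolvable R := isSolvable_of_le hRN
      obtain ⟨hRc, -⟩ := minNormal_elemAbelian R hR0 hRmin
      have hsurj := QuotientGroup.mk'_surjective R
      have hNq : (N.map (QuotientGroup.mk' R)).Normal := Subgroup.Normal.map inferInstance _ hsurj
      have hNqs : Group.IsSolvable (N.map (QuotientGroup.mk' R)) := isSolvable_map _ N
      obtain ⟨gq, hgq⟩ := ih _ (hk ▸ card_quotient_lt R hR0) (G ⧸ R) (N.map (QuotientGroup.mk' R))
        rfl (coprime_map _ hsurj hcop) _ _ (isComplement'_map _ hsurj hcop hH)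
        (isComplement'_map _ hsurj hcop hK)
      obtain ⟨g, rfl⟩ := hsurj gq
      rw [← map_conj_smul] at hgq
      have hsup : MulAut.conj g • H ⊔ R = K ⊔ R := by
        rw [← comap_map_mk', ← comap_map_mk', hgq]
      have hcopR : ∀ L : Subgroup G, Subgroup.IsComplement' N L →
          (Nat.card R).Coprime (Nat.card L) := by
        intro L hL
        rw [card_eq_index_of_isComplement' hL]
        exact Nat.Coprime.coprime_dvd_left (Subgroup.card_dvd_of_le hRN) hcop
      obtain ⟨a, -, ha⟩ := conj_of_sup_eq_abelian R (MulAut.conj g • H) K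
        (by rw [card_conj_smul]; exact hcopR H hH) (hcopR K hK)
        (by rw [sup_comm, hsup, sup_comm])
      refine ⟨a * g, ?_⟩
      rw [map_mul, mul_smul, ha]

/-- Schur–Zassenhaus conjugacy, quotient solvable. -/
theorem sz_conj_quot_solvable_aux (k : ℕ) : ∀ (G : Type u) [Group G] [Finite G] (N : Subgroup G)
    [N.Normal] [Group.IsSolvable (G ⧸ N)], Nat.card G = k → (Nat.card N).Coprime N.index →
    ∀ H K : Subgroup G, Subgroup.IsComplement' N H → Subgroup.IsComplement' N K →
    ∃ g : G, MulAut.conj g • H = K := by
  induction k using Nat.strong_induction_on with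
  | _ k ih =>
    intro G _ _ N _ _ hk hcop H K hH hK
    by_cases hN : N = ⊤
    · subst hN
      rw [Subgroup.isComplement'_top_left] at hH hK
      exact ⟨1, by rw [map_one, one_smul, hH, hK]⟩
    · have hnt : Nontrivial (G ⧸ N) := by
        rw [← Finite.one_lt_card_iff_nontrivial]
        exact Subgroup.one_lt_index_of_ne_top hN
      obtain ⟨Mq, hMqn, -, hMq0, hMqmin⟩ := exists_minNormal (⊤ : Subgroup (G ⧸ N)) top_ne_bot
      obtain ⟨-, p, hp, hMqp⟩ := minNormal_elemAbelian Mq hMq0 hMqmin
      have : Fact p.Prime := ⟨hp⟩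
      have hpg : IsPGroup p Mq := fun x => ⟨1, by
        rw [pow_one]; exact Subtype.ext (by simpa using hMqp x x.2)⟩
      obtain ⟨j, hj⟩ := hpg.exists_card_eq
      have hj0 : j ≠ 0 := by
        rintro rfl
        have h1 : 1 < Nat.card Mq := (Subgroup.one_lt_card_iff_ne_bot Mq).mpr hMq0
        rw [hj, pow_zero] at h1
        exact lt_irrefl 1 h1
      have hMn : (Mq.comap (QuotientGroup.mk' N)).Normal := hMqn.comap _
      have hMidx : (Mq.comap (QuotientGroup.mk' N)).index = Mq.index :=
        Subgroup.index_comap_of_surjective Mq (QuotientGroup.mk'_surjective N)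
      have hNM : N ≤ Mq.comap (QuotientGroup.mk' N) := by
        have := MonoidHom.ker_le_comap (QuotientGroup.mk' N) Mq
        rwa [QuotientGroup.ker_mk'] at this
      -- for every complement `L` of `N`, `L ⊓ M` has order `p ^ j`
      have hcardLM : ∀ L : Subgroup G, Subgroup.IsComplement' N L →
          Nat.card (L ⊓ Mq.comap (QuotientGroup.mk' N) : Subgroup G) = p ^ j := by
        intro L hL
        have hsup : L ⊔ Mq.comap (QuotientGroup.mk' N) = ⊤ := by
          rw [eq_top_iff, ← hL.sup_eq_top, sup_comm]
          exact sup_le_sup_left hNM L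
        have h1 : (L ⊓ Mq.comap (QuotientGroup.mk' N)).relIndex L = Mq.index := by
          rw [Subgroup.inf_relIndex_left, ← Subgroup.relIndex_sup_right L, hsup,
            Subgroup.relIndex_top_right, hMidx]
        have h2 : Nat.card (L ⊓ Mq.comap (QuotientGroup.mk' N) : Subgroup G) *
            (L ⊓ Mq.comap (QuotientGroup.mk' N)).relIndex L = Nat.card L := by
          have := Subgroup.card_mul_index ((L ⊓ Mq.comap (QuotientGroup.mk' N)).subgroupOf L)
          rwa [card_subgroupOf_of_le inf_le_left] at this
        have h3 : Nat.card L = Nat.card Mq * Mq.index := by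
          rw [card_eq_index_of_isComplement' hL, Subgroup.card_mul_index]
          rfl
        rw [h1, h3] at h2
        have hpos : 0 < Mq.index := Nat.pos_of_ne_zero Subgroup.index_ne_zero_of_finite
        rw [← hj]
        exact Nat.eq_of_mul_eq_mul_right hpos h2
      have hMcard : Nat.card (Mq.comap (QuotientGroup.mk' N)) = p ^ j * Nat.card N := by
        rw [card_comap_mk', hj]
      have hpN : ¬ p ∣ Nat.card N := by
        intro hpN
        have hpi : p ∣ N.index := by
          have h1 : Nat.card Mq ∣ Nat.card (G ⧸ N) := Subgroup.card_subgroup_dvd_card Mq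
          rw [hj] at h1
          exact (dvd_pow_self p hj0).trans h1
        exact hp.one_lt.ne' (Nat.eq_one_of_dvd_coprimes hcop hpN hpi)
      have hsyl : ∀ L : Subgroup G, Subgroup.IsComplement' N L →
          ∃ S : Sylow p (Mq.comap (QuotientGroup.mk' N)), (S : Subgroup (Mq.comap (QuotientGroup.mk' N))) =
            (L ⊓ Mq.comap (QuotientGroup.mk' N)).subgroupOf (Mq.comap (QuotientGroup.mk' N)) := by
        intro L hL
        have hc : Nat.card ((L ⊓ Mq.comap (QuotientGroup.mk' N)).subgroupOf
            (Mq.comap (QuotientGroup.mk' N))) = p ^ j := by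
          rw [card_subgroupOf_of_le inf_le_right, hcardLM L hL]
        have hidx : ¬ p ∣ ((L ⊓ Mq.comap (QuotientGroup.mk' N)).subgroupOf
            (Mq.comap (QuotientGroup.mk' N))).index := by
          have h1 := Subgroup.card_mul_index ((L ⊓ Mq.comap (QuotientGroup.mk' N)).subgroupOf
            (Mq.comap (QuotientGroup.mk' N)))
          rw [hc, hMcard] at h1
          have : ((L ⊓ Mq.comap (QuotientGroup.mk' N)).subgroupOf
              (Mq.comap (QuotientGroup.mk' N))).index = Nat.card N :=
            Nat.eq_of_mul_eq_mul_left (pow_pos hp.pos j) h1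
          rw [this]; exact hpN
        exact ⟨(IsPGroup.of_card hc).toSylow hidx, rfl⟩
      obtain ⟨S₁, hS₁⟩ := hsyl H hH
      obtain ⟨S₂, hS₂⟩ := hsyl K hK
      obtain ⟨x, hx⟩ := MulAction.exists_smul_eq (Mq.comap (QuotientGroup.mk' N)) S₁ S₂
      have hx' : MulAut.conj x • (H ⊓ Mq.comap (QuotientGroup.mk' N)).subgroupOf
          (Mq.comap (QuotientGroup.mk' N)) =
          (K ⊓ Mq.comap (QuotientGroup.mk' N)).subgroupOf (Mq.comap (QuotientGroup.mk' N)) := by
        rw [← hS₁, ← hS₂, ← hx]; rfl
      have hx'' : MulAut.conj (x : G) • (H ⊓ Mq.comap (QuotientGroup.mk' N)) =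
          K ⊓ Mq.comap (QuotientGroup.mk' N) :=
        conj_of_subgroupOf_conj inf_le_right inf_le_right x hx'
      have hH₁c : Subgroup.IsComplement' N (MulAut.conj (x : G) • H) :=
        isComplement'_of_card_eq_index
          (by rw [card_conj_smul]; exact card_eq_index_of_isComplement' hH) hcop
      have hP : (MulAut.conj (x : G) • H) ⊓ Mq.comap (QuotientGroup.mk' N) =
          K ⊓ Mq.comap (QuotientGroup.mk' N) := by
        rw [← hx'', Subgroup.smul_inf,
          Subgroup.Normal.conj_smul_eq_self (x : G) (Mq.comap (QuotientGroup.mk' N))]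
      have hP0 : K ⊓ Mq.comap (QuotientGroup.mk' N) ≠ ⊥ := by
        rw [← Subgroup.one_lt_card_iff_ne_bot, hcardLM K hK]
        exact Nat.one_lt_pow hj0 hp.one_lt
      have hnorm : ∀ L : Subgroup G, L ⊓ Mq.comap (QuotientGroup.mk' N) =
          K ⊓ Mq.comap (QuotientGroup.mk' N) →
          L ≤ Subgroup.normalizer ((K ⊓ Mq.comap (QuotientGroup.mk' N) : Subgroup G) : Set G) := by
        intro L hL l hl
        rw [mem_normalizer_iff_conj_smul_eq, ← hL, Subgroup.smul_inf,
          Subgroup.conj_smul_eq_self_of_mem hl,
          Subgroup.Normal.conj_smul_eq_self l (Mq.comap (QuotientGroup.mk' N))]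
      by_cases hLtop : Subgroup.normalizer
          ((K ⊓ Mq.comap (QuotientGroup.mk' N) : Subgroup G) : Set G) = ⊤
      · have hPn : (K ⊓ Mq.comap (QuotientGroup.mk' N)).Normal :=
          Subgroup.normalizer_eq_top_iff.mp hLtop
        have hsurj := QuotientGroup.mk'_surjective (K ⊓ Mq.comap (QuotientGroup.mk' N))
        have hNq : (N.map (QuotientGroup.mk' (K ⊓ Mq.comap (QuotientGroup.mk' N)))).Normal :=
          Subgroup.Normal.map inferInstance _ hsurj
        have hNqs : Group.IsSolvable ((G ⧸ (K ⊓ Mq.comap (QuotientGroup.mk' N))) ⧸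
            N.map (QuotientGroup.mk' (K ⊓ Mq.comap (QuotientGroup.mk' N)))) :=
          isSolvable_quot_map _ hsurj N
        obtain ⟨gq, hgq⟩ := ih _ (hk ▸ card_quotient_lt _ hP0)
          (G ⧸ (K ⊓ Mq.comap (QuotientGroup.mk' N)))
          (N.map (QuotientGroup.mk' (K ⊓ Mq.comap (QuotientGroup.mk' N)))) rfl
          (coprime_map _ hsurj hcop) _ _ (isComplement'_map _ hsurj hcop hH₁c)
          (isComplement'_map _ hsurj hcop hK)
        obtain ⟨g, rfl⟩ := hsurj gq
        rw [← map_conj_smul] at hgq
        have hsup : MulAut.conj g • (MulAut.conj (x : G) • H) ⊔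
            (K ⊓ Mq.comap (QuotientGroup.mk' N)) = K ⊔ (K ⊓ Mq.comap (QuotientGroup.mk' N)) := by
          rw [← comap_map_mk', ← comap_map_mk', hgq]
        have h1 : K ⊓ Mq.comap (QuotientGroup.mk' N) ≤ MulAut.conj g • (MulAut.conj (x : G) • H) := by
          have : MulAut.conj g • ((MulAut.conj (x : G) • H) ⊓ Mq.comap (QuotientGroup.mk' N)) ≤
              MulAut.conj g • (MulAut.conj (x : G) • H) :=
            Subgroup.pointwise_smul_le_pointwise_smul_iff.mpr inf_le_left
          rwa [hP, Subgroup.Normal.conj_smul_eq_self g (K ⊓ Mq.comap (QuotientGroup.mk' N))] at this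
        rw [sup_of_le_left h1, sup_of_le_left inf_le_left] at hsup
        refine ⟨g * x, ?_⟩
        rw [map_mul, mul_smul]; exact hsup
      · have hH₁L := hnorm _ hP
        have hKL := hnorm K rfl
        have hNLs := isSolvable_quot_subgroupOf N (Subgroup.normalizer
          ((K ⊓ Mq.comap (QuotientGroup.mk' N) : Subgroup G) : Set G))
        have hidx : (N.subgroupOf (Subgroup.normalizer
            ((K ⊓ Mq.comap (QuotientGroup.mk' N) : Subgroup G) : Set G))).index = N.index := by
          have hs : Subgroup.normalizer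
              ((K ⊓ Mq.comap (QuotientGroup.mk' N) : Subgroup G) : Set G) ⊔ N = ⊤ := by
            rw [eq_top_iff, ← hK.sup_eq_top, sup_comm]
            exact sup_le_sup_right hKL N
          change N.relIndex _ = N.index
          rw [← Subgroup.relIndex_sup_right _ N, hs, Subgroup.relIndex_top_right]
        have hcopL : (Nat.card (N.subgroupOf (Subgroup.normalizer
            ((K ⊓ Mq.comap (QuotientGroup.mk' N) : Subgroup G) : Set G)))).Coprime
            (N.subgroupOf (Subgroup.normalizer
            ((K ⊓ Mq.comap (QuotientGroup.mk' N) : Subgroup G) : Set G))).index := by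
          rw [hidx]
          exact Nat.Coprime.coprime_dvd_left
            (Subgroup.card_comap_dvd_of_injective N (Subgroup.subtype _)
              (Subgroup.subtype_injective _)) hcop
        have hc : ∀ J : Subgroup G, J ≤ Subgroup.normalizer
            ((K ⊓ Mq.comap (QuotientGroup.mk' N) : Subgroup G) : Set G) →
            Subgroup.IsComplement' N J →
            Subgroup.IsComplement' (N.subgroupOf (Subgroup.normalizer
              ((K ⊓ Mq.comap (QuotientGroup.mk' N) : Subgroup G) : Set G)))
              (J.subgroupOf (Subgroup.normalizer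
              ((K ⊓ Mq.comap (QuotientGroup.mk' N) : Subgroup G) : Set G))) := by
          intro J hJL hJ
          apply isComplement'_of_card_eq_index _ hcopL
          rw [card_subgroupOf_of_le hJL, hidx, card_eq_index_of_isComplement' hJ]
        obtain ⟨l, hl⟩ := ih _ (hk ▸ card_lt_of_ne_top _ hLtop)
          (Subgroup.normalizer ((K ⊓ Mq.comap (QuotientGroup.mk' N) : Subgroup G) : Set G))
          (N.subgroupOf _) rfl hcopL _ _ (hc _ hH₁L hH₁c) (hc K hKL hK)
        refine ⟨(l : G) * x, ?_⟩
        rw [map_mul, mul_smul]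
        exact conj_of_subgroupOf_conj hH₁L hKL l hl

end Cfsg.Agent.Helper1
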